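import Groth.Agent.AlgSp.K93.RFThm
import Groth.Agent.Dix.NormalLoc

/-!
# Normality of good models
-/

set_option autoImplicit false
universe u

open CategoryTheory CategoryTheory.Limits AlgebraicGeometry TensorProduct nonZeroDivisors

noncomputable section

namespace K93.RedFib

open Groth.Agent

/-- A smooth generic fibre is geometrically normal. -/
theorem GN.of_smooth {R : Type u} [CommRing R] [IsDomain R] (K : Type u) [Field K] [Algebra R K] [IsFractionRing R K]
    {X : Scheme.{u}} (g : X ⟶ Spec (.of R))
    [Smooth (pullback.snd g (Spec.map (CommRingCat.ofHom (algebraMap R K))))] : GN g := by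
  intro K' _ _ hinj
  let i : Algebra K K' := (IsFractionRing.lift hinj).toAlgebra
  have t : IsScalarTower R K K' := IsScalarTower.of_algebraMap_eq fun x =>
    (IsFractionRing.lift_algebraMap hinj x).symm
  have h1 := isPullback_comp (IsPullback.of_hasPullback g (Spec.map (CommRingCat.ofHom (algebraMap R K)))) (K' := K')
  have h2 : Smooth (pullback.snd (pullback.snd g (Spec.map (CommRingCat.ofHom (algebraMap R K))))
    (Spec.map (CommRingCat.ofHom (algebraMap K K')))) := inferInstance
  refine isNormalScheme_of_iso h1.isoPullback.symm fun x => ?_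
  exact Dix.NormalLoc.stalk_of_smooth (pullback.snd (pullback.snd g (Spec.map (CommRingCat.ofHom (algebraMap R K))))
    (Spec.map (CommRingCat.ofHom (algebraMap K K')))) x

theorem isReduced_quotient {P D : Type u} [CommRing P] [CommRing D] [Algebra P D] (p : P)
    (h : _root_.IsReduced (D ⊗[P] (P ⧸ Ideal.span {p}))) : _root_.IsReduced (D ⧸ Ideal.span {algebraMap P D p}) := by
  have hmap : (Ideal.span {p}).map (algebraMap P D) = Ideal.span {algebraMap P D p} := by
    rw [Ideal.map_span, Set.image_singleton]
  rw [← hmap]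
  let e : (D ⧸ (Ideal.span {p}).map (algebraMap P D)) ≃ₐ[D] D ⊗[P] (P ⧸ Ideal.span {p}) :=
    Algebra.TensorProduct.quotIdealMapEquivTensorQuot D (Ideal.span {p})
  exact isReduced_of_injective e.toRingEquiv.toRingHom e.injective

/-- Flat over a principal ideal domain, normal generic fibre, reduced special fibres: normal. -/
theorem isNormalScheme_of_flat {P : Type u} [CommRing P] [IsDomain P] [IsPrincipalIdealRing P]
    (F : Type u) [Field F] [Algebra P F] [IsFractionRing P F] {Y : Scheme.{u}} (h : Y ⟶ Spec (.of P))
    [Flat h] [LocallyOfFiniteType h]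
    (hgen : Pi1.IsNormalScheme (pullback h (Spec.map (CommRingCat.ofHom (algebraMap P F)))))
    (hsp : ∀ (k : Type u) [Field k] [Algebra P k], Function.Surjective (algebraMap P k) →
      IsReduced (pullback h (Spec.map (CommRingCat.ofHom (algebraMap P k))))) : Pi1.IsNormalScheme Y := by
  intro y
  obtain ⟨_, ⟨U, hU', rfl⟩, hxU, -⟩ :=
    Y.isBasis_affineOpens.exists_subset_of_mem_open (Set.mem_univ y) isOpen_univ
  have hU : IsAffineOpen U := hU'
  refine An.H526.T3.stalk_of_isNormalRing U hU ?_ y hxU
  obtain ⟨a1, a2, a3, a4, a5, t1, t2, l1, l2, e1, e2, e3, e4, e5⟩ := local_data (g := h) (F := F) hU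
  have hft : Algebra.FiniteType P Γ(Y, U) := by
    have := finiteType_str h hU
    rw [← e1] at this
    exact RingHom.finiteType_algebraMap.mp this
  have hfl : Module.Flat P Γ(Y, U) := by
    have := flat_str h hU
    rw [← e1] at this
    exact RingHom.flat_algebraMap_iff.mp this
  have hND : IsNoetherianRing Γ(Y, U) := Algebra.FiniteType.isNoetherianRing P _
  let E := Γ(pullback h (Spec.map (CommRingCat.ofHom (algebraMap P F))), genι h F ⁻¹ᵁ U)
  have hNE : IsNoetherianRing E :=
    IsLocalization.isNoetherianRing (Algebra.algebraMapSubmonoid Γ(Y, U) P⁰) E inferInstance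
  have hE : EGA4.IsNormalRing E :=
    An.H526.T3.isNormalRing_of_isAffineOpen hgen _ (hU.preimage (genι h F))
  refine isNormalRing (R := P) (E := E) hE fun p hp => ?_
  -- the special fibre
  have hmax : (Ideal.span {p}).IsMaximal :=
    ((Ideal.span_singleton_prime hp.ne_zero).mpr hp).isMaximal (fun h0 => hp.ne_zero (Ideal.span_singleton_eq_bot.mp h0))
  let k := P ⧸ Ideal.span {p}
  let _ : Field k := Ideal.Quotient.field _
  have hred := hsp k Ideal.Quotient.mk_surjective
  let j := genι h k
  let g' := pullback.snd h (Spec.map (CommRingCat.ofHom (algebraMap P k)))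
  have hpb : IsPullback j g' h (Spec.map (CommRingCat.ofHom (algebraMap P k))) := IsPullback.of_hasPullback _ _
  let C := Γ(pullback h (Spec.map (CommRingCat.ofHom (algebraMap P k))), j ⁻¹ᵁ U)
  let a2 : Algebra k C := (str g' (j ⁻¹ᵁ U)).toAlgebra
  let a3 : Algebra Γ(Y, U) C := (j.app U).hom.toAlgebra
  let a4 : Algebra P C := ((algebraMap Γ(Y, U) C).comp (algebraMap P Γ(Y, U))).toAlgebra
  have s1 : IsScalarTower P Γ(Y, U) C := IsScalarTower.of_algebraMap_eq' rfl
  have s2 : IsScalarTower P k C := by
    apply IsScalarTower.of_algebraMap_eq'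
    have h5 := (isPushout_str hpb hU).w
    change (algebraMap Γ(Y, U) C).comp (algebraMap P Γ(Y, U)) = _
    rw [e1]
    exact congrArg CommRingCat.Hom.hom h5
  have hpo : Algebra.IsPushout P Γ(Y, U) k C := algebra_isPushout hpb hU e1 rfl rfl
  have hC : _root_.IsReduced C := inferInstance
  have h6 : _root_.IsReduced (Γ(Y, U) ⊗[P] k) :=
    isReduced_of_injective (Algebra.IsPushout.equiv P Γ(Y, U) k C).toRingHom
      (Algebra.IsPushout.equiv P Γ(Y, U) k C).injective
  exact isReduced_quotient p h6

/-- A good model of a scheme with geometrically normal generic fibre stays normal after every base change to a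
principal ideal domain, flat over the base. -/
theorem IsGood.isNormalScheme {R P : Type u} [CommRing R] [CommRing P] [IsDomain P] [IsPrincipalIdealRing P]
    [Algebra R P] (hinj : Function.Injective (algebraMap R P)) {X Y : Scheme.{u}} {g : X ⟶ Spec (.of R)} {ν : Y ⟶ X}
    [LocallyOfFiniteType g] (hg : GN g) (h : IsGood g ν) {Y' : Scheme.{u}} {ι : Y' ⟶ Y} {h' : Y' ⟶ Spec (.of P)}
    (hp : IsPullback ι h' (ν ≫ g) (Spec.map (CommRingCat.ofHom (algebraMap R P)))) : Pi1.IsNormalScheme Y' := by
  have h1 : GN (ν ≫ g) := GN.of_gIso hg h.gIso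
  have h2 : GN h' := h1.baseChange hp hinj
  have hν := h.finite
  have h3 : LocallyOfFiniteType (ν ≫ g) := inferInstance
  have h4 := h.flat
  have h5 := h.reduced
  have h6 : Flat h' := MorphismProperty.of_isPullback hp h4
  have h7 : LocallyOfFiniteType h' := MorphismProperty.of_isPullback hp h3
  have h8 : GeometricallyReduced h' := MorphismProperty.of_isPullback hp h5
  refine isNormalScheme_of_flat (FractionRing P) h' (h2 _ (IsFractionRing.injective P _)) fun k _ _ _ => ?_
  exact h8.geometrically_isReduced _ _ _ (IsPullback.of_hasPullback _ _)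

end K93.RedFib
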