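import Groth.Agent.AlgSp.K93.RFSol
import Groth.Agent.S1980
import Groth.Agent.EtAlg.K362.SolUp

/-!
# Sufficiently large finite extensions; existence of solutions
-/

set_option autoImplicit false
universe u v

open IsLocalRing EtRam TensorProduct

namespace K93.RedFib

/-- `P` holds for all sufficiently large finite extensions of `K`. -/
def Large (K : Type u) [Field K] (P : ∀ (K₂ : Type u) [Field K₂] [Algebra K K₂], Prop) : Prop :=
  ∃ (K₁ : Type u) (_ : Field K₁) (_ : Algebra K K₁) (_ : FiniteDimensional K K₁),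
    ∀ (K₂ : Type u) [Field K₂] [Algebra K K₂] [Algebra K₁ K₂] [IsScalarTower K K₁ K₂] [FiniteDimensional K K₂],
      P K₂

section large

variable {K : Type u} [Field K]

theorem exists_common (K₁ K₂ : Type u) [Field K₁] [Algebra K K₁] [FiniteDimensional K K₁] [Field K₂]
    [Algebra K K₂] [FiniteDimensional K K₂] :
    ∃ (K₃ : Type u) (_ : Field K₃) (_ : Algebra K K₃) (_ : FiniteDimensional K K₃) (_ : Algebra K₁ K₃)
      (_ : Algebra K₂ K₃), IsScalarTower K K₁ K₃ ∧ IsScalarTower K K₂ K₃ := by
  have : Nontrivial (K₁ ⊗[K] K₂) := inferInstance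
  obtain ⟨m, hm⟩ := Ideal.exists_maximal (K₁ ⊗[K] K₂)
  let _ : Field ((K₁ ⊗[K] K₂) ⧸ m) := Ideal.Quotient.field m
  let g : K₂ →+* K₁ ⊗[K] K₂ := (Algebra.TensorProduct.includeRight : K₂ →ₐ[K] K₁ ⊗[K] K₂).toRingHom
  let i2 : Algebra K₂ ((K₁ ⊗[K] K₂) ⧸ m) := ((Ideal.Quotient.mk m).comp g).toAlgebra
  have hfin : FiniteDimensional K ((K₁ ⊗[K] K₂) ⧸ m) := inferInstance
  refine ⟨(K₁ ⊗[K] K₂) ⧸ m, inferInstance, inferInstance, hfin, inferInstance, i2, inferInstance, ?_⟩
  refine IsScalarTower.of_algebraMap_eq fun x => ?_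
  change Ideal.Quotient.mk m (algebraMap K (K₁ ⊗[K] K₂) x) = Ideal.Quotient.mk m (g (algebraMap K K₂ x))
  exact congrArg (Ideal.Quotient.mk m)
    ((Algebra.TensorProduct.includeRight : K₂ →ₐ[K] K₁ ⊗[K] K₂).commutes x).symm

variable {P Q : ∀ (K₂ : Type u) [Field K₂] [Algebra K K₂], Prop}

theorem Large.mono (h : Large K P) (hPQ : ∀ (K₂ : Type u) [Field K₂] [Algebra K K₂] [FiniteDimensional K K₂],
    P K₂ → Q K₂) : Large K Q := by
  obtain ⟨K₁, i1, i2, i3, h1⟩ := h
  exact ⟨K₁, i1, i2, i3, fun K₂ _ _ _ _ _ => hPQ K₂ (h1 K₂)⟩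

theorem Large.and (hP : Large K P) (hQ : Large K Q) :
    Large K (fun K₂ => P K₂ ∧ Q K₂) := by
  obtain ⟨K₁, i1, i2, i3, h1⟩ := hP
  obtain ⟨K₁', i1', i2', i3', h1'⟩ := hQ
  obtain ⟨K₃, j1, j2, j3, j4, j5, j6, j7⟩ := exists_common (K := K) K₁ K₁'
  refine ⟨K₃, j1, j2, j3, ?_⟩
  intro K₂ _ _ _ _ _
  constructor
  · let a1 : Algebra K₁ K₂ := ((algebraMap K₃ K₂).comp (algebraMap K₁ K₃)).toAlgebra
    have a2 : IsScalarTower K K₁ K₂ := IsScalarTower.of_algebraMap_eq fun x => by
      change _ = algebraMap K₃ K₂ (algebraMap K₁ K₃ (algebraMap K K₁ x))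
      rw [← IsScalarTower.algebraMap_apply K K₁ K₃, ← IsScalarTower.algebraMap_apply K K₃ K₂]
    exact h1 K₂
  · let a1 : Algebra K₁' K₂ := ((algebraMap K₃ K₂).comp (algebraMap K₁' K₃)).toAlgebra
    have a2 : IsScalarTower K K₁' K₂ := IsScalarTower.of_algebraMap_eq fun x => by
      change _ = algebraMap K₃ K₂ (algebraMap K₁' K₃ (algebraMap K K₁' x))
      rw [← IsScalarTower.algebraMap_apply K K₁' K₃, ← IsScalarTower.algebraMap_apply K K₃ K₂]
    exact h1' K₂

theorem Large.of_forall (h : ∀ (K₂ : Type u) [Field K₂] [Algebra K K₂] [FiniteDimensional K K₂], P K₂) :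
    Large K P :=
  ⟨K, inferInstance, inferInstance, inferInstance, fun K₂ i1 i2 _ _ i5 => @h K₂ i1 i2 i5⟩

theorem Large.forall_mem {ι : Type v} (s : Finset ι) (F : ι → ∀ (K₂ : Type u) [Field K₂] [Algebra K K₂], Prop)
    (h : ∀ i ∈ s, Large K (F i)) : Large K (fun K₂ => ∀ i ∈ s, F i K₂) := by
  classical
  induction s using Finset.induction_on with
  | empty => exact Large.of_forall fun K₂ _ _ _ i hi => absurd hi (Finset.notMem_empty i)
  | insert a s ha ih =>
    refine ((h a (Finset.mem_insert_self a s)).and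
      (ih fun i hi => h i (Finset.mem_insert_of_mem hi))).mono fun K₂ _ _ _ h2 i hi => ?_
    rcases Finset.mem_insert.mp hi with rfl | hi
    · exact h2.1
    · exact h2.2 i hi

theorem Large.forall_finite {ι : Type v} [Finite ι] (F : ι → ∀ (K₂ : Type u) [Field K₂] [Algebra K K₂], Prop)
    (h : ∀ i, Large K (F i)) : Large K (fun K₂ => ∀ i, F i K₂) := by
  classical
  have := Fintype.ofFinite ι
  exact (Large.forall_mem Finset.univ F (fun i _ => h i)).mono fun K₂ _ _ _ h2 i => h2 i (Finset.mem_univ i)

end large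

/-- Localizations of normal Noetherian domains at primes of height one are discrete valuation rings. -/
theorem isDVR_of_height_one {A : Type u} [CommRing A] [IsDomain A] [IsNoetherianRing A] [IsIntegrallyClosed A]
    (P : Ideal A) [P.IsPrime] (hP : P.height = 1) :
    IsDiscreteValuationRing (Localization.AtPrime P) := by
  have h1 : IsDomain (Localization.AtPrime P) :=
    IsLocalization.isDomain_localization (Ideal.primeCompl_le_nonZeroDivisors P)
  have h2 : IsNoetherianRing (Localization.AtPrime P) :=
    IsLocalization.isNoetherianRing P.primeCompl _ inferInstance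
  have h3 : IsIntegrallyClosed (Localization.AtPrime P) :=
    isIntegrallyClosed_of_isLocalization _ P.primeCompl (Ideal.primeCompl_le_nonZeroDivisors P)
  have hmax : (IsLocalRing.maximalIdeal (Localization.AtPrime P)).height = 1 := by
    have h4 := IsLocalization.height_under P.primeCompl
      (IsLocalRing.maximalIdeal (Localization.AtPrime P))
    rw [IsLocalization.AtPrime.under_maximalIdeal (Localization.AtPrime P) P, hP] at h4
    exact h4.symm
  have hne : IsLocalRing.maximalIdeal (Localization.AtPrime P) ≠ ⊥ :=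
    Ideal.ne_bot_of_height_eq_one hmax
  have hnf : ¬ IsField (Localization.AtPrime P) := by
    rw [IsLocalRing.isField_iff_maximalIdeal_eq]
    exact hne
  suffices h5 : IsIntegrallyClosed (Localization.AtPrime P) ∧
      ∃! Q : Ideal (Localization.AtPrime P), Q ≠ ⊥ ∧ Q.IsPrime from
    ((IsDiscreteValuationRing.TFAE (Localization.AtPrime P) hnf).out 3 0).1 h5
  refine ⟨h3, IsLocalRing.maximalIdeal (Localization.AtPrime P), ⟨hne, inferInstance⟩, ?_⟩
  rintro Q ⟨hQ0, hQ⟩
  by_contra hcon
  have hlt : Q < IsLocalRing.maximalIdeal (Localization.AtPrime P) :=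
    lt_of_le_of_ne (IsLocalRing.le_maximalIdeal hQ.ne_top) hcon
  have h4 := Ideal.height_strict_mono_of_isPrime hlt
  rw [hmax, Order.lt_one_iff, Ideal.height_eq_zero_iff_eq_bot] at h4
  exact hQ0 h4

section

variable {R K A L : Type u} [CommRing R] [IsDedekindDomain R] [Field K] [Algebra R K]
  [IsFractionRing R K]
  [CommRing A] [IsDomain A] [IsIntegrallyClosed A] [IsNoetherianRing A] [Algebra R A] [Algebra.FiniteType R A]
  [Field L] [Algebra A L] [IsFractionRing A L] [Algebra K L] [Algebra R L] [IsScalarTower R A L]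
  [IsScalarTower R K L]

/-- Existence of solutions at primes of height one of the special fibres. -/
theorem exists_solAt (p : Ideal A) [p.IsPrime] (hp : p.height = 1) (hp0 : p.comap (algebraMap R A) ≠ ⊥) :
    Large K (fun K₂ => SolAt A K L K₂ p) := by
  let P₀ : Ideal R := p.comap (algebraMap R A)
  have hP₀ : P₀.IsPrime := inferInstance
  let A' := Localization.AtPrime P₀
  let B := Localization.AtPrime p
  have hA' : IsDiscreteValuationRing A' :=
    IsLocalization.AtPrime.isDiscreteValuationRing_of_dedekind_domain R hp0 A'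
  have hB : IsDiscreteValuationRing B := isDVR_of_height_one p hp
  let f : A' →+* B := Localization.localRingHom P₀ p (algebraMap R A) rfl
  let iAB : Algebra A' B := f.toAlgebra
  have hloc : IsLocalHom (algebraMap A' B) := Localization.isLocalHom_localRingHom _ _ _ _
  have hf : ∀ x, algebraMap A' B (algebraMap R A' x) = algebraMap A B (algebraMap R A x) :=
    fun x => Localization.localRingHom_to_map _ _ _ _ _
  have huR : ∀ y : P₀.primeCompl, IsUnit (algebraMap R K y) := fun y => by
    have hy0 : (y : R) ≠ 0 := fun h => y.2 (by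
      change (y : R) ∈ P₀
      rw [h]; exact zero_mem _)
    exact ((map_ne_zero_iff _ (IsFractionRing.injective R K)).mpr hy0).isUnit
  have huA : ∀ y : p.primeCompl, IsUnit (algebraMap A L y) := fun y => by
    have hy0 : (y : A) ≠ 0 := fun h => y.2 (by
      change (y : A) ∈ p
      rw [h]; exact zero_mem _)
    exact ((map_ne_zero_iff _ (IsFractionRing.injective A L)).mpr hy0).isUnit
  let iA'K : Algebra A' K := (IsLocalization.lift huR).toAlgebra
  have t1 : IsScalarTower R A' K := IsScalarTower.of_algebraMap_eq fun x => (IsLocalization.lift_eq huR x).symm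
  have t1' : IsFractionRing A' K :=
    IsFractionRing.isFractionRing_of_isDomain_of_isLocalization P₀.primeCompl A' K
  let iBL : Algebra B L := (IsLocalization.lift huA).toAlgebra
  have t2 : IsScalarTower A B L := IsScalarTower.of_algebraMap_eq fun x => (IsLocalization.lift_eq huA x).symm
  have t2' : IsFractionRing B L :=
    IsFractionRing.isFractionRing_of_isDomain_of_isLocalization p.primeCompl B L
  let iA'L : Algebra A' L := ((algebraMap K L).comp (algebraMap A' K)).toAlgebra
  have t3 : IsScalarTower A' K L := IsScalarTower.of_algebraMap_eq' rfl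
  have t4 : IsScalarTower A' B L := by
    apply IsScalarTower.of_algebraMap_eq'
    apply IsLocalization.ringHom_ext P₀.primeCompl
    ext r
    change algebraMap K L (algebraMap A' K (algebraMap R A' r)) = algebraMap B L (algebraMap A' B (algebraMap R A' r))
    rw [hf, ← IsScalarTower.algebraMap_apply A B L, ← IsScalarTower.algebraMap_apply R A' K,
      ← IsScalarTower.algebraMap_apply R K L, ← IsScalarTower.algebraMap_apply R A L]
  have hinj : Function.Injective (algebraMap A' B) := by
    have h1 : Function.Injective (algebraMap A' L) := by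
      rw [IsScalarTower.algebraMap_eq A' K L]
      exact (algebraMap K L).injective.comp (IsFractionRing.injective A' K)
    rw [IsScalarTower.algebraMap_eq A' B L, RingHom.coe_comp] at h1
    exact Function.Injective.of_comp h1
  have t6 : IsScalarTower R A' B := IsScalarTower.of_algebraMap_eq fun x => (hf x).symm
  have e1 : Algebra.EssFiniteType A B := Algebra.EssFiniteType.of_isLocalization B p.primeCompl
  have e2 : Algebra.EssFiniteType R B := Algebra.EssFiniteType.comp R A B
  have e3 : Algebra.EssFiniteType A' B := Algebra.EssFiniteType.of_comp R A' B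
  obtain ⟨K₁, i1, i2, i3, hK₁⟩ := Groth.Agent.S1980.result A' B K L hinj
  refine ⟨K₁, i1, i2, i3, ?_⟩
  intro K₂ _ _ _ _ _
  have i4 : FiniteDimensional K₁ K₂ := Module.Finite.of_restrictScalars_finite K K₁ K₂
  exact ⟨B, inferInstance, inferInstance, inferInstance, inferInstance, iBL, t2,
    K362.SolUp.isSolution_up (A := A') hK₁⟩

end

/-- `K₂` is a solution at all primes of height one of the special fibres of `A` over `R`. -/
def AllSol (R A K K₂ : Type u) [CommRing R] [CommRing A] [Algebra R A] [Field K] [Algebra R K] [Field K₂]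
    [Algebra K K₂] : Prop :=
  ∃ (L : Type u) (_ : Field L) (_ : Algebra A L) (_ : IsFractionRing A L) (_ : Algebra K L) (_ : Algebra R L)
    (_ : IsScalarTower R A L) (_ : IsScalarTower R K L),
    ∀ (p : Ideal A) [p.IsPrime], p.height = 1 → p.comap (algebraMap R A) ≠ ⊥ → SolAt A K L K₂ p

/-- Existence of solutions at all primes of height one of the special fibres, over a semi-local base. -/
theorem exists_allSol (R A K : Type u) [CommRing R] [IsDedekindDomain R] [Field K] [Algebra R K]
    [IsFractionRing R K] [CommRing A] [IsDomain A] [IsIntegrallyClosed A] [IsNoetherianRing A] [Algebra R A]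
    [Algebra.FiniteType R A] (hinj : Function.Injective (algebraMap R A)) (a : R) (ha : a ≠ 0)
    (hall : ∀ p : Ideal R, p.IsPrime → p ≠ ⊥ → a ∈ p) :
    Large K (fun K₂ => AllSol R A K K₂) := by
  classical
  let L := FractionRing A
  have hinjL : Function.Injective (algebraMap R L) := by
    rw [IsScalarTower.algebraMap_eq R A L, RingHom.coe_comp]
    exact (IsFractionRing.injective A L).comp hinj
  let iKL : Algebra K L := (IsFractionRing.lift hinjL).toAlgebra
  have t1 : IsScalarTower R K L := IsScalarTower.of_algebraMap_eq fun x =>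
    (IsFractionRing.lift_algebraMap hinjL x).symm
  let T : Set (Ideal A) := {p | p.IsPrime ∧ p.height = 1 ∧ p.comap (algebraMap R A) ≠ ⊥}
  have hT : T.Finite := by
    refine (Ideal.finite_minimalPrimes_of_isNoetherianRing A (Ideal.span {algebraMap R A a})).subset ?_
    rintro P ⟨hP1, hP2, hP3⟩
    have h1 : algebraMap R A a ∈ P := hall (P.comap (algebraMap R A)) (hP1.comap _) hP3
    refine Ideal.mem_minimalPrimes_of_height_le ((Ideal.span_singleton_le_iff_mem _).2 h1) ?_
    rw [hP2]
    exact Ideal.one_le_height_span_singleton_of_mem_nonZeroDivisors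
      (mem_nonZeroDivisors_of_ne_zero ((map_ne_zero_iff _ hinj).mpr ha))
  have := hT.to_subtype
  have h2 : ∀ p : T, Large K (fun K₂ [Field K₂] [Algebra K K₂] => @SolAt A K L K₂ _ _ _ _ _ _ _ p.1 p.2.1) := fun p =>
    @exists_solAt R K A L _ _ _ _ _ _ _ _ _ _ _ _ _ _ _ _ _ _ p.1 p.2.1 p.2.2.1 p.2.2.2
  refine (Large.forall_finite _ h2).mono fun K₂ _ _ _ h3 => ?_
  refine ⟨L, inferInstance, inferInstance, inferInstance, iKL, inferInstance, inferInstance, t1, ?_⟩
  intro p hp1 hp2 hp3
  exact h3 ⟨p, hp1, hp2, hp3⟩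

end K93.RedFib
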