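import Groth.Agent.AlgSp.K93.RFNorm
import Groth.Agent.S6278

/-!
# Lifting along integral morphisms
-/

set_option autoImplicit false
universe u

open CategoryTheory CategoryTheory.Limits AlgebraicGeometry TensorProduct nonZeroDivisors

noncomputable section

namespace K93.RedFib

open Groth.Agent

/-- A normal ring is integrally closed in its localizations at nonzerodivisors. -/
theorem isIntegrallyClosedIn_of_isNormalRing {D E : Type u} [CommRing D] [CommRing E] [Algebra D E]
    (hD : EGA4.IsNormalRing D) (M : Submonoid D) (hM : M ≤ nonZeroDivisors D) [IsLocalization M E] (x : E)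
    (hx : IsIntegral D x) : ∃ d, algebraMap D E d = x := by
  have h1 := S6278.result D hD
  let φ : E →ₐ[D] FractionRing D := IsLocalization.liftAlgHom (M := M) (f := Algebra.ofId D (FractionRing D))
    (fun y => IsLocalization.map_units (FractionRing D) ⟨y.1, hM y.2⟩)
  have hφ : Function.Injective φ := by
    rw [injective_iff_map_eq_zero]
    intro z hz
    obtain ⟨d, s, rfl⟩ := IsLocalization.exists_mk'_eq M z
    have h2 : φ (algebraMap D E d) = 0 := by
      rw [← IsLocalization.mk'_spec' E d s, map_mul, hz, mul_zero]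
    rw [φ.commutes] at h2
    have h3 : d = 0 := IsLocalization.injective (FractionRing D) (le_refl (nonZeroDivisors D)) (by rw [h2, map_zero])
    rw [h3, IsLocalization.mk'_zero]
  obtain ⟨d, hd⟩ := (h1.2 (x := φ x)).mp (hx.map φ)
  refine ⟨d, hφ ?_⟩
  rw [φ.commutes, hd]

variable {P : Type u} [CommRing P] {F : Type u} [Field F] [Algebra P F] [IsFractionRing P F]
  {T : Scheme.{u}} (t : T ⟶ Spec (.of P)) [Flat t]

/-- A normal scheme flat over a domain is its own normalization in the generic fibre. -/
theorem isIso_modelMap (hT : Pi1.IsNormalScheme T) : IsIso (modelMap t F) := by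
  refine IsZariskiLocalAtTarget.of_forall_exists_morphismRestrict (P := .isomorphisms _) fun x => ?_
  obtain ⟨_, ⟨U, hU', rfl⟩, hxU, -⟩ :=
    T.isBasis_affineOpens.exists_subset_of_mem_open (Set.mem_univ x) isOpen_univ
  have hU : IsAffineOpen U := hU'
  refine ⟨U, hxU, (isIso_morphismRestrict_iff_isIso_app _ hU).mpr ?_⟩
  obtain ⟨a1, a2, a3, a4, a5, t1, t2, l1, l2, e1, e2, e3, e4, e5⟩ := local_data (g := t) (F := F) hU
  have hfl : Module.Flat P Γ(T, U) := by
    have := flat_str t hU
    rw [← e1] at this
    exact RingHom.flat_algebraMap_iff.mp this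
  have hle : Algebra.algebraMapSubmonoid Γ(T, U) P⁰ ≤ nonZeroDivisors Γ(T, U) := by
    rintro _ ⟨r, hr, rfl⟩
    have h1 : IsSMulRegular Γ(T, U) r := Module.Flat.isSMulRegular_of_nonZeroDivisors hr
    refine mem_nonZeroDivisors_iff_right.mpr fun x hx => h1 ?_
    change r • x = r • (0 : Γ(T, U))
    rw [smul_zero, Algebra.smul_def, mul_comm]
    exact hx
  let E := Γ(pullback t (Spec.map (CommRingCat.ofHom (algebraMap P F))), genι t F ⁻¹ᵁ U)
  let N := Γ(model t F, modelMap t F ⁻¹ᵁ U)
  have hN : Algebra.IsIntegral Γ(T, U) N := IsIntegralClosure.isIntegral_algebra Γ(T, U) E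
  have hb : Function.Bijective (algebraMap Γ(T, U) N) := by
    constructor
    · have h2 : Function.Injective (algebraMap Γ(T, U) E) := IsLocalization.injective E hle
      rw [IsScalarTower.algebraMap_eq Γ(T, U) N E, RingHom.coe_comp] at h2
      exact Function.Injective.of_comp h2
    · intro n
      obtain ⟨d, hd⟩ := isIntegrallyClosedIn_of_isNormalRing
        (An.H526.T3.isNormalRing_of_isAffineOpen hT U hU) _ hle (algebraMap N E n)
        ((Algebra.IsIntegral.isIntegral (R := Γ(T, U)) n).algebraMap)
      refine ⟨d, IsIntegralClosure.algebraMap_injective N Γ(T, U) E ?_⟩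
      rw [← hd, ← IsScalarTower.algebraMap_apply]
  rw [e3] at hb
  exact (ConcreteCategory.isIso_iff_bijective _).mpr hb

/-- Lifting along an integral morphism: `T` normal and flat over `P`, `σ` a lift of `h` on the generic fibre. -/
theorem exists_unique_lift {X Y : Scheme.{u}} (ν : Y ⟶ X) [IsIntegralHom ν] (hT : Pi1.IsNormalScheme T)
    (h : T ⟶ X) (σ : pullback t (Spec.map (CommRingCat.ofHom (algebraMap P F))) ⟶ Y) (hσ : σ ≫ ν = genι t F ≫ h) :
    ∃! σ' : T ⟶ Y, σ' ≫ ν = h ∧ genι t F ≫ σ' = σ := by
  have hiso : IsIso (modelMap t F) := isIso_modelMap t hT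
  let j := genι t F
  have hj : j = pullback.lift σ j hσ ≫ pullback.snd ν h := (pullback.lift_snd _ _ _).symm
  have hfac : (genι t F).toNormalization ≫ modelMap t F = genι t F :=
    Scheme.Hom.toNormalization_fromNormalization _
  let d : model t F ⟶ pullback ν h := j.normalizationDesc (pullback.lift σ j hσ) (pullback.snd ν h) hj
  have hd1 : (genι t F).toNormalization ≫ d = pullback.lift σ j hσ :=
    Scheme.Hom.toNormalization_normalizationDesc _ _ _ _
  have hd2 : d ≫ pullback.snd ν h = modelMap t F := Scheme.Hom.normalizationDesc_comp _ _ _ _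
  refine ⟨inv (modelMap t F) ≫ d ≫ pullback.fst ν h, ⟨?_, ?_⟩, ?_⟩
  · rw [Category.assoc, Category.assoc, pullback.condition, reassoc_of% hd2, IsIso.inv_hom_id_assoc]
  · have h1 : genι t F ≫ inv (modelMap t F) = (genι t F).toNormalization := by
      rw [IsIso.comp_inv_eq, hfac]
    rw [reassoc_of% h1, reassoc_of% hd1, pullback.lift_fst]
  · rintro σ' ⟨h1, h2⟩
    let δ : model t F ⟶ pullback ν h := pullback.lift (modelMap t F ≫ σ') (modelMap t F) (by
      rw [Category.assoc, h1])
    have h4 : δ = d := by
      refine Scheme.Hom.normalization.hom_ext (genι t F) δ d (pullback.snd ν h) ?_ (pullback.lift_snd _ _ _) hd2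
      rw [hd1]
      apply pullback.hom_ext
      · rw [Category.assoc, pullback.lift_fst, pullback.lift_fst, reassoc_of% hfac, h2]
      · rw [Category.assoc, pullback.lift_snd, pullback.lift_snd, hfac]
    have h3 : modelMap t F ≫ σ' = d ≫ pullback.fst ν h := by
      rw [← h4, pullback.lift_fst]
    rw [← h3, IsIso.inv_hom_id_assoc]

end K93.RedFib
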