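import Groth.Agent.AlgSp.K93.ArcDim
import Groth.Agent.AlgSp.K93.RFLift
import Groth.Agent.Models.K954.GenExt
import Mathlib.AlgebraicGeometry.Geometrically.Integral

/-!
# Generic arcs of a flat integral scheme over a semi-local Dedekind domain
-/

set_option autoImplicit false
universe u

open CategoryTheory CategoryTheory.Limits AlgebraicGeometry TensorProduct nonZeroDivisors

noncomputable section

namespace K93.RedFib

open Groth.Agent K622.FibPts

/-- A generic arc of `Z` at the closed point `q` of the base: a discrete valuation ring `P`, weakly unramified over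
`R` at `q`, with geometrically integral residue field extension, and a morphism `c : Spec P ⟶ Z` over `R`, sending the
generic point to `η` and the closed point to a maximal point of the fibre of `Z` specializing to `w`. -/
structure ArcAt {R : Type u} [CommRing R] {Z : Scheme.{u}} (z : Z ⟶ Spec (CommRingCat.of R)) (q : Ideal R)
    (η w : Z) where
  /-- the discrete valuation ring -/
  P : Type u
  [cr : CommRing P]
  [dom : IsDomain P]
  [dvr : IsDiscreteValuationRing P]
  /-- its structure map -/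
  φ : R →+* P
  flat : φ.Flat
  comap : (IsLocalRing.maximalIdeal P).comap φ = q
  map : q.map φ = IsLocalRing.maximalIdeal P
  /-- the residue field extension is geometrically integral -/
  res : ∀ (k' : Type u) [Field k'] (ψ : R →+* k'), RingHom.ker ψ = q →
    IsIntegral (pullback (Spec.map (CommRingCat.ofHom ψ))
      (Spec.map (CommRingCat.ofHom ((IsLocalRing.residue P).comp φ))))
  /-- the arc -/
  c : Spec (CommRingCat.of P) ⟶ Z
  hc : c ≫ z = Spec.map (CommRingCat.ofHom φ)
  gen : c (⊥ : PrimeSpectrum P) = η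
  max_closed : IsMaxFib z (c (IsLocalRing.closedPoint P))
  spec_closed : c (IsLocalRing.closedPoint P) ⤳ w

attribute [instance] ArcAt.cr ArcAt.dom ArcAt.dvr

section aux

theorem isIntegral_of_isIso {X Y : Scheme.{u}} (f : X ⟶ Y) [IsIso f] [IsIntegral Y] : IsIntegral X := by
  have : Nonempty X := ⟨inv f (genericPoint Y)⟩
  exact isIntegral_of_isOpenImmersion f

/-- Geometric integrality of the residue field, as integrality of fibre products. -/
theorem GeomInt.isIntegral_pullback {R : Type u} [CommRing R] {Y : Scheme.{u}} {h : Y ⟶ Spec (.of R)} {ξ : Y}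
    (hξ : GeomInt h ξ) (k' : Type u) [Field k'] (ψ : R →+* k') (hψ : RingHom.ker ψ = (h ξ).asIdeal) :
    IsIntegral (pullback (Spec.map (CommRingCat.ofHom ψ))
      (Spec.map (CommRingCat.ofHom ((IsLocalRing.residue (Y.presheaf.stalk ξ)).comp (toStalk h ξ))))) := by
  let _ : Algebra R k' := ψ.toAlgebra
  let _ : Algebra R (IsLocalRing.ResidueField (Y.presheaf.stalk ξ)) :=
    ((IsLocalRing.residue _).comp (toStalk h ξ)).toAlgebra
  have h1 : IsDomain (IsLocalRing.ResidueField (Y.presheaf.stalk ξ) ⊗[R] k') := hξ k' hψ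
  have h2 : IsDomain (k' ⊗[R] IsLocalRing.ResidueField (Y.presheaf.stalk ξ)) :=
    (Algebra.TensorProduct.comm R k' (IsLocalRing.ResidueField (Y.presheaf.stalk ξ))).toMulEquiv.isDomain _
  have h3 : IsIntegral (Spec (CommRingCat.of (k' ⊗[R] IsLocalRing.ResidueField (Y.presheaf.stalk ξ)))) :=
    inferInstance
  exact isIntegral_of_isIso
    (pullbackSpecIso R k' (IsLocalRing.ResidueField (Y.presheaf.stalk ξ))).hom

theorem fromSpecStalk_bot {Y : Scheme.{u}} [IsIntegral Y] (ξ : Y) :
    Y.fromSpecStalk ξ (⊥ : PrimeSpectrum (Y.presheaf.stalk ξ)) = genericPoint Y := by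
  have h5 : genericPoint Y ∈ Set.range (Y.fromSpecStalk ξ) := by
    rw [Scheme.range_fromSpecStalk]
    exact genericPoint_specializes ξ
  obtain ⟨p, hp⟩ := h5
  have h6 : (⊥ : PrimeSpectrum (Y.presheaf.stalk ξ)) ⤳ p := by
    rw [← PrimeSpectrum.le_iff_specializes]
    exact bot_le
  have h7 := h6.map (Y.fromSpecStalk ξ).continuous
  rw [hp] at h7
  exact (h7.antisymm (genericPoint_specializes _)).eq

theorem map_genericPoint_of_surjective {X Y : Scheme.{u}} [IrreducibleSpace X] [IrreducibleSpace Y] (f : Y ⟶ X)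
    [Surjective f] : f (genericPoint Y) = genericPoint X := by
  obtain ⟨y, hy⟩ := f.surjective (genericPoint X)
  have h1 := (genericPoint_specializes y).map f.continuous
  rw [hy] at h1
  exact (h1.antisymm (genericPoint_specializes _)).eq

theorem isPrincipalIdealRing_of_semilocal (R : Type u) [CommRing R] [IsDedekindDomain R]
    [Finite (MaximalSpectrum R)] : IsPrincipalIdealRing R := by
  have hf : {I : Ideal R | I.IsMaximal}.Finite := by
    have := Set.finite_range (fun m : MaximalSpectrum R => m.asIdeal)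
    refine this.subset fun I hI => ⟨⟨I, hI⟩, rfl⟩
  exact IsPrincipalIdealRing.of_finite_maximals hf

theorem isNormalScheme_Spec (T : Type u) [CommRing T] [IsDomain T] [IsIntegrallyClosed T] :
    Pi1.IsNormalScheme (Spec (CommRingCat.of T)) := by
  intro x
  exact Dix.NormalLoc.stalk_of_isNormalRing (CommRingCat.of T) (Dix.NormalLoc.isNormalRing_of_isIntegrallyClosed T) x

end aux

section arc

variable {R K : Type u} [CommRing R] [IsDedekindDomain R] [Finite (MaximalSpectrum R)] [Field K] [Algebra R K]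
  [IsFractionRing R K] {Z Y : Scheme.{u}} {z : Z ⟶ Spec (.of R)} [Flat z] [LocallyOfFiniteType z] [QuasiCompact z]

/-- Arcs from a good model with geometrically integral fibre components. -/
theorem exists_arcAt [IsIntegral Z] (K : Type u) [Field K] [Algebra R K] [IsFractionRing R K]
    (hZ : IsIntegral (pullback z (Spec.map (CommRingCat.ofHom (algebraMap R K))))) {ν : Y ⟶ Z} (hν : IsGood z ν)
    (hY : ∀ ξ : Y, IsMaxFib (ν ≫ z) ξ → GeomInt (ν ≫ z) ξ) (q : MaximalSpectrum R) (hq : q.asIdeal ≠ ⊥)
    (e : Spec (CommRingCat.of (Localization.AtPrime q.asIdeal)) ⟶ Z)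
    (he : e ≫ z = Spec.map (CommRingCat.ofHom (algebraMap R (Localization.AtPrime q.asIdeal)))) :
    Nonempty (ArcAt z q.asIdeal (genericPoint Z)
      (e (IsLocalRing.closedPoint (Localization.AtPrime q.asIdeal)))) := by
  have hP : IsPrincipalIdealRing R := isPrincipalIdealRing_of_semilocal R
  have h1 := hν.finite
  have h2 := hν.surjective
  have h3 := hν.flat
  have h4 := hν.reduced
  have h5 : LocallyOfFiniteType (ν ≫ z) := inferInstance
  have h6 : QuasiCompact (ν ≫ z) := inferInstance
  have hNY : IsLocallyNoetherian Y := LocallyOfFiniteType.isLocallyNoetherian (ν ≫ z)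
  have hCY : CompactSpace Y := QuasiCompact.compactSpace_of_compactSpace (ν ≫ z)
  have hNY' : IsNoetherian Y := {}
  -- `Y` is integral
  have hiso : IsIso (pullback.snd ν (genι z K)) := hν.gIso K (IsFractionRing.injective R K)
  have hYK : IsIntegral (pullback ν (genι z K)) := isIntegral_of_isIso (pullback.snd ν (genι z K))
  have hpY := ((IsPullback.of_hasPullback ν (genι z K)).flip.paste_horiz
    (IsPullback.of_hasPullback z (Spec.map (CommRingCat.ofHom (algebraMap R K)))).flip).flip
  have hYi : IsIntegral Y := K954.GenExt.isIntegral_of_flat hpY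
  -- the lift of `e`
  let Rq := Localization.AtPrime q.asIdeal
  let t : Spec (CommRingCat.of Rq) ⟶ Spec (CommRingCat.of R) := Spec.map (CommRingCat.ofHom (algebraMap R Rq))
  have hRq : IsDomain Rq := IsLocalization.isDomain_localization q.asIdeal.primeCompl_le_nonZeroDivisors
  have hRqi : IsIntegrallyClosed Rq := isIntegrallyClosed_of_isLocalization _ q.asIdeal.primeCompl
    q.asIdeal.primeCompl_le_nonZeroDivisors
  have htf : Flat t := (HasRingHomProperty.Spec_iff (P := @Flat)).2
    (RingHom.flat_algebraMap_iff.mpr (IsLocalization.flat Rq q.asIdeal.primeCompl))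
  let eK : pullback t (Spec.map (CommRingCat.ofHom (algebraMap R K))) ⟶
      pullback z (Spec.map (CommRingCat.ofHom (algebraMap R K))) :=
    pullback.lift (genι t K ≫ e) (pullback.snd t _) (by
      rw [Category.assoc, he]
      exact pullback.condition)
  have heK : eK ≫ genι z K = genι t K ≫ e := pullback.lift_fst _ _ _
  obtain ⟨σ, ⟨hσ1, hσ2⟩, -⟩ := exists_unique_lift (F := K) t ν (isNormalScheme_Spec Rq) e
    (eK ≫ inv (pullback.snd ν (genι z K)) ≫ pullback.fst ν (genι z K)) (by
      rw [Category.assoc, Category.assoc, pullback.condition, IsIso.inv_hom_id_assoc, heK])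
  -- the maximal point
  let y : Y := σ (IsLocalRing.closedPoint Rq)
  have hνy : ν y = e (IsLocalRing.closedPoint Rq) := by
    rw [← hσ1]
    rfl
  have hy : ((ν ≫ z) y).asIdeal = q.asIdeal := by
    have h7 : (ν ≫ z) y = (e ≫ z) (IsLocalRing.closedPoint Rq) := by
      change z (ν y) = z (e _)
      rw [hνy]
    rw [h7, he]
    exact IsLocalization.AtPrime.under_maximalIdeal Rq q.asIdeal
  obtain ⟨G, hG, hG1, hG2⟩ := exists_gens (ν ≫ z) q
  have hyG : y ∈ (fib (ν ≫ z) q : Set Y) := (mem_fib_iff _ _ _).mpr hy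
  rw [hG2] at hyG
  obtain ⟨ξ, hξG, hξy⟩ := Set.mem_iUnion₂.mp hyG
  have hξy' : ξ ⤳ y := specializes_iff_mem_closure.mpr hξy
  obtain ⟨hξq, hξm⟩ := (hG1 ξ).mp hξG
  have hξq' : ((ν ≫ z) ξ).asIdeal = q.asIdeal := (mem_fib_iff _ _ _).mp hξq
  have h0 : ((ν ≫ z) ξ).asIdeal ≠ ⊥ := by rw [hξq']; exact hq
  have hdvr : IsDiscreteValuationRing (Y.presheaf.stalk ξ) := isDVR_stalk (ν ≫ z) hξm h0
  have hcl : Y.fromSpecStalk ξ (IsLocalRing.closedPoint (Y.presheaf.stalk ξ)) = ξ :=
    Scheme.fromSpecStalk_closedPoint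
  refine ⟨{
    P := Y.presheaf.stalk ξ
    φ := toStalk (ν ≫ z) ξ
    flat := flat_toStalk _ _
    comap := ?_
    map := ?_
    res := ?_
    c := Y.fromSpecStalk ξ ≫ ν
    hc := ?_
    gen := ?_
    max_closed := ?_
    spec_closed := ?_ }⟩
  · have h7 := apply_fromSpecStalk (ν ≫ z) ξ (IsLocalRing.closedPoint _)
    rw [hcl, hξq'] at h7
    exact h7.symm
  · rw [← hξq']
    exact map_eq_maximalIdeal (ν ≫ z) hξm
  · intro k' _ ψ hψ
    exact (hY ξ hξm).isIntegral_pullback k' ψ (by rw [hψ, hξq'])
  · rw [Category.assoc, ← map_toStalk]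
  · change ν (Y.fromSpecStalk ξ (⊥ : PrimeSpectrum (Y.presheaf.stalk ξ))) = _
    rw [fromSpecStalk_bot, map_genericPoint_of_surjective]
  · change IsMaxFib z (ν (Y.fromSpecStalk ξ (IsLocalRing.closedPoint (Y.presheaf.stalk ξ))))
    rw [hcl]
    exact isMaxFib_of_isFinite z ν hξm h0
  · change ν (Y.fromSpecStalk ξ (IsLocalRing.closedPoint (Y.presheaf.stalk ξ))) ⤳ _
    rw [hcl, ← hνy]
    exact hξy'.map ν.continuous

/-- **Generic arcs after a large extension.** -/
theorem large_arcAt (hg : GN z)
    (hi : GeometricallyIntegral (pullback.snd z (Spec.map (CommRingCat.ofHom (algebraMap R K))))) :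
    Large K (fun K₂ => ∀ (R₂ : Type u) [CommRing R₂] [IsDedekindDomain R₂] [Finite (MaximalSpectrum R₂)]
      [Algebra R R₂] [Algebra.IsIntegral R R₂] [Algebra R₂ K₂] [IsFractionRing R₂ K₂] [Algebra R K₂]
      [IsScalarTower R K K₂] [IsScalarTower R R₂ K₂] (Z₂ : Scheme.{u}) (z₂ : Z₂ ⟶ Spec (.of R₂)) (ι₂ : Z₂ ⟶ Z)
      (_ : IsPullback ι₂ z₂ z (Spec.map (CommRingCat.ofHom (algebraMap R R₂)))),
      ∃ _ : IsIntegral Z₂, ∀ (q : MaximalSpectrum R₂) (_ : q.asIdeal ≠ ⊥)
        (e : Spec (CommRingCat.of (Localization.AtPrime q.asIdeal)) ⟶ Z₂)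
        (_ : e ≫ z₂ = Spec.map (CommRingCat.ofHom (algebraMap R₂ (Localization.AtPrime q.asIdeal)))),
        Nonempty (ArcAt z₂ q.asIdeal (genericPoint Z₂)
          (e (IsLocalRing.closedPoint (Localization.AtPrime q.asIdeal))))) := by
  refine (exists_good_geomInt (K := K) hg).mono fun K₂ _ _ _ h2 => ?_
  intro R₂ _ _ _ _ _ _ _ _ _ _ Z₂ z₂ ι₂ hp
  obtain ⟨Y, ν, hν, hY⟩ := h2 R₂ Z₂ z₂ ι₂ hp
  have hf : Flat z₂ := MorphismProperty.of_isPullback hp ‹_›
  have hlf : LocallyOfFiniteType z₂ := MorphismProperty.of_isPullback hp ‹_›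
  have hqc : QuasiCompact z₂ := MorphismProperty.of_isPullback hp ‹_›
  have hi' : IsIntegral (pullback z₂ (Spec.map (CommRingCat.ofHom (algebraMap R₂ K₂)))) := by
    have p1 := isPullback_comp hp (K' := K₂)
    have p2 := isPullback_comp (IsPullback.of_hasPullback z (Spec.map (CommRingCat.ofHom (algebraMap R K))))
      (K' := K₂)
    have h7 : IsIntegral (pullback (pullback.snd z (Spec.map (CommRingCat.ofHom (algebraMap R K))))
        (Spec.map (CommRingCat.ofHom (algebraMap K K₂)))) :=
      hi.geometrically_isIntegral _ _ _ (IsPullback.of_hasPullback _ _)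
    exact isIntegral_of_isIso (p1.isoIsPullback _ _ p2).hom
  have hZ₂ : IsIntegral Z₂ := K954.GenExt.isIntegral_of_flat (IsPullback.of_hasPullback z₂
    (Spec.map (CommRingCat.ofHom (algebraMap R₂ K₂))))
  exact ⟨hZ₂, fun q hq e he => exists_arcAt K₂ hi' hν hY q hq e he⟩

end arc

end K93.RedFib
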