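import Groth.Agent.S4667
import Groth.Agent.FlatMor.K265.Colon

/-!
# The closure of a closed subscheme of the generic fibre

* `K93.ArcClos.exists_closure`: `W` quasi-compact over the Dedekind ring `R`, `V` its generic fibre, `U` a closed
  subscheme of `V`: the scheme theoretic image `Z` of `U` in `W` is flat over `R` with generic fibre `U`, and
  a morphism `Spec P ⟶ W` (`P ⊆ K`) whose restriction to `Spec K` factors through `U` factors through `Z`.
-/

set_option autoImplicit false
universe u

open CategoryTheory CategoryTheory.Limits AlgebraicGeometry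

namespace K93.ArcClos

variable {R K : Type u} [CommRing R] [IsDedekindDomain R] [Field K] [Algebra R K] [IsFractionRing R K]

/-- The spectrum of an injective ring homomorphism has no kernel. -/
theorem ker_spec_map {P K : Type u} [CommRing P] [CommRing K] [Algebra P K]
    (h : Function.Injective (algebraMap P K)) :
    (Spec.map (CommRingCat.ofHom (algebraMap P K))).ker = ⊥ := by
  refine Scheme.IdealSheafData.ext_of_isAffine ?_
  have h1 := (Spec.map (CommRingCat.ofHom (algebraMap P K))).ker_apply ⟨⊤, isAffineOpen_top _⟩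
  rw [h1]
  change RingHom.ker ((Spec.map (CommRingCat.ofHom (algebraMap P K))).appTop).hom = _
  rw [Scheme.IdealSheafData.ideal_bot, Pi.bot_apply, ← RingHom.injective_iff_ker_eq_bot]
  have h2 : Function.Injective
      (((Scheme.ΓSpecIso (CommRingCat.of P)).hom ≫ CommRingCat.ofHom (algebraMap P K)).hom) := by
    rw [CommRingCat.hom_comp]
    exact h.comp (ConcreteCategory.bijective_of_isIso (Scheme.ΓSpecIso (CommRingCat.of P)).hom).1
  rw [← Scheme.ΓSpecIso_naturality, CommRingCat.hom_comp, RingHom.coe_comp] at h2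
  exact h2.of_comp

theorem exists_closure {W : Scheme.{u}} (f : W ⟶ Spec (CommRingCat.of R)) [QuasiCompact f]
    {V : Scheme.{u}} {a : V ⟶ W} {b : V ⟶ Spec (CommRingCat.of K)}
    (sqV : IsPullback a b f (Spec.map (CommRingCat.ofHom (algebraMap R K))))
    {U : Scheme.{u}} (v : U ⟶ V) [IsClosedImmersion v] :
    ∃ (Z : Scheme.{u}) (i : Z ⟶ W) (u : U ⟶ Z), IsClosedImmersion i ∧ Flat (i ≫ f) ∧ QuasiCompact (i ≫ f) ∧
      IsPullback u (v ≫ b) (i ≫ f) (Spec.map (CommRingCat.ofHom (algebraMap R K))) ∧ v ≫ a = u ≫ i ∧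
      ∀ (P : Type u) [CommRing P] [Algebra P K] (_ : Function.Injective (algebraMap P K))
        (e : Spec (CommRingCat.of P) ⟶ W) (eU : Spec (CommRingCat.of K) ⟶ U)
        (_ : eU ≫ v ≫ a = Spec.map (CommRingCat.ofHom (algebraMap P K)) ≫ e),
        ∃ eZ : Spec (CommRingCat.of P) ⟶ Z, eZ ≫ i = e := by
  have hflat : Flat (Spec.map (CommRingCat.ofHom (algebraMap R K))) := by
    rw [Flat.SpecMap_iff]
    have : Module.Flat R K := IsLocalization.flat K (nonZeroDivisors R)
    rw [CommRingCat.hom_ofHom]
    exact (RingHom.flat_algebraMap_iff).2 this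
  have hqc : QuasiCompact (Spec.map (CommRingCat.ofHom (algebraMap R K))) := inferInstance
  have hmono : Mono (Spec.map (CommRingCat.ofHom (algebraMap R K))) := by
    have := IsPreimmersion.of_isLocalization (S := K) (nonZeroDivisors R)
    infer_instance
  have ha : Flat a := MorphismProperty.of_isPullback sqV.flip hflat
  have haq : QuasiCompact a := MorphismProperty.of_isPullback sqV.flip hqc
  have ham : Mono a := by
    refine ⟨fun p q h => sqV.hom_ext h ?_⟩
    rw [← cancel_mono (Spec.map (CommRingCat.ofHom (algebraMap R K))), Category.assoc, Category.assoc, ← sqV.w,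
      reassoc_of% h]
  have hb : Flat b := inferInstance
  have h1 : IsPullback (𝟙 U) v (v ≫ a) a := by
    refine IsPullback.of_isLimit' ⟨by simp⟩ (PullbackCone.IsLimit.mk _ (fun s => s.fst) (fun s => by simp)
      (fun s => ?_) fun s m h1 h2 => by simpa using h1)
    have := s.condition
    rw [← Category.assoc, cancel_mono] at this
    exact this
  have h2 : v.ker = (v ≫ a).ker.comap a := by
    rw [← Groth.Agent.S4667.result (v ≫ a) a]
    conv_lhs => rw [← h1.isoPullback_hom_snd]
    exact Scheme.Hom.ker_comp_of_isIso _ _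
  have h3 : (v ≫ a).toImage ≫ (v ≫ a).imageι = v ≫ a := Scheme.Hom.toImage_imageι _
  have h4 : (v ≫ a).imageι.ker = (v ≫ a).ker := Scheme.IdealSheafData.ker_subschemeι _
  have h5 : IsPullback v (v ≫ a).toImage a (v ≫ a).imageι :=
    isPullback_of_isClosedImmersion v (v ≫ a).imageι (v ≫ a).toImage a h3.symm (by rw [h4, h2])
  have h6 : Flat ((v ≫ a) ≫ f) := by
    rw [Category.assoc, sqV.w, ← Category.assoc]
    have : Flat (v ≫ b) := inferInstance
    exact MorphismProperty.comp_mem _ _ _ this hflat
  refine ⟨(v ≫ a).image, (v ≫ a).imageι, (v ≫ a).toImage, inferInstance,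
    K265.Colon.flat_imageι f (v ≫ a), inferInstance, h5.flip.paste_vert sqV, h3.symm, ?_⟩
  intro P _ _ hP e eU he
  have h7 : e.ker = (Spec.map (CommRingCat.ofHom (algebraMap P K)) ≫ e).ker := by
    rw [Scheme.Hom.ker_comp, ker_spec_map hP, Scheme.IdealSheafData.map_bot]
  have h8 : (v ≫ a).imageι.ker ≤ e.ker := by
    rw [h7, h4, ← he]
    exact Scheme.Hom.le_ker_comp _ _
  exact ⟨IsClosedImmersion.lift _ e h8, IsClosedImmersion.lift_fac _ _ _⟩

end K93.ArcClos
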