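import Groth.Agent.AlgSp.K93.RFIrrThm
import Groth.Agent.Etbc.H208.PidCat
import Groth.Agent.S0555

/-!
# Finite dominant morphisms preserve maximal points of the fibres over a principal ideal domain
-/

set_option autoImplicit false
universe u

open CategoryTheory CategoryTheory.Limits AlgebraicGeometry TensorProduct nonZeroDivisors

noncomputable section

namespace K93.RedFib

open Groth.Agent K622.FibPts

/-- Heights in a finite extension of a universally catenary domain. -/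
theorem height_under_eq_of_isUniversallyCatenary {A B : Type u} [CommRing A] [IsDomain A] [CommRing B] [IsDomain B]
    [Algebra A B] [FaithfulSMul A B] [Module.Finite A B] (hA : CAlg.IsUniversallyCatenary A) (Q : Ideal B)
    [Q.IsPrime] : (Q.comap (algebraMap A B)).height = Q.height := by
  have h1 := S0555.result A hA B (Q.comap (algebraMap A B)) Q
  have h0 : Algebra.IsIntegral A B := inferInstance
  have h2 : Algebra.trdeg A B = 0 := by
    have : Algebra.IsAlgebraic A B := h0.isAlgebraic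
    exact _root_.trdeg_eq_zero
  have h3 : Algebra.IsIntegral (A ⧸ Q.comap (algebraMap A B)) (B ⧸ Q) := inferInstance
  have h4 : Algebra.trdeg (A ⧸ Q.comap (algebraMap A B)) (B ⧸ Q) = 0 := by
    have : Algebra.IsAlgebraic (A ⧸ Q.comap (algebraMap A B)) (B ⧸ Q) := h3.isAlgebraic
    exact _root_.trdeg_eq_zero
  rw [h2, h4, add_zero, add_zero] at h1
  exact (Cardinal.ofENat_injective h1).symm

variable {P : Type u} [CommRing P] [IsDomain P] [IsPrincipalIdealRing P] {X Y : Scheme.{u}} [IsIntegral X]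
  [IsIntegral Y] (g : X ⟶ Spec (.of P)) [LocallyOfFiniteType g] [Flat g] (ν : Y ⟶ X) [IsFinite ν] [Surjective ν]
  [Flat (ν ≫ g)]

omit [IsDomain P] [IsPrincipalIdealRing P] in
/-- Maximality in the fibre, for height one primes. -/
theorem isMaxFib_of_height {P : Type u} [CommRing P] [IsDomain P] {X : Scheme.{u}} [IsIntegral X]
    (g : X ⟶ Spec (.of P)) [Flat g] {U : X.Opens} (hU : IsAffineOpen U) (x : X) (hx : x ∈ U)
    (hht : (hU.primeIdealOf ⟨x, hx⟩).asIdeal.height = 1) (h0 : (g x).asIdeal ≠ ⊥) : IsMaxFib g x := by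
  intro ζ hζ hgζ
  have hfs : hU.fromSpec (hU.primeIdealOf ⟨x, hx⟩) = x := hU.fromSpec_primeIdealOf ⟨x, hx⟩
  have hζU : ζ ∈ U := hζ.mem_open U.isOpen hx
  have hfs' : hU.fromSpec (hU.primeIdealOf ⟨ζ, hζU⟩) = ζ := hU.fromSpec_primeIdealOf ⟨ζ, hζU⟩
  have hne : Nonempty U := ⟨⟨x, hx⟩⟩
  have hle : (hU.primeIdealOf ⟨ζ, hζU⟩).asIdeal ≤ (hU.primeIdealOf ⟨x, hx⟩).asIdeal := by
    have h1 : hU.primeIdealOf ⟨ζ, hζU⟩ ⤳ hU.primeIdealOf ⟨x, hx⟩ := by
      refine hU.fromSpec.isOpenEmbedding.isInducing.specializes_iff.mp ?_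
      rw [hfs, hfs']
      exact hζ
    exact (PrimeSpectrum.le_iff_specializes _ _).mpr h1
  have hbot : (hU.primeIdealOf ⟨ζ, hζU⟩).asIdeal ≠ ⊥ := by
    intro hb
    apply h0
    rw [← hgζ, ← hfs', apply_fromSpec, hb, eq_bot_iff]
    intro r hr
    by_contra hr0
    exact nonZeroDivisors.ne_zero (Divis.EffCartier.map_mem_nonZeroDivisors_of_flat _ (flat_str g hU)
      (mem_nonZeroDivisors_of_ne_zero hr0)) hr
  have heq : (hU.primeIdealOf ⟨ζ, hζU⟩).asIdeal = (hU.primeIdealOf ⟨x, hx⟩).asIdeal := by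
    by_contra hne'
    have hlt := lt_of_le_of_ne hle hne'
    have hfh : (hU.primeIdealOf ⟨x, hx⟩).asIdeal.FiniteHeight :=
      (Ideal.finiteHeight_iff _).mpr (Or.inr (by rw [hht]; exact ENat.one_ne_top))
    have h2 : (hU.primeIdealOf ⟨ζ, hζU⟩).asIdeal.height < 1 := by
      rw [← hht]
      exact Ideal.height_strict_mono_of_isPrime_of_isPrime hlt
    rw [Order.lt_one_iff, Ideal.height_eq_zero_iff_eq_bot] at h2
    exact hbot h2
  have h5 : hU.primeIdealOf ⟨ζ, hζU⟩ = hU.primeIdealOf ⟨x, hx⟩ := PrimeSpectrum.ext heq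
  rw [← hfs', ← hfs, h5]

/-- Finite dominant morphisms preserve the maximal points of the closed fibres. -/
theorem isMaxFib_of_isFinite {ξ : Y} (hξ : IsMaxFib (ν ≫ g) ξ) (h0 : ((ν ≫ g) ξ).asIdeal ≠ ⊥) :
    IsMaxFib g (ν ξ) := by
  have hNX : IsLocallyNoetherian X := LocallyOfFiniteType.isLocallyNoetherian g
  have hNY : IsLocallyNoetherian Y := LocallyOfFiniteType.isLocallyNoetherian (ν ≫ g)
  obtain ⟨_, ⟨U, hU', rfl⟩, hξU, -⟩ :=
    X.isBasis_affineOpens.exists_subset_of_mem_open (Set.mem_univ (ν ξ)) isOpen_univ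
  have hU : IsAffineOpen U := hU'
  have hV : IsAffineOpen (ν ⁻¹ᵁ U) := hU.preimage ν
  have hξV : ξ ∈ ν ⁻¹ᵁ U := hξU
  have hne : Nonempty U := ⟨⟨ν ξ, hξU⟩⟩
  have hne' : Nonempty (ν ⁻¹ᵁ U) := ⟨⟨ξ, hξV⟩⟩
  let A := Γ(X, U)
  let B := Γ(Y, ν ⁻¹ᵁ U)
  let a1 : Algebra A B := (ν.app U).hom.toAlgebra
  let a2 : Algebra P A := (str g U).toAlgebra
  have hfin : Module.Finite A B := ν.finite_app U hU
  have hft : Algebra.FiniteType P A := finiteType_str g hU
  have hUC : CAlg.IsUniversallyCatenary A :=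
    CalgA.UnivCat.isUniversallyCatenary_of_finiteType (R := P) (Etbc.H208.PidCat.isUniversallyCatenary_pid P)
  have hstd : IsSchemeTheoreticallyDominant ν := .of_isDominant _
  have hinj : Function.Injective (algebraMap A B) := ν.app_injective U
  have hfs : FaithfulSMul A B := (faithfulSMul_iff_algebraMap_injective A B).mpr hinj
  let Q := (hV.primeIdealOf ⟨ξ, hξV⟩).asIdeal
  have hQ : Q.IsPrime := (hV.primeIdealOf ⟨ξ, hξV⟩).isPrime
  have hPQ : (hU.primeIdealOf ⟨ν ξ, hξU⟩).asIdeal = Q.comap (algebraMap A B) := by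
    have h1 := IsAffineOpen.comap_primeIdealOf_appLE (f := ν) (x := ξ) U hU _ hV le_rfl hξV
    rw [← Scheme.Hom.app_eq_appLE] at h1
    exact (congrArg PrimeSpectrum.asIdeal h1).symm
  refine isMaxFib_of_height g hU (ν ξ) hξU ?_ h0
  rw [hPQ, height_under_eq_of_isUniversallyCatenary hUC]
  obtain ⟨ϖ, hϖ⟩ := (IsPrincipalIdealRing.principal ((ν ≫ g) ξ).asIdeal).principal
  have h1 : ringKrullDim (Y.presheaf.stalk ξ) = 1 := dim_stalk (ν ≫ g) hξ (ϖ := ϖ) (fun h2 => h0 (by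
    rw [hϖ, h2]; exact Ideal.span_singleton_eq_bot.mpr rfl)) hϖ
  let a3 : Algebra B (Y.presheaf.stalk ξ) := Y.presheaf.algebra_section_stalk ⟨ξ, hξV⟩
  have hloc : IsLocalization.AtPrime (Y.presheaf.stalk ξ) (hV.primeIdealOf ⟨ξ, hξV⟩).asIdeal :=
    hV.isLocalization_stalk ⟨ξ, hξV⟩
  have h2 : ringKrullDim (Y.presheaf.stalk ξ) = Q.height := IsLocalization.AtPrime.ringKrullDim_eq_height Q _
  rw [h1] at h2
  exact_mod_cast h2.symm

end K93.RedFib
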