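import Groth.Agent.Ega4C.NormIntIn
import Mathlib.RingTheory.Flat.TorsionFree
import Mathlib.RingTheory.Polynomial.ScaleRoots
import Mathlib.RingTheory.PrincipalIdealDomain

/-!
# Normality from a normal generic fibre and reduced special fibres
-/

set_option autoImplicit false
universe u v w

open Polynomial nonZeroDivisors

namespace K93.RedFib

section closed

variable {R : Type u} {D : Type v} {E : Type w} [CommRing R] [IsDomain R] [CommRing D] [Algebra R D]
  [CommRing E] [Algebra D E]

/-- If `s x = a` with `x` integral over `D`, `a ∈ D` and `p ∣ s`, then `p` divides a power of `a`. -/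
theorem pow_mem_of_isIntegral (hinj : Function.Injective (algebraMap D E)) {x : E} (hx : IsIntegral D x)
    (s a p : D) (hs : p ∣ s) (h : algebraMap D E s * x = algebraMap D E a) :
    ∃ n : ℕ, a ^ n ∈ Ideal.span {p} := by
  obtain ⟨P, hP, hPx⟩ := hx
  refine ⟨P.natDegree, ?_⟩
  have h1 : aeval a (P.scaleRoots s) = 0 := by
    apply hinj
    rw [map_zero, ← aeval_algebraMap_apply, ← h]
    exact scaleRoots_aeval_eq_zero hPx
  have h2 : Ideal.Quotient.mk (Ideal.span {p}) (a ^ P.natDegree) = 0 := by
    have h3 : aeval a (P.scaleRoots s) =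
        a ^ P.natDegree + ∑ i ∈ Finset.range P.natDegree, P.coeff i * s ^ (P.natDegree - i) * a ^ i := by
      rw [aeval_eq_sum_range, natDegree_scaleRoots, Finset.sum_range_succ, add_comm]
      congr 1
      · rw [coeff_scaleRoots, hP.coeff_natDegree, Nat.sub_self, pow_zero, mul_one, one_smul]
      · refine Finset.sum_congr rfl fun i _ => ?_
        rw [coeff_scaleRoots, smul_eq_mul]
    rw [h1] at h3
    have h4 : a ^ P.natDegree =
        -(∑ i ∈ Finset.range P.natDegree, P.coeff i * s ^ (P.natDegree - i) * a ^ i) :=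
      eq_neg_of_add_eq_zero_left h3.symm
    rw [Ideal.Quotient.eq_zero_iff_mem, h4]
    refine neg_mem (Ideal.sum_mem _ fun i hi => ?_)
    refine Ideal.mul_mem_right _ _ (Ideal.mul_mem_left _ _ ?_)
    rw [Ideal.mem_span_singleton]
    have hne : P.natDegree - i ≠ 0 := Nat.sub_ne_zero_of_lt (Finset.mem_range.mp hi)
    exact hs.trans (dvd_pow_self s hne)
  exact Ideal.Quotient.eq_zero_iff_mem.mp h2

variable [IsPrincipalIdealRing R]

theorem exists_eq_of_isIntegral (hinj : Function.Injective (algebraMap D E))
    (hu : ∀ r : R, r ≠ 0 → IsUnit (algebraMap D E (algebraMap R D r)))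
    (hred : ∀ p : R, Prime p → IsReduced (D ⧸ Ideal.span {algebraMap R D p}))
    (r : R) (hr : r ≠ 0) (x : E) (hx : IsIntegral D x) (a : D)
    (h : algebraMap D E (algebraMap R D r) * x = algebraMap D E a) : ∃ d, algebraMap D E d = x := by
  classical
  induction r using UniqueFactorizationMonoid.induction_on_prime generalizing a with
  | h₁ => exact absurd rfl hr
  | h₂ r hru =>
    obtain ⟨v, hv⟩ := hru.exists_left_inv
    refine ⟨algebraMap R D v * a, ?_⟩
    rw [map_mul, ← h, ← mul_assoc, ← map_mul, ← map_mul, hv, map_one, map_one, one_mul]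
  | h₃ r p hr0 hp ih =>
    obtain ⟨n, hn⟩ := pow_mem_of_isIntegral hinj hx (algebraMap R D (p * r)) a (algebraMap R D p)
      (by rw [map_mul]; exact Dvd.intro _ rfl) h
    have h1 : a ∈ Ideal.span {algebraMap R D p} := by
      have h2 : (Ideal.Quotient.mk (Ideal.span {algebraMap R D p}) a) ^ n = 0 := by
        rw [← map_pow]; exact Ideal.Quotient.eq_zero_iff_mem.mpr hn
      have := hred p hp
      exact Ideal.Quotient.eq_zero_iff_mem.mp (this.eq_zero _ ⟨n, h2⟩)
    obtain ⟨a', rfl⟩ := Ideal.mem_span_singleton'.mp h1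
    refine ih hr0 a' ?_
    rw [map_mul, map_mul, map_mul] at h
    apply (hu p hp.ne_zero).mul_left_cancel
    rw [← mul_assoc, h, mul_comm]

variable [Module.Flat R D] [IsLocalization (Algebra.algebraMapSubmonoid D R⁰) E]

include R in
theorem injective_of_flat : Function.Injective (algebraMap D E) := by
  refine IsLocalization.injective E (M := Algebra.algebraMapSubmonoid D R⁰) ?_
  rintro _ ⟨r, hr, rfl⟩
  have h1 : IsSMulRegular D r := Module.Flat.isSMulRegular_of_nonZeroDivisors hr
  refine mem_nonZeroDivisors_iff_right.mpr fun x hx => h1 ?_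
  change r • x = r • (0 : D)
  rw [smul_zero, Algebra.smul_def, mul_comm]
  exact hx

theorem isIntegrallyClosedIn (hred : ∀ p : R, Prime p → IsReduced (D ⧸ Ideal.span {algebraMap R D p})) :
    IsIntegrallyClosedIn D E := by
  have hinj : Function.Injective (algebraMap D E) := injective_of_flat (R := R)
  refine ⟨hinj, @fun x => ⟨fun hx => ?_, ?_⟩⟩
  · obtain ⟨⟨a, ⟨_, r, hr, rfl⟩⟩, h⟩ := IsLocalization.surj (Algebra.algebraMapSubmonoid D R⁰) x
    refine exists_eq_of_isIntegral hinj (fun r hr => ?_) hred r (nonZeroDivisors.ne_zero hr) x hx a ?_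
    · exact IsLocalization.map_units E (⟨algebraMap R D r, r, mem_nonZeroDivisors_of_ne_zero hr, rfl⟩ :
        Algebra.algebraMapSubmonoid D R⁰)
    · rw [mul_comm]; exact h
  · rintro ⟨d, rfl⟩
    exact isIntegral_algebraMap

end closed

/-- Flat over a principal ideal domain with normal noetherian generic fibre and reduced special
fibres implies normal. -/
theorem isNormalRing {R : Type u} {D : Type v} {E : Type w} [CommRing R] [IsDomain R] [CommRing D] [Algebra R D]
    [CommRing E] [Algebra D E] [IsPrincipalIdealRing R] [Module.Flat R D]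
    [IsLocalization (Algebra.algebraMapSubmonoid D R⁰) E] [IsNoetherianRing E]
    (hE : EGA4.IsNormalRing E) (hred : ∀ p : R, Prime p → IsReduced (D ⧸ Ideal.span {algebraMap R D p})) :
    EGA4.IsNormalRing D := by
  have := isIntegrallyClosedIn (E := E) hred
  exact Groth.Agent.Ega4C.NormIntIn.isNormalRing_of_isIntegrallyClosedIn_noetherian D E hE

end K93.RedFib
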