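import Groth.Agent.Etalg.RamBasic
import Groth.Agent.Etalg.SolNormal

/-!
# Solutions in terms of discrete valuation rings
-/

set_option autoImplicit false
universe u

open IsLocalRing EtRam

namespace K93.RedFib

open Groth.Agent.Etalg.RamBasic

/-- A solution, read on abstract discrete valuation rings `V₁ ⊂ K₁` and `W' ⊂ M`. -/
theorem core {K L K₁ M B V₁ W' : Type u} [Field K] [Field L] [Field K₁] [Field M] [Algebra K L]
    [Algebra K K₁] [Algebra K M] [Algebra L M] [Algebra K₁ M] [IsScalarTower K L M] [IsScalarTower K K₁ M]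
    (hadj : Algebra.adjoin L (Set.range (algebraMap K₁ M)) = ⊤)
    [CommRing B] [IsLocalRing B] [Algebra B L] (hsol : IsSolution B K L K₁)
    [CommRing V₁] [IsDomain V₁] [IsDiscreteValuationRing V₁] [Algebra V₁ K₁] [IsFractionRing V₁ K₁]
    [CommRing W'] [IsDomain W'] [IsDiscreteValuationRing W'] [Algebra W' M] [IsFractionRing W' M]
    (φ : V₁ →+* W') [IsLocalHom φ]
    (hφ : ∀ x, algebraMap W' M (φ x) = algebraMap K₁ M (algebraMap V₁ K₁ x))
    (ψ : B →+* W') [IsLocalHom ψ]
    (hψ : ∀ x, algebraMap W' M (ψ x) = algebraMap L M (algebraMap B L x)) :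
    (maximalIdeal V₁).map φ = maximalIdeal W' ∧
      @Algebra.IsGeometricallyReduced (ResidueField V₁) (ResidueField W') _ _
        (ResidueField.map φ).toAlgebra := by
  let W : ValuationSubring M := vsub W' M
  have hW : Dominates B ((algebraMap L M).comp (algebraMap B L)) W := by
    constructor
    · intro b
      exact ⟨ψ b, hψ b⟩
    · intro b hb
      change W.valuation (algebraMap L M (algebraMap B L b)) < 1
      rw [← hψ, vsub_valuation_lt_one_iff]
      exact ((local_hom_TFAE ψ).out 0 2 rfl rfl).mp ‹_› (Ideal.mem_map_of_mem _ hb)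
  have hdom : W.comap (algebraMap K₁ M) = vsub V₁ K₁ := by
    rw [← dominates_comp_algebraMap_iff (A := V₁)]
    constructor
    · intro v
      exact ⟨φ v, hφ v⟩
    · intro v hv
      change W.valuation (algebraMap K₁ M (algebraMap V₁ K₁ v)) < 1
      rw [← hφ, vsub_valuation_lt_one_iff]
      exact ((local_hom_TFAE φ).out 0 2 rfl rfl).mp ‹_› (Ideal.mem_map_of_mem _ hv)
  obtain ⟨h1, h2⟩ := hsol M hadj W hW
  let eW : W' ≃+* W := equivVsub W' M
  let eV : V₁ ≃+* W.comap (algebraMap K₁ M) :=
    RingEquiv.ofBijective ((algebraMap V₁ K₁).codRestrict (W.comap (algebraMap K₁ M)) (fun v => ⟨φ v, hφ v⟩))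
      ⟨fun _ _ h => IsFractionRing.injective V₁ K₁ (congrArg Subtype.val h), fun ⟨x, hx⟩ => by
        have hx' : x ∈ vsub V₁ K₁ := by rw [← hdom]; exact hx
        obtain ⟨a, ha⟩ := hx'
        exact ⟨a, Subtype.ext ha⟩⟩
  have hcomm : ∀ v, eW (φ v) = inclOfComap W (algebraMap K₁ M) (eV v) := fun v => Subtype.ext (hφ v)
  constructor
  · have h3 : (maximalIdeal (W.comap (algebraMap K₁ M))).map (inclOfComap W (algebraMap K₁ M)) =
      maximalIdeal W := h1
    have h4 : (maximalIdeal V₁).map eV.toRingHom = maximalIdeal (W.comap (algebraMap K₁ M)) :=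
      IsLocalRing.map_ringEquiv_maximalIdeal eV
    have h5 : (maximalIdeal W').map eW.toRingHom = maximalIdeal W := IsLocalRing.map_ringEquiv_maximalIdeal eW
    have h6 : ((maximalIdeal V₁).map φ).map eW.toRingHom = (maximalIdeal W').map eW.toRingHom := by
      rw [h5, ← h3, ← h4, Ideal.map_map, Ideal.map_map]
      congr 1
      exact RingHom.ext hcomm
    have h7 := congrArg (Ideal.comap eW.toRingHom) h6
    rw [Ideal.comap_map_of_bijective eW.toRingHom eW.bijective,
      Ideal.comap_map_of_bijective eW.toRingHom eW.bijective] at h7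
    exact h7
  · let i1 : Algebra (ResidueField V₁) (ResidueField W') := (ResidueField.map φ).toAlgebra
    let i2 : Algebra (ResidueField (W.comap (algebraMap K₁ M))) (ResidueField W) :=
      (ResidueField.map (inclOfComap W (algebraMap K₁ M))).toAlgebra
    refine Groth.Agent.Etalg.SolNormal.geomReduced_of_hom (ResidueField.mapEquiv eV)
      (ResidueField.mapEquiv eW).toRingHom ?_ h2
    intro x
    obtain ⟨v, rfl⟩ := residue_surjective x
    exact congrArg (residue W) (hcomm v)

end K93.RedFib
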