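import Groth.Agent.VarietyA.GeomIrrF
import Groth.Agent.S9634
import Groth.Agent.S9635
import Mathlib.FieldTheory.SeparableClosure

/-!
# Geometrically integral components after splitting
-/

set_option autoImplicit false
universe u

open TensorProduct nonZeroDivisors

namespace K93.RedFib

open Groth.Agent

/-- A field extension geometrically reduced over `ℓ`, in which `ℓ` is separably closed, is geometrically integral. -/
theorem isDomain_tensor_of_sepClosed {ℓ Ω : Type u} [Field ℓ] [Field Ω] [Algebra ℓ Ω]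
    (hred : ∀ (K : Type u) [Field K] [Algebra ℓ K], IsReduced (K ⊗[ℓ] Ω))
    (hsep : ∀ a : Ω, IsSeparable ℓ a → a ∈ (algebraMap ℓ Ω).range) (K : Type u) [Field K] [Algebra ℓ K] :
    IsDomain (K ⊗[ℓ] Ω) := by
  have h1 : (nilradical (K ⊗[ℓ] Ω)).IsPrime := VarietyA.GeomIrr.isPrime_nilradical_of_sepClosed_in ℓ Ω K hsep
  have h2 := hred K
  rw [nilradical_eq_zero] at h1
  exact IsDomain.of_bot_isPrime _

/-- `E ⊗ K` a domain, `Ω' = Frac E`: `Ω' ⊗ K` is a domain. -/
theorem isDomain_tensor_frac {k' Ω' K : Type u} [Field k'] [Field Ω'] [Field K] [Algebra k' Ω'] [Algebra k' K]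
    (E : Type u) [CommRing E] [IsDomain E] [Algebra k' E] [Algebra E Ω'] [IsScalarTower k' E Ω'] [IsFractionRing E Ω']
    [IsDomain (E ⊗[k'] K)] : IsDomain (Ω' ⊗[k'] K) := by
  let A := E ⊗[k'] K
  have hloc : IsLocalization (Algebra.algebraMapSubmonoid A E⁰) (A ⊗[E] Ω') := inferInstance
  have hEA : Function.Injective (algebraMap E A) :=
    Algebra.TensorProduct.includeLeft_injective (R := k') (A := E) (B := K) (S := k') (algebraMap k' K).injective
  have hle : Algebra.algebraMapSubmonoid A E⁰ ≤ nonZeroDivisors A := by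
    rintro _ ⟨x, hx, rfl⟩
    exact mem_nonZeroDivisors_of_ne_zero ((map_ne_zero_iff _ hEA).mpr (nonZeroDivisors.ne_zero hx))
  have h6 : IsDomain (A ⊗[E] Ω') := IsLocalization.isDomain_of_le_nonZeroDivisors (A ⊗[E] Ω') hle
  let e3 : Ω' ⊗[E] (E ⊗[k'] K) ≃ₐ[Ω'] Ω' ⊗[k'] K := Algebra.TensorProduct.cancelBaseChange k' E Ω' Ω' K
  have h7 : IsDomain (Ω' ⊗[E] (E ⊗[k'] K)) := (Algebra.TensorProduct.comm E Ω' A).toMulEquiv.isDomain _
  exact e3.symm.toMulEquiv.isDomain _

/-- `Ω` over `k`, all elements of `Ω` separable over `k` split in `k'`; `Ω'` a residue field of `Ω ⊗ k'` at a minimal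
prime: `Ω'` is geometrically integral over `k'`. -/
theorem isDomain_tensor_of_split {k k' Ω Ω' : Type u} [Field k] [Field k'] [Field Ω] [Field Ω'] [Algebra k k']
    [Algebra k Ω] [Algebra k' Ω'] [Algebra Ω Ω'] [Algebra k Ω'] [IsScalarTower k k' Ω'] [IsScalarTower k Ω Ω']
    (hred : ∀ (K : Type u) [Field K] [Algebra k K], IsReduced (K ⊗[k] Ω))
    (hsplit : ∀ y : Ω, IsSeparable k y → ((minpoly k y).map (algebraMap k k')).Splits)
    (φ : Ω ⊗[k] k' →+* Ω') (hφ1 : ∀ x, φ (x ⊗ₜ 1) = algebraMap Ω Ω' x) (hφ2 : ∀ y, φ (1 ⊗ₜ y) = algebraMap k' Ω' y)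
    (hmin : ∀ 𝔞 : Ideal (Ω ⊗[k] k'), 𝔞.IsPrime → 𝔞 ≤ RingHom.ker φ → RingHom.ker φ ≤ 𝔞)
    (hgen : ∀ z : Ω', ∃ a b, φ b ≠ 0 ∧ z * φ b = φ a) (K : Type u) [Field K] [Algebra k' K] :
    IsDomain (Ω' ⊗[k'] K) := by
  let ℓ := separableClosure k Ω
  -- the embedding of `ℓ` in `k'`
  have h1 : ∀ y : ℓ, ∃ c : k', algebraMap k' Ω' c = algebraMap Ω Ω' (y : Ω) := by
    intro y
    have hy : IsSeparable k (y : Ω) := mem_separableClosure_iff.mp y.2
    have hint : IsIntegral k (y : Ω) := hy.isIntegral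
    have h2 := hsplit y hy
    have h3 : ((minpoly k (y : Ω)).map (algebraMap k k')) ≠ 0 :=
      (Polynomial.map_ne_zero_iff (algebraMap k k').injective).mpr (minpoly.ne_zero hint)
    have h4 : (Polynomial.map (algebraMap k' Ω') ((minpoly k (y : Ω)).map (algebraMap k k'))).IsRoot
        (algebraMap Ω Ω' (y : Ω)) := by
      rw [Polynomial.map_map, ← IsScalarTower.algebraMap_eq, Polynomial.IsRoot.def, Polynomial.eval_map_algebraMap,
        Polynomial.aeval_algebraMap_apply, minpoly.aeval, map_zero]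
    exact h2.mem_range_of_isRoot h3 h4
  choose σ hσ using h1
  have hinj : Function.Injective (algebraMap k' Ω') := (algebraMap k' Ω').injective
  let σ' : ℓ →+* k' :=
    { toFun := σ
      map_one' := hinj (by rw [hσ, map_one, OneMemClass.coe_one, map_one])
      map_zero' := hinj (by rw [hσ, map_zero, ZeroMemClass.coe_zero, map_zero])
      map_add' := fun x y => hinj (by rw [hσ, map_add, hσ, hσ, ← map_add]; rfl)
      map_mul' := fun x y => hinj (by rw [hσ, map_mul, hσ, hσ, ← map_mul]; rfl) }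
  let iℓk' : Algebra ℓ k' := σ'.toAlgebra
  have tk : IsScalarTower k ℓ k' := IsScalarTower.of_algebraMap_eq fun x => hinj (by
    change _ = algebraMap k' Ω' (σ (algebraMap k ℓ x))
    rw [hσ, ← IsScalarTower.algebraMap_apply k k' Ω', IsScalarTower.algebraMap_apply k Ω Ω']
    rfl)
  have t1 : IsScalarTower ℓ Ω Ω' := inferInstance
  have t2 : IsScalarTower ℓ k' Ω' := IsScalarTower.of_algebraMap_eq fun x => (hσ x).symm
  -- `Ω ⊗_ℓ K` is a domain for every `K`
  have hdom : ∀ (K : Type u) [Field K] [Algebra ℓ K], IsDomain (K ⊗[ℓ] Ω) := by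
    have hr := (S9635.result (k := k) (k' := ℓ) (A := Ω)).mp hred
    refine fun K _ _ => isDomain_tensor_of_sepClosed hr (fun a ha => ?_) K
    have h2 : a ∈ separableClosure ℓ Ω := mem_separableClosure_iff.mpr ha
    rw [separableClosure.separableClosure_eq_bot, IntermediateField.mem_bot] at h2
    exact h2
  let E := Ω ⊗[ℓ] k'
  have hE : IsDomain E := (Algebra.TensorProduct.comm ℓ k' Ω).symm.toMulEquiv.isDomain _
  let ψ : E →ₐ[ℓ] Ω' := Algebra.TensorProduct.lift (IsScalarTower.toAlgHom ℓ Ω Ω') (IsScalarTower.toAlgHom ℓ k' Ω')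
    (fun _ _ => Commute.all _ _)
  let π : Ω ⊗[k] k' →ₐ[k] E := Algebra.TensorProduct.lift
    ((Algebra.TensorProduct.includeLeft : Ω →ₐ[ℓ] Ω ⊗[ℓ] k').restrictScalars k)
    ((Algebra.TensorProduct.includeRight : k' →ₐ[ℓ] Ω ⊗[ℓ] k').restrictScalars k) (fun _ _ => Commute.all _ _)
  have hπ : Function.Surjective π := by
    intro x
    induction x using TensorProduct.induction_on with
    | zero => exact ⟨0, map_zero _⟩
    | add x y hx hy =>
      obtain ⟨a, rfl⟩ := hx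
      obtain ⟨b, rfl⟩ := hy
      exact ⟨a + b, map_add _ _ _⟩
    | tmul a b =>
      refine ⟨a ⊗ₜ b, (Algebra.TensorProduct.lift_tmul _ _ _ _ _).trans ?_⟩
      change (a ⊗ₜ[ℓ] (1 : k')) * ((1 : Ω) ⊗ₜ[ℓ] b) = _
      rw [Algebra.TensorProduct.tmul_mul_tmul, mul_one, one_mul]
  have hψt : ∀ (a : Ω) (b : k'), ψ (a ⊗ₜ b) = algebraMap Ω Ω' a * algebraMap k' Ω' b := fun a b =>
    Algebra.TensorProduct.lift_tmul _ _ _ _ _
  have hπt : ∀ (a : Ω) (b : k'), π (a ⊗ₜ b) = a ⊗ₜ[ℓ] b := fun a b => by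
    refine (Algebra.TensorProduct.lift_tmul _ _ _ _ _).trans ?_
    change (a ⊗ₜ[ℓ] (1 : k')) * ((1 : Ω) ⊗ₜ[ℓ] b) = _
    rw [Algebra.TensorProduct.tmul_mul_tmul, mul_one, one_mul]
  have hψπ : ∀ x, ψ (π x) = φ x := by
    intro x
    induction x using TensorProduct.induction_on with
    | zero => rw [map_zero, map_zero, map_zero]
    | add x y hx hy => rw [map_add, map_add, map_add, hx, hy]
    | tmul a b =>
      have h3 : (a ⊗ₜ[k] b : Ω ⊗[k] k') = (a ⊗ₜ 1) * (1 ⊗ₜ b) := by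
        rw [Algebra.TensorProduct.tmul_mul_tmul, mul_one, one_mul]
      rw [h3, map_mul φ, hφ1, hφ2, map_mul π, map_mul ψ]
      rw [hπt, hπt, hψt, hψt, map_one, map_one, mul_one, one_mul]
  have hψ : Function.Injective ψ := by
    rw [injective_iff_map_eq_zero]
    intro x hx
    obtain ⟨y, rfl⟩ := hπ x
    rw [hψπ] at hx
    have h3 := hmin (RingHom.ker π) (RingHom.ker_isPrime _) (fun z hz => by
      rw [RingHom.mem_ker] at hz ⊢
      rw [← hψπ, hz, map_zero])
    exact h3 hx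
  let iEΩ' : Algebra E Ω' := ψ.toRingHom.toAlgebra
  have hfs : FaithfulSMul E Ω' := (faithfulSMul_iff_algebraMap_injective E Ω').2 hψ
  have hfr : IsFractionRing E Ω' := by
    refine IsFractionRing.of_field E Ω' fun z => ?_
    obtain ⟨a, b, hb, hab⟩ := hgen z
    refine ⟨π a, π b, ?_⟩
    change z = ψ (π a) / ψ (π b)
    rw [hψπ, hψπ, eq_div_iff hb, hab]
  -- base change to `K`
  let _ : Algebra k' E := Algebra.TensorProduct.rightAlgebra
  have t3 : IsScalarTower k' E Ω' := IsScalarTower.of_algebraMap_eq fun x => by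
    change _ = ψ (1 ⊗ₜ x)
    rw [hψt, map_one, one_mul]
  let iℓK : Algebra ℓ K := ((algebraMap k' K).comp (algebraMap ℓ k')).toAlgebra
  have t4 : IsScalarTower ℓ k' K := IsScalarTower.of_algebraMap_eq' rfl
  -- `E ⊗_{k'} K = Ω ⊗_ℓ K`
  let e1 : K ⊗[k'] (k' ⊗[ℓ] Ω) ≃ₐ[K] K ⊗[ℓ] Ω := Algebra.TensorProduct.cancelBaseChange ℓ k' K K Ω
  let e2 : k' ⊗[ℓ] Ω ≃ₐ[k'] E :=
    { (Algebra.TensorProduct.comm ℓ k' Ω).toRingEquiv with
      commutes' := fun r => by
        change Algebra.TensorProduct.comm ℓ k' Ω (r ⊗ₜ 1) = 1 ⊗ₜ r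
        rw [Algebra.TensorProduct.comm_tmul] }
  have hA : IsDomain (E ⊗[k'] K) := by
    have h4 : IsDomain (K ⊗[k'] (k' ⊗[ℓ] Ω)) := e1.toMulEquiv.isDomain _
    have h5 : IsDomain (K ⊗[k'] E) :=
      (Algebra.TensorProduct.congr (AlgEquiv.refl (R := k') (A₁ := K)) e2).symm.toMulEquiv.isDomain _
    exact (Algebra.TensorProduct.comm k' E K).toMulEquiv.isDomain _
  exact isDomain_tensor_frac E

end K93.RedFib
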