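import Groth.Agent.CurvesC.AnUnram
import Groth.Agent.S0543
import Groth.Agent.S0549
import Groth.Agent.S0566
import Groth.Agent.S0568
import Mathlib.RingTheory.Smooth.IntegralClosure
import Mathlib.RingTheory.Flat.TorsionFree
import Mathlib.RingTheory.Flat.FaithfullyFlat.Algebra
import Mathlib.RingTheory.LocalProperties.Submodule

/-!
# Finiteness of the integral closure over a semi-local Dedekind domain
-/

set_option autoImplicit false
universe u v w

open TensorProduct IsLocalRing nonZeroDivisors

namespace K93.RedFib

open Groth.Agent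

theorem finite_of_family {D : Type u} [CommRing D] {ι : Type v} [Finite ι] (C : ι → Type w)
    [∀ i, CommRing (C i)] [∀ i, Algebra D (C i)] {N : Type u} [AddCommGroup N] [Module D N]
    (h : ∀ i, Module.Finite (C i) (C i ⊗[D] N))
    (hC : ∀ (Q : Type u) [AddCommGroup Q] [Module D Q], (∀ i, Subsingleton (C i ⊗[D] Q)) → Subsingleton Q) :
    Module.Finite D N := by
  classical
  cases nonempty_fintype ι
  choose n s hs using fun i => Module.Finite.exists_fin (R := C i) (M := C i ⊗[D] N)
  choose k t m hm using fun i => fun j : Fin (n i) => TensorProduct.exists_sum_tmul_eq (s i j)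
  let S : Set N := Set.range fun z : (Σ i, Σ j : Fin (n i), Fin (k i j)) => m z.1 z.2.1 z.2.2
  have hS : S.Finite := Set.finite_range _
  let N' : Submodule D N := Submodule.span D S
  have hsub : Subsingleton (N ⧸ N') := by
    refine hC (N ⧸ N') fun i => ?_
    let f : C i ⊗[D] N →ₗ[C i] C i ⊗[D] (N ⧸ N') := AlgebraTensorModule.lTensor (C i) (C i) N'.mkQ
    have hf : Function.Surjective f := by
      change Function.Surjective (LinearMap.lTensor (C i) N'.mkQ)
      exact LinearMap.lTensor_surjective _ (Submodule.mkQ_surjective _)
    have h0 : ∀ x, f x = 0 := by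
      intro x
      have hx : x ∈ Submodule.span (C i) (Set.range (s i)) := by rw [hs i]; trivial
      induction hx using Submodule.span_induction with
      | mem x hx =>
        obtain ⟨j, rfl⟩ := hx
        rw [hm i j, map_sum]
        refine Finset.sum_eq_zero fun l _ => ?_
        have h1 : N'.mkQ (m i j l) = 0 :=
          (Submodule.Quotient.mk_eq_zero N').mpr (Submodule.subset_span ⟨⟨i, j, l⟩, rfl⟩)
        change t i j l ⊗ₜ N'.mkQ (m i j l) = 0
        rw [h1, tmul_zero]
      | zero => exact map_zero f
      | add x y _ _ hx hy => rw [map_add, hx, hy, add_zero]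
      | smul c x _ hx => rw [map_smul, hx, smul_zero]
    exact ⟨fun a b => by
      obtain ⟨a, rfl⟩ := hf a
      obtain ⟨b, rfl⟩ := hf b
      rw [h0, h0]⟩
  refine ⟨⟨hS.toFinset, ?_⟩⟩
  rw [Set.Finite.coe_toFinset]
  exact (Submodule.Quotient.subsingleton_iff (p := N')).mp hsub

theorem finite_tensor {P D T E : Type u} [CommRing P] [IsDomain P] [CommRing D] [Algebra P D] [Module.Flat P D]
    [Algebra.FiniteType P D] [CommRing T] [IsDomain T] [Algebra P T] [Module.Flat P T] (hT : CAlg.IsNagata T)
    (hred : IsReduced (D ⊗[P] FractionRing T)) [CommRing E] [Algebra D E]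
    [IsLocalization (Algebra.algebraMapSubmonoid D P⁰) E] :
    Module.Finite (D ⊗[P] T) ((D ⊗[P] T) ⊗[D] integralClosure D E) := by
  let C := D ⊗[P] T
  have hNag : CAlg.IsNagata C := by
    let _ : Algebra T C := Algebra.TensorProduct.rightAlgebra
    have e : T ⊗[P] D ≃ₐ[T] C :=
      { (Algebra.TensorProduct.comm P T D).toRingEquiv with
        commutes' := fun r => by
          change Algebra.TensorProduct.comm P T D (r ⊗ₜ 1) = 1 ⊗ₜ r
          rw [Algebra.TensorProduct.comm_tmul] }
    have hft : Algebra.FiniteType T C := Algebra.FiniteType.equiv inferInstance e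
    exact S0566.result T hT C
  have hredC : IsReduced C := by
    let f : C →+* D ⊗[P] FractionRing T :=
      (Algebra.TensorProduct.map (AlgHom.id P D) (IsScalarTower.toAlgHom P T (FractionRing T))).toRingHom
    refine isReduced_of_injective f ?_
    exact Module.Flat.lTensor_preserves_injective_linearMap (M := D)
      (IsScalarTower.toAlgHom P T (FractionRing T)).toLinearMap (IsFractionRing.injective T (FractionRing T))
  have hflC : Module.Flat P C := inferInstance
  have hflDC : Module.Flat D C := inferInstance
  have hloc : IsLocalization (Algebra.algebraMapSubmonoid C (Algebra.algebraMapSubmonoid D P⁰)) (C ⊗[D] E) :=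
    inferInstance
  have hle : Algebra.algebraMapSubmonoid C (Algebra.algebraMapSubmonoid D P⁰) ≤ nonZeroDivisors C := by
    rintro _ ⟨_, ⟨r, hr, rfl⟩, rfl⟩
    have h1 : IsSMulRegular C r := Module.Flat.isSMulRegular_of_nonZeroDivisors hr
    refine mem_nonZeroDivisors_iff_right.mpr fun x hx => h1 ?_
    change r • x = r • (0 : C)
    rw [smul_zero, Algebra.smul_def, mul_comm]
    rw [← IsScalarTower.algebraMap_apply] at hx
    exact hx
  have hfin : Module.Finite C (integralClosure C (C ⊗[D] E)) :=
    CurvesC.AnUnram.finite_integralClosure_of_isNagata C hNag _ hle _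
  have hN : IsNoetherianRing C := hNag.1
  exact Module.Finite.of_injective (TensorProduct.toIntegralClosure D C E).toLinearMap
      TensorProduct.toIntegralClosure_injective_of_flat

section

variable {P : Type u} [CommRing P] [IsDedekindDomain P] [Finite (MaximalSpectrum P)]
  {D E : Type u} [CommRing D] [Algebra P D] [Module.Flat P D] [Algebra.FiniteType P D]
  [CommRing E] [Algebra D E] [IsLocalization (Algebra.algebraMapSubmonoid D P⁰) E]

/-- Over a semi-local Dedekind domain, the integral closure of a flat algebra of finite type with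
geometrically reduced generic fibre, in its generic fibre, is finite. -/
theorem finite_integralClosure (hred : ∀ (K' : Type u) [Field K'] [Algebra P K'],
      Function.Injective (algebraMap P K') → IsReduced (D ⊗[P] K')) :
    Module.Finite D (integralClosure D E) := by
  by_cases hfield : IsField P
  · have hu : ∀ x ∈ Algebra.algebraMapSubmonoid D P⁰, IsUnit x := by
      rintro _ ⟨r, hr, rfl⟩
      exact ((hfield.mul_inv_cancel (nonZeroDivisors.ne_zero hr)).elim fun s hs =>
        IsUnit.of_mul_eq_one s hs).map (algebraMap P D)
    have hb : Function.Bijective (algebraMap D E) :=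
      (IsLocalization.atUnits D (Algebra.algebraMapSubmonoid D P⁰) (fun x hx => hu x hx) (S := E)).bijective
    have hs : Function.Surjective (algebraMap D (integralClosure D E)) := fun x => by
      obtain ⟨d, hd⟩ := hb.2 x
      exact ⟨d, Subtype.ext hd⟩
    exact Module.Finite.of_surjective (Algebra.linearMap D (integralClosure D E)) hs
  let V : MaximalSpectrum P → Type u := fun m => Localization.AtPrime m.asIdeal
  have hV : ∀ m : MaximalSpectrum P, IsDiscreteValuationRing (Localization.AtPrime m.asIdeal) := fun m => by
    have h0 : m.asIdeal ≠ ⊥ := Ring.ne_bot_of_isMaximal_of_not_isField m.isMaximal hfield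
    exact IsLocalization.AtPrime.isDiscreteValuationRing_of_dedekind_domain P h0 _
  let T : MaximalSpectrum P → Type u := fun m =>
    AdicCompletion (maximalIdeal (Localization.AtPrime m.asIdeal)) (Localization.AtPrime m.asIdeal)
  have hflV : ∀ m : MaximalSpectrum P, Module.FaithfullyFlat (V m) (T m) := fun m => by
    have : IsNoetherianRing (T m) := S0543.result (V m) _
    exact Module.FaithfullyFlat.of_flat_of_isLocalHom
  have hfl : ∀ m : MaximalSpectrum P, Module.Flat P (T m) := fun m =>
    have := hflV m
    Module.Flat.trans P (V m) (T m)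
  refine finite_of_family (fun m : MaximalSpectrum P => D ⊗[P] T m) (fun m => ?_) fun Q _ _ hQ => ?_
  · have hN : IsNoetherianRing (T m) := S0543.result (V m) _
    obtain ⟨_, _⟩ := (S0549.result (V m)).mp ⟨inferInstance, hV m⟩
    have := hfl m
    refine finite_tensor (T := T m) (S0568.result (T m)) (hred _ ?_)
    have h1 : Function.Injective (algebraMap P (T m)) := by
      have := hflV m
      rw [IsScalarTower.algebraMap_eq P (V m) (T m), RingHom.coe_comp]
      exact (FaithfulSMul.algebraMap_injective (V m) (T m)).comp
        (IsLocalization.injective (V m) (Ideal.primeCompl_le_nonZeroDivisors m.asIdeal))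
    rw [IsScalarTower.algebraMap_eq P (T m) (FractionRing (T m)), RingHom.coe_comp]
    exact (IsFractionRing.injective (T m) _).comp h1
  · let _ : Module P Q := Module.compHom Q (algebraMap P D)
    have _ : IsScalarTower P D Q := IsScalarTower.of_compHom P D Q
    refine Module.subsingleton_of_localization_maximal (R := P)
      (fun m _ => Localization.AtPrime m ⊗[P] Q) (fun m _ => TensorProduct.mk P (Localization.AtPrime m) Q 1)
      fun m hm => ?_
    let m' : MaximalSpectrum P := ⟨m, hm⟩
    have := hflV m'
    have e1 : Q ⊗[D] (D ⊗[P] T m') ≃ₗ[D] Q ⊗[P] T m' :=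
      AlgebraTensorModule.cancelBaseChange P D D Q (T m')
    have e2 : T m' ⊗[V m'] (V m' ⊗[P] Q) ≃ₗ[V m'] T m' ⊗[P] Q :=
      AlgebraTensorModule.cancelBaseChange P (V m') (V m') (T m') Q
    have e3 : T m' ⊗[V m'] (V m' ⊗[P] Q) ≃ (D ⊗[P] T m') ⊗[D] Q :=
      e2.toEquiv.trans ((TensorProduct.comm P (T m') Q).toEquiv.trans
        (e1.symm.toEquiv.trans (TensorProduct.comm D Q (D ⊗[P] T m')).toEquiv))
    have := hQ m'
    have h3 : Subsingleton (T m' ⊗[V m'] (V m' ⊗[P] Q)) := e3.subsingleton
    exact Module.FaithfullyFlat.lTensor_reflects_triviality (V m') (T m') (V m' ⊗[P] Q)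

end

end K93.RedFib
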