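import Groth.Agent.AlgSp.K93.RFRing
import Groth.Agent.An.H526.T3Norm
import Groth.Agent.Ega4C.NormalRing
import Groth.Prelude.Def_Pi1
import Mathlib.AlgebraicGeometry.Normalization
import Mathlib.AlgebraicGeometry.Morphisms.Flat

/-!
# Sections of base changes and of relative normalizations
-/

set_option autoImplicit false
universe u

open CategoryTheory CategoryTheory.Limits AlgebraicGeometry TensorProduct nonZeroDivisors

noncomputable section

namespace K93.RedFib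

open Groth.Agent

section str

variable {P : Type u} [CommRing P] {X : Scheme.{u}} (g : X ⟶ Spec (.of P)) (U : X.Opens)

/-- The structure map on sections of a scheme over an affine base. -/
def str : P →+* Γ(X, U) := ((Scheme.ΓSpecIso (.of P)).inv ≫ g.appLE ⊤ U le_top).hom

theorem ofHom_str : CommRingCat.ofHom (str g U) = (Scheme.ΓSpecIso (.of P)).inv ≫ g.appLE ⊤ U le_top := rfl

theorem str_comp {X' : Scheme.{u}} (f : X' ⟶ X) (V : X'.Opens) (h : V ≤ f ⁻¹ᵁ U) :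
    str (f ≫ g) V = (f.appLE U V h).hom.comp (str g U) := by
  unfold str
  rw [← CommRingCat.hom_comp, Category.assoc, Scheme.Hom.appLE_comp_appLE]

theorem str_comp_app {X' : Scheme.{u}} (f : X' ⟶ X) :
    str (f ≫ g) (f ⁻¹ᵁ U) = (f.app U).hom.comp (str g U) := by
  rw [str_comp g U f (f ⁻¹ᵁ U) le_rfl, Scheme.Hom.app_eq_appLE]

theorem SpecMap_str {U : X.Opens} (hU : IsAffineOpen U) :
    Spec.map (CommRingCat.ofHom (str g U)) = hU.fromSpec ≫ g := by
  rw [ofHom_str, Spec.map_comp, ← Scheme.isoSpec_Spec_inv, ← IsAffineOpen.fromSpec_top,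
    IsAffineOpen.SpecMap_appLE_fromSpec g (isAffineOpen_top _) hU le_top]

theorem flat_str [Flat g] {U : X.Opens} (hU : IsAffineOpen U) : (str g U).Flat := by
  have h1 : Flat (Spec.map (CommRingCat.ofHom (str g U))) := by
    rw [SpecMap_str g hU]; infer_instance
  exact (HasRingHomProperty.Spec_iff (P := @Flat)).1 h1

theorem finiteType_str [LocallyOfFiniteType g] {U : X.Opens} (hU : IsAffineOpen U) : (str g U).FiniteType := by
  have h1 : LocallyOfFiniteType (Spec.map (CommRingCat.ofHom (str g U))) := by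
    rw [SpecMap_str g hU]; infer_instance
  exact (HasRingHomProperty.Spec_iff (P := @LocallyOfFiniteType)).1 h1

end str

section pushout

variable {P P' : Type u} [CommRing P] [CommRing P'] [Algebra P P'] {X X' : Scheme.{u}}
  {g : X ⟶ Spec (.of P)} {j : X' ⟶ X} {g' : X' ⟶ Spec (.of P')}
  (h : IsPullback j g' g (Spec.map (CommRingCat.ofHom (algebraMap P P'))))
  {U : X.Opens} (hU : IsAffineOpen U)

include h hU in
theorem isPushout_str : IsPushout (CommRingCat.ofHom (str g U)) (CommRingCat.ofHom (algebraMap P P'))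
    (j.app U) (CommRingCat.ofHom (str g' (j ⁻¹ᵁ U))) := by
  have h1 := (isIso_pushoutSection_iff h (US := ⊤) (UT := ⊤) (UX := U) (UY := j ⁻¹ᵁ U) le_top le_top
    (by simp)).mp (isIso_pushoutSection_of_isAffineOpen h _ _ _ (isAffineOpen_top _) (isAffineOpen_top _) hU)
  refine IsPushout.of_iso h1 (Scheme.ΓSpecIso (.of P)) (Iso.refl _) (Scheme.ΓSpecIso (.of P')) (Iso.refl _)
    ?_ ?_ ?_ ?_
  · rw [Iso.refl_hom, Category.comp_id, ofHom_str, Iso.hom_inv_id_assoc]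
  · rw [← Scheme.ΓSpecIso_naturality]
    congr 1
  · rw [Iso.refl_hom, Iso.refl_hom, Category.comp_id, Category.id_comp, Scheme.Hom.app_eq_appLE]
  · rw [Iso.refl_hom, Category.comp_id, ofHom_str, Iso.hom_inv_id_assoc]

include h hU in
theorem algebra_isPushout [Algebra P Γ(X, U)] [Algebra P' Γ(X', j ⁻¹ᵁ U)] [Algebra Γ(X, U) Γ(X', j ⁻¹ᵁ U)]
    [Algebra P Γ(X', j ⁻¹ᵁ U)] [IsScalarTower P Γ(X, U) Γ(X', j ⁻¹ᵁ U)] [IsScalarTower P P' Γ(X', j ⁻¹ᵁ U)]
    (h1 : algebraMap P Γ(X, U) = str g U) (h2 : algebraMap P' Γ(X', j ⁻¹ᵁ U) = str g' (j ⁻¹ᵁ U))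
    (h3 : algebraMap Γ(X, U) Γ(X', j ⁻¹ᵁ U) = (j.app U).hom) :
    Algebra.IsPushout P Γ(X, U) P' Γ(X', j ⁻¹ᵁ U) := by
  have h4 := isPushout_str h hU
  rw [← h1, ← h2, ← CommRingCat.ofHom_hom (j.app U), ← h3] at h4
  exact CommRingCat.isPushout_iff_isPushout.mp h4

end pushout

section normalization

variable {Z X : Scheme.{u}} (j : Z ⟶ X) [QuasiCompact j] [QuasiSeparated j] {U : X.Opens} (hU : IsAffineOpen U)

theorem le_preimage : j ⁻¹ᵁ U ≤ j.toNormalization ⁻¹ᵁ (j.fromNormalization ⁻¹ᵁ U) := by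
  rw [← Scheme.Hom.comp_preimage, Scheme.Hom.toNormalization_fromNormalization]

theorem app_eq : j.app U = j.fromNormalization.app U ≫
    j.toNormalization.appLE (j.fromNormalization ⁻¹ᵁ U) (j ⁻¹ᵁ U) (le_preimage j) := by
  rw [Scheme.Hom.app_eq_appLE, Scheme.Hom.app_eq_appLE, Scheme.Hom.appLE_comp_appLE]
  simp only [Scheme.Hom.toNormalization_fromNormalization]

include hU in
theorem isIntegralClosure_aux [Algebra Γ(X, U) Γ(j.normalization, j.fromNormalization ⁻¹ᵁ U)]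
    [Algebra Γ(j.normalization, j.fromNormalization ⁻¹ᵁ U) Γ(Z, j ⁻¹ᵁ U)]
    (h2 : algebraMap Γ(j.normalization, j.fromNormalization ⁻¹ᵁ U) Γ(Z, j ⁻¹ᵁ U) =
      (j.toNormalization.appLE (j.fromNormalization ⁻¹ᵁ U) (j ⁻¹ᵁ U) (le_preimage j)).hom) :
    let _ : Algebra Γ(X, U) Γ(Z, j ⁻¹ᵁ U) := (j.app U).hom.toAlgebra
    IsIntegralClosure Γ(j.normalization, j.fromNormalization ⁻¹ᵁ U) Γ(X, U) Γ(Z, j ⁻¹ᵁ U) := by
  have h4 := j.normalizationObjIso_hom_val hU
  let i3 : Algebra Γ(X, U) Γ(Z, j ⁻¹ᵁ U) := (j.app U).hom.toAlgebra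
  let e : Γ(j.normalization, j.fromNormalization ⁻¹ᵁ U) ≃+* integralClosure Γ(X, U) Γ(Z, j ⁻¹ᵁ U) :=
    (j.normalizationObjIso hU).commRingCatIsoToRingEquiv
  have h5 : ∀ n, algebraMap Γ(j.normalization, j.fromNormalization ⁻¹ᵁ U) Γ(Z, j ⁻¹ᵁ U) n = (e n : Γ(Z, j ⁻¹ᵁ U)) := by
    intro n
    rw [h2, ← h4]
    rfl
  refine ⟨?_, ?_⟩
  · intro x y hxy
    rw [h5, h5] at hxy
    exact e.injective (Subtype.ext hxy)
  · intro x
    constructor
    · intro hx
      exact ⟨e.symm ⟨x, hx⟩, by rw [h5, e.apply_symm_apply]⟩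
    · rintro ⟨y, rfl⟩
      rw [h5]
      exact (e y).2

include hU in
theorem isIntegralClosure [Algebra Γ(X, U) Γ(j.normalization, j.fromNormalization ⁻¹ᵁ U)]
    [Algebra Γ(j.normalization, j.fromNormalization ⁻¹ᵁ U) Γ(Z, j ⁻¹ᵁ U)] [i3 : Algebra Γ(X, U) Γ(Z, j ⁻¹ᵁ U)]
    (h2 : algebraMap Γ(j.normalization, j.fromNormalization ⁻¹ᵁ U) Γ(Z, j ⁻¹ᵁ U) =
      (j.toNormalization.appLE (j.fromNormalization ⁻¹ᵁ U) (j ⁻¹ᵁ U) (le_preimage j)).hom)
    (h3 : algebraMap Γ(X, U) Γ(Z, j ⁻¹ᵁ U) = (j.app U).hom) :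
    IsIntegralClosure Γ(j.normalization, j.fromNormalization ⁻¹ᵁ U) Γ(X, U) Γ(Z, j ⁻¹ᵁ U) := by
  obtain rfl : i3 = (j.app U).hom.toAlgebra := Algebra.algebra_ext _ _ fun r => congr($h3 r)
  exact isIntegralClosure_aux j hU h2

end normalization

end K93.RedFib
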