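import Groth.Agent.AlgSp.K93.RFIso
import Mathlib.AlgebraicGeometry.Geometrically.Reduced
import Mathlib.RingTheory.LocalProperties.Reduced

/-!
# Good models: finite modifications with geometrically reduced fibres
-/

set_option autoImplicit false
universe u

open CategoryTheory CategoryTheory.Limits AlgebraicGeometry TensorProduct nonZeroDivisors

noncomputable section

namespace K93.RedFib

open Groth.Agent

theorem isReduced_of_cover {Z : Scheme.{u}} {ι : Type*} (W : ι → Z.Opens) (hW : ∀ i, IsAffineOpen (W i))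
    (hcov : ∀ z : Z, ∃ i, z ∈ W i) (h : ∀ i, _root_.IsReduced Γ(Z, W i)) : IsReduced Z := by
  have h1 : ∀ x : Z, _root_.IsReduced (Z.presheaf.stalk x) := by
    intro x
    obtain ⟨i, hi⟩ := hcov x
    have := h i
    let _ := Z.presheaf.algebra_section_stalk ⟨x, hi⟩
    have hloc := (hW i).isLocalization_stalk ⟨x, hi⟩
    exact isReduced_localizationPreserves ((hW i).primeIdealOf ⟨x, hi⟩).asIdeal.primeCompl
      (Z.presheaf.stalk x) inferInstance
  exact isReduced_of_isReduced_stalk Z

theorem isNormalScheme_of_iso {X Y : Scheme.{u}} (e : X ≅ Y) (h : Pi1.IsNormalScheme Y) : Pi1.IsNormalScheme X :=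
  K378.NormGeom.isNormalScheme_of_isOpenImmersion e.hom h

/-- Geometric reducedness from an affine cover of the source. -/
theorem geometricallyReduced_of_cover {P : Type u} [CommRing P] {Y : Scheme.{u}} (h : Y ⟶ Spec (.of P))
    {ι : Type*} (W : ι → Y.Opens) (hW : ∀ i, IsAffineOpen (W i)) (hcov : ∀ z : Y, ∃ i, z ∈ W i)
    (hred : ∀ i, @GeomRed P Γ(Y, W i) _ _ (str h (W i)).toAlgebra) : GeometricallyReduced h := by
  refine ⟨geometrically_iff_of_commRing_of_isClosedUnderIsomorphisms.mpr fun K' _ _ => ?_⟩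
  let j := genι h K'
  refine isReduced_of_cover (fun i => j ⁻¹ᵁ W i) (fun i => (hW i).preimage (genι h K'))
    (fun z => hcov (j z)) fun i => ?_
  let g' := pullback.snd h (Spec.map (CommRingCat.ofHom (algebraMap P K')))
  have hp : IsPullback j g' h (Spec.map (CommRingCat.ofHom (algebraMap P K'))) := IsPullback.of_hasPullback _ _
  let i1 : Algebra P Γ(Y, W i) := (str h (W i)).toAlgebra
  let C := Γ(pullback h (Spec.map (CommRingCat.ofHom (algebraMap P K'))), j ⁻¹ᵁ W i)
  let a2 : Algebra K' C := (str g' (j ⁻¹ᵁ W i)).toAlgebra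
  let a3 : Algebra Γ(Y, W i) C := (j.app (W i)).hom.toAlgebra
  let a4 : Algebra P C := ((algebraMap Γ(Y, W i) C).comp (algebraMap P Γ(Y, W i))).toAlgebra
  have t1 : IsScalarTower P Γ(Y, W i) C := IsScalarTower.of_algebraMap_eq' rfl
  have t2 : IsScalarTower P K' C := by
    apply IsScalarTower.of_algebraMap_eq'
    have h5 := (isPushout_str hp (hW i)).w
    exact congrArg CommRingCat.Hom.hom h5
  have hpo : Algebra.IsPushout P Γ(Y, W i) K' C := algebra_isPushout hp (hW i) rfl rfl rfl
  have h6 : _root_.IsReduced (Γ(Y, W i) ⊗[P] K') := hred i K'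
  exact isReduced_of_injective (Algebra.IsPushout.equiv P Γ(Y, W i) K' C).symm.toRingHom
    (Algebra.IsPushout.equiv P Γ(Y, W i) K' C).symm.injective

section base

variable {P P' : Type u} [CommRing P] [CommRing P'] [Algebra P P'] {X X' Y Y' : Scheme.{u}}
  {g : X ⟶ Spec (.of P)} {g' : X' ⟶ Spec (.of P')} {ι : X' ⟶ X}
  (hX : IsPullback ι g' g (Spec.map (CommRingCat.ofHom (algebraMap P P'))))
  (hinj : Function.Injective (algebraMap P P'))

theorem SpecMap_comp {P P' K' : Type u} [CommRing P] [CommRing P'] [CommRing K'] [Algebra P P'] [Algebra P' K']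
    [Algebra P K'] [IsScalarTower P P' K'] : Spec.map (CommRingCat.ofHom (algebraMap P' K')) ≫
      Spec.map (CommRingCat.ofHom (algebraMap P P')) = Spec.map (CommRingCat.ofHom (algebraMap P K')) := by
  rw [← Spec.map_comp, ← CommRingCat.ofHom_comp, ← IsScalarTower.algebraMap_eq]

include hX in
theorem isPullback_comp {K' : Type u} [CommRing K'] [Algebra P' K'] [Algebra P K'] [IsScalarTower P P' K'] :
    IsPullback (pullback.fst g' (Spec.map (CommRingCat.ofHom (algebraMap P' K'))) ≫ ι)
      (pullback.snd g' (Spec.map (CommRingCat.ofHom (algebraMap P' K')))) g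
      (Spec.map (CommRingCat.ofHom (algebraMap P K'))) := by
  rw [← SpecMap_comp (P := P) (P' := P') (K' := K')]
  exact (IsPullback.of_hasPullback g' (Spec.map (CommRingCat.ofHom (algebraMap P' K')))).paste_horiz hX

include hX hinj in
theorem GN.baseChange (hg : GN g) : GN g' := by
  intro K' _ _ h1
  let i : Algebra P K' := ((algebraMap P' K').comp (algebraMap P P')).toAlgebra
  have t : IsScalarTower P P' K' := IsScalarTower.of_algebraMap_eq' rfl
  exact isNormalScheme_of_iso (isPullback_comp hX (K' := K')).isoPullback (hg K' (h1.comp hinj))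

/-- `GIso` gives an isomorphism of generic fibres. -/
theorem GN.of_gIso {ν : Y ⟶ X} (hg : GN g) (hν : GIso g ν) : GN (ν ≫ g) := by
  intro K' _ _ h1
  have := hν K' h1
  have h2 := (IsPullback.of_hasPullback ν (genι g K')).flip.paste_horiz
    (IsPullback.of_hasPullback g (Spec.map (CommRingCat.ofHom (algebraMap P K')))).flip
  have e1 : pullback ν (genι g K') ≅ pullback (ν ≫ g) (Spec.map (CommRingCat.ofHom (algebraMap P K'))) :=
    h2.flip.isoPullback
  exact isNormalScheme_of_iso (e1.symm ≪≫ asIso (pullback.snd ν (genι g K'))) (hg K' h1)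

variable {ν : Y ⟶ X} {ν' : Y' ⟶ X'} {ιY : Y' ⟶ Y} (hY : IsPullback ιY ν' ν ι)

/-- A morphism whose pullback along `c` is an isomorphism. -/
theorem isIso_snd_of_isPullback {Y X Z W : Scheme.{u}} {ν : Y ⟶ X} {c : Z ⟶ X} {p : W ⟶ Y} {q : W ⟶ Z}
    (h : IsPullback p q ν c) [IsIso (pullback.snd ν c)] : IsIso q := by
  rw [← h.isoPullback_hom_snd]
  infer_instance

include hX hY hinj in
theorem GIso.baseChange (hν : GIso g ν) : GIso g' ν' := by
  intro K' _ _ h1
  let i : Algebra P K' := ((algebraMap P' K').comp (algebraMap P P')).toAlgebra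
  have t : IsScalarTower P P' K' := IsScalarTower.of_algebraMap_eq' rfl
  have := hν K' (h1.comp hinj)
  have h2 := isPullback_comp hX (K' := K')
  have h3 : genι g' K' ≫ ι = h2.isoPullback.hom ≫ genι g K' := h2.isoPullback_hom_fst.symm
  have h4 : IsIso (pullback.snd ν (genι g' K' ≫ ι)) := isIso_snd_comp ν _ (genι g K') _ h3
  exact isIso_snd_of_isPullback ((IsPullback.of_hasPullback ν' (genι g' K')).paste_horiz hY)

end base

/-- Good models. -/
structure IsGood {P : Type u} [CommRing P] {X Y : Scheme.{u}} (g : X ⟶ Spec (.of P)) (ν : Y ⟶ X) : Prop where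
  finite : IsFinite ν
  surjective : Surjective ν
  gIso : GIso g ν
  flat : Flat (ν ≫ g)
  reduced : GeometricallyReduced (ν ≫ g)

/-- Good models are stable under base change. -/
theorem IsGood.baseChange {P P' : Type u} [CommRing P] [CommRing P'] [Algebra P P'] {X X' Y Y' : Scheme.{u}}
    {g : X ⟶ Spec (.of P)} {g' : X' ⟶ Spec (.of P')} {ι : X' ⟶ X}
    {ν : Y ⟶ X} {ν' : Y' ⟶ X'} {ιY : Y' ⟶ Y} (h : IsGood g ν)
    (hX : IsPullback ι g' g (Spec.map (CommRingCat.ofHom (algebraMap P P'))))
    (hinj : Function.Injective (algebraMap P P')) (hY : IsPullback ιY ν' ν ι) : IsGood g' ν' where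
  finite := MorphismProperty.of_isPullback hY h.finite
  surjective := MorphismProperty.of_isPullback hY h.surjective
  gIso := h.gIso.baseChange hX hinj hY
  flat := MorphismProperty.of_isPullback (hY.flip.paste_horiz hX.flip).flip h.flat
  reduced := MorphismProperty.of_isPullback (hY.flip.paste_horiz hX.flip).flip h.reduced

end K93.RedFib
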