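import Groth.Agent.AlgSp.K93.RFRoot
import Groth.Agent.AlgSp.K93.RFNormal
import Groth.Agent.AlgSp.K622.FibPts

/-!
# Geometrically integral residue fields at the maximal points of the fibres
-/

set_option autoImplicit false
universe u

open CategoryTheory CategoryTheory.Limits AlgebraicGeometry TensorProduct nonZeroDivisors

noncomputable section

namespace K93.RedFib

open Groth.Agent K622.FibPts

section str

variable {P : Type u} [CommRing P] {Y : Scheme.{u}} (h : Y ⟶ Spec (.of P))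

theorem toStalk_eq {U : Y.Opens} (hU : IsAffineOpen U) (y : Y) (hy : y ∈ U) :
    toStalk h y = (Y.presheaf.germ U y hy).hom.comp (str h U) := by
  have h1 : Spec.map (CommRingCat.ofHom (toStalk h y)) =
      Spec.map (CommRingCat.ofHom ((Y.presheaf.germ U y hy).hom.comp (str h U))) := by
    rw [map_toStalk, CommRingCat.ofHom_comp, Spec.map_comp, SpecMap_str h hU, CommRingCat.ofHom_hom,
      ← Category.assoc]
    congr 1
    exact (hU.fromSpecStalk_eq_fromSpecStalk hy).symm
  exact congrArg CommRingCat.Hom.hom (Spec.map_injective h1)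

theorem apply_fromSpec {U : Y.Opens} (hU : IsAffineOpen U) (p : Spec Γ(Y, U)) :
    (h (hU.fromSpec p)).asIdeal = p.asIdeal.comap (str h U) := by
  have h1 : h (hU.fromSpec p) = (Spec.map (CommRingCat.ofHom (str h U))) p := by
    rw [SpecMap_str h hU]
    rfl
  rw [h1]
  rfl

/-- The sections of a geometrically reduced scheme. -/
theorem geomRed_sections [hg : GeometricallyReduced h] {U : Y.Opens} (hU : IsAffineOpen U) :
    @GeomRed P Γ(Y, U) _ _ (str h U).toAlgebra := by
  intro k _ _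
  let a1 : Algebra P Γ(Y, U) := (str h U).toAlgebra
  let j := genι h k
  let g' := pullback.snd h (Spec.map (CommRingCat.ofHom (algebraMap P k)))
  have hpb : IsPullback j g' h (Spec.map (CommRingCat.ofHom (algebraMap P k))) := IsPullback.of_hasPullback _ _
  have hred : IsReduced (pullback h (Spec.map (CommRingCat.ofHom (algebraMap P k)))) :=
    hg.geometrically_isReduced _ _ _ (IsPullback.of_hasPullback _ _)
  let C := Γ(pullback h (Spec.map (CommRingCat.ofHom (algebraMap P k))), j ⁻¹ᵁ U)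
  let a2 : Algebra k C := (str g' (j ⁻¹ᵁ U)).toAlgebra
  let a3 : Algebra Γ(Y, U) C := (j.app U).hom.toAlgebra
  let a4 : Algebra P C := ((algebraMap Γ(Y, U) C).comp (algebraMap P Γ(Y, U))).toAlgebra
  have s1 : IsScalarTower P Γ(Y, U) C := IsScalarTower.of_algebraMap_eq' rfl
  have s2 : IsScalarTower P k C := by
    apply IsScalarTower.of_algebraMap_eq'
    have h5 := (isPushout_str hpb hU).w
    exact congrArg CommRingCat.Hom.hom h5
  have hpo : Algebra.IsPushout P Γ(Y, U) k C := algebra_isPushout hpb hU rfl rfl rfl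
  have hC : _root_.IsReduced C := inferInstance
  exact isReduced_of_injective (Algebra.IsPushout.equiv P Γ(Y, U) k C).toRingHom
    (Algebra.IsPushout.equiv P Γ(Y, U) k C).injective

end str

theorem isFrac_residue {A B : Type u} [CommRing A] [CommRing B] [IsLocalRing B] [Algebra A B] (p : Ideal A)
    [p.IsPrime] [IsLocalization.AtPrime B p] [Algebra A (IsLocalRing.ResidueField B)]
    [IsScalarTower A B (IsLocalRing.ResidueField B)] : IsFrac A (IsLocalRing.ResidueField B) := by
  intro z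
  obtain ⟨b, rfl⟩ := IsLocalRing.residue_surjective z
  obtain ⟨a, s, rfl⟩ := IsLocalization.exists_mk'_eq p.primeCompl b
  refine ⟨a, s, ?_, ?_⟩
  · rw [IsScalarTower.algebraMap_apply A B (IsLocalRing.ResidueField B)]
    exact ((IsLocalization.map_units B s).map (IsLocalRing.residue B)).ne_zero
  · rw [IsScalarTower.algebraMap_apply A B (IsLocalRing.ResidueField B) (s : A),
      IsScalarTower.algebraMap_apply A B (IsLocalRing.ResidueField B) a]
    change IsLocalRing.residue B _ * IsLocalRing.residue B _ = IsLocalRing.residue B _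
    rw [← map_mul, IsLocalization.mk'_spec]

/-- The residue field of `Y` at `ξ` is geometrically integral over the residue field of the base. -/
def GeomInt {P : Type u} [CommRing P] {Y : Scheme.{u}} (h : Y ⟶ Spec (.of P)) (ξ : Y) : Prop :=
  let _ : Algebra P (IsLocalRing.ResidueField (Y.presheaf.stalk ξ)) :=
    ((IsLocalRing.residue _).comp (toStalk h ξ)).toAlgebra
  ∀ (κ : Type u) [Field κ] [Algebra P κ], RingHom.ker (algebraMap P κ) = (h ξ).asIdeal →
    IsDomain (IsLocalRing.ResidueField (Y.presheaf.stalk ξ) ⊗[P] κ)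

section main

variable {P F : Type u} [CommRing P] [IsDedekindDomain P] [Finite (MaximalSpectrum P)] [Field F] [Algebra P F]
  [IsFractionRing P F] {Y : Scheme.{u}} (h : Y ⟶ Spec (.of P)) [LocallyOfFiniteType h] [QuasiCompact h]
  [GeometricallyReduced h]

theorem large_geomInt : Large F (fun F₂ => ∀ (P₂ : Type u) [CommRing P₂] [IsDomain P₂] [IsIntegrallyClosed P₂]
    [Algebra P P₂] [Algebra.IsIntegral P P₂] [Algebra P₂ F₂] [IsFractionRing P₂ F₂] [Algebra P F₂]
    [IsScalarTower P F F₂] [IsScalarTower P P₂ F₂] (Y₂ : Scheme.{u}) (h₂ : Y₂ ⟶ Spec (.of P₂)) (ι : Y₂ ⟶ Y)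
    (_ : IsPullback ι h₂ h (Spec.map (CommRingCat.ofHom (algebraMap P P₂)))) (ξ : Y₂) (_ : IsMaxFib h₂ ξ),
    GeomInt h₂ ξ) := by
  have hc : CompactSpace Y := QuasiCompact.compactSpace_of_compactSpace h
  have h1 : ∀ y : Y, ∃ W : Y.Opens, y ∈ W ∧ IsAffineOpen W := by
    intro y
    obtain ⟨_, ⟨U, hU', rfl⟩, hxU, -⟩ :=
      Y.isBasis_affineOpens.exists_subset_of_mem_open (Set.mem_univ y) isOpen_univ
    exact ⟨U, hxU, hU'⟩
  choose W hyW hW using h1
  obtain ⟨s, hs⟩ := isCompact_univ.elim_finite_subcover (fun x => (W x : Set Y)) (fun x => (W x).2)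
    (fun x _ => Set.mem_iUnion.mpr ⟨x, hyW x⟩)
  have h2 := fun i : s =>
    let _ : Algebra P Γ(Y, W i) := (str h (W i)).toAlgebra
    have : Algebra.FiniteType P Γ(Y, W i) := finiteType_str h (hW i)
    large_domain (P := P) (F := F) Γ(Y, W i) (geomRed_sections h (hW i))
  refine (Large.forall_finite _ h2).mono fun F₂ _ _ _ h3 => ?_
  intro P₂ _ _ _ _ _ _ _ _ _ _ Y₂ h₂ ι hp ξ hξ
  obtain ⟨i, hi⟩ := Set.mem_iUnion.mp (hs (Set.mem_univ (ι ξ)))
  obtain ⟨his, hx⟩ := Set.mem_iUnion.mp hi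
  have h4 := h3 ⟨i, his⟩
  have haff : IsAffineHom ι := MorphismProperty.of_isPullback (P := @IsAffineHom) hp.flip inferInstance
  let U := ι ⁻¹ᵁ W i
  have hU : IsAffineOpen U := (hW i).preimage ι
  have hξU : ξ ∈ U := hx
  let A := Γ(Y, W i)
  let A₂ := Γ(Y₂, U)
  let B := Y₂.presheaf.stalk ξ
  let a1 : Algebra P A := (str h (W i)).toAlgebra
  let a2 : Algebra P₂ A₂ := (str h₂ U).toAlgebra
  let a3 : Algebra A A₂ := (ι.app (W i)).hom.toAlgebra
  let a4 : Algebra P A₂ := ((algebraMap A A₂).comp (algebraMap P A)).toAlgebra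
  have s1 : IsScalarTower P A A₂ := IsScalarTower.of_algebraMap_eq' rfl
  have s2 : IsScalarTower P P₂ A₂ := by
    apply IsScalarTower.of_algebraMap_eq'
    have h5 := (isPushout_str hp (hW i)).w
    exact congrArg CommRingCat.Hom.hom h5
  have hpo : Algebra.IsPushout P A P₂ A₂ := algebra_isPushout hp (hW i) rfl rfl rfl
  let a5 : Algebra A₂ B := Y₂.presheaf.algebra_section_stalk ⟨ξ, hξU⟩
  have hloc : IsLocalization.AtPrime B (hU.primeIdealOf ⟨ξ, hξU⟩).asIdeal := hU.isLocalization_stalk ⟨ξ, hξU⟩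
  let Ω' := IsLocalRing.ResidueField B
  let a6 : Algebra A₂ Ω' := ((IsLocalRing.residue B).comp (algebraMap A₂ B)).toAlgebra
  have s3 : IsScalarTower A₂ B Ω' := IsScalarTower.of_algebraMap_eq' rfl
  let a7 : Algebra P₂ Ω' := ((IsLocalRing.residue _).comp (toStalk h₂ ξ)).toAlgebra
  have s4 : IsScalarTower P₂ A₂ Ω' := by
    apply IsScalarTower.of_algebraMap_eq'
    change (IsLocalRing.residue _).comp (toStalk h₂ ξ) = _
    rw [toStalk_eq h₂ hU ξ hξU]
    rfl
  have hfr : IsFrac A₂ Ω' := isFrac_residue (hU.primeIdealOf ⟨ξ, hξU⟩).asIdeal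
  have hker : RingHom.ker (algebraMap A₂ Ω') = (hU.primeIdealOf ⟨ξ, hξU⟩).asIdeal := by
    ext x
    change IsLocalRing.residue B (algebraMap A₂ B x) = 0 ↔ _
    rw [IsLocalRing.residue_eq_zero_iff]
    exact IsLocalization.AtPrime.to_map_mem_maximal_iff B (hU.primeIdealOf ⟨ξ, hξU⟩).asIdeal x
  have hfs : hU.fromSpec (hU.primeIdealOf ⟨ξ, hξU⟩) = ξ := hU.fromSpec_primeIdealOf ⟨ξ, hξU⟩
  have hmax : MaxPt P₂ A₂ (RingHom.ker (algebraMap A₂ Ω')) := by
    rw [hker]
    intro 𝔮 h𝔮 hle hr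
    let z : Spec Γ(Y₂, U) := ⟨𝔮, h𝔮⟩
    have h5 : hU.fromSpec z ⤳ ξ := by
      have h6 : z ⤳ hU.primeIdealOf ⟨ξ, hξU⟩ := (PrimeSpectrum.le_iff_specializes _ _).mp hle
      have h7 := h6.map hU.fromSpec.continuous
      rwa [hfs] at h7
    have h6 : h₂ (hU.fromSpec z) = h₂ ξ := by
      apply PrimeSpectrum.ext
      conv_rhs => rw [← hfs]
      rw [apply_fromSpec, apply_fromSpec]
      exact le_antisymm (Ideal.comap_mono hle) hr
    have h7 := hξ _ h5 h6
    rw [← hfs] at h7
    have h8 : z = hU.primeIdealOf ⟨ξ, hξU⟩ := hU.fromSpec.isOpenEmbedding.injective h7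
    exact (congrArg PrimeSpectrum.asIdeal h8).ge
  intro κ _ _ hκ
  refine h4 P₂ A₂ Ω' hfr hmax κ ?_
  have h10 := apply_fromSpec h₂ hU (hU.primeIdealOf ⟨ξ, hξU⟩)
  rw [hfs] at h10
  rw [hκ, h10, IsScalarTower.algebraMap_eq P₂ A₂ Ω', ← RingHom.comap_ker, hker]
  rfl

end main

end K93.RedFib
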