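import Groth.Agent.AlgSp.K93.RFIrr

/-!
# Good models with geometrically integral fibre components
-/

set_option autoImplicit false
universe u

open CategoryTheory CategoryTheory.Limits AlgebraicGeometry TensorProduct nonZeroDivisors

noncomputable section

namespace K93.RedFib

open Groth.Agent K622.FibPts

/-- Reducedness of a base change passes to localizations. -/
theorem isReduced_tensor_loc' {k C Ω K : Type u} [CommRing k] [CommRing C] [Algebra k C] [CommRing K] [Algebra k K]
    [CommRing Ω] [Algebra k Ω] [Algebra C Ω] [IsScalarTower k C Ω] (M : Submonoid C) [IsLocalization M Ω]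
    (h : _root_.IsReduced (C ⊗[k] K)) : _root_.IsReduced (Ω ⊗[k] K) := by
  let A := C ⊗[k] K
  have hloc : IsLocalization (Algebra.algebraMapSubmonoid A M) (A ⊗[C] Ω) := inferInstance
  have h6 : _root_.IsReduced (A ⊗[C] Ω) :=
    isReduced_localizationPreserves (Algebra.algebraMapSubmonoid A M) (A ⊗[C] Ω) h
  let e3 : Ω ⊗[C] (C ⊗[k] K) ≃ₐ[Ω] Ω ⊗[k] K := Algebra.TensorProduct.cancelBaseChange k C Ω Ω K
  let e4 : Ω ⊗[C] (C ⊗[k] K) ≃ₐ[C] A ⊗[C] Ω := Algebra.TensorProduct.comm C Ω A
  have h7 : _root_.IsReduced (Ω ⊗[C] (C ⊗[k] K)) := isReduced_of_injective e4.toRingEquiv.toRingHom e4.injective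
  exact isReduced_of_injective e3.symm.toRingEquiv.toRingHom e3.symm.injective

section unram

variable {P : Type u} [CommRing P] {Y : Scheme.{u}} (h : Y ⟶ Spec (.of P)) [GeometricallyReduced h]

/-- At a maximal point of its fibre, a morphism with geometrically reduced fibres is weakly unramified. -/
theorem map_eq_maximalIdeal {ξ : Y} (hξ : IsMaxFib h ξ) :
    (h ξ).asIdeal.map (toStalk h ξ) = IsLocalRing.maximalIdeal (Y.presheaf.stalk ξ) := by
  obtain ⟨_, ⟨U, hU', rfl⟩, hξU, -⟩ :=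
    Y.isBasis_affineOpens.exists_subset_of_mem_open (Set.mem_univ ξ) isOpen_univ
  have hU : IsAffineOpen U := hU'
  let A := Γ(Y, U)
  let B := Y.presheaf.stalk ξ
  let s := (h ξ).asIdeal
  have hs : s.IsPrime := (h ξ).isPrime
  let a1 : Algebra P A := (str h U).toAlgebra
  let a2 : Algebra P B := (toStalk h ξ).toAlgebra
  let a3 : Algebra A B := Y.presheaf.algebra_section_stalk ⟨ξ, hξU⟩
  have s1 : IsScalarTower P A B := IsScalarTower.of_algebraMap_eq' (toStalk_eq h hU ξ hξU)
  have hloc : IsLocalization.AtPrime B (hU.primeIdealOf ⟨ξ, hξU⟩).asIdeal := hU.isLocalization_stalk ⟨ξ, hξU⟩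
  have hA : _root_.IsReduced (A ⊗[P] s.ResidueField) := geomRed_sections h hU s.ResidueField
  have hB : _root_.IsReduced (B ⊗[P] s.ResidueField) :=
    isReduced_tensor_loc' (hU.primeIdealOf ⟨ξ, hξU⟩).asIdeal.primeCompl hA
  have hclosed : (Y.fromSpecStalk ξ) (IsLocalRing.closedPoint B) = ξ := Scheme.fromSpecStalk_closedPoint
  have hs' : s = (IsLocalRing.maximalIdeal B).comap (algebraMap P B) := by
    have h1 := apply_fromSpecStalk h ξ (IsLocalRing.closedPoint B)
    rw [hclosed] at h1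
    exact h1
  have hle : s.map (algebraMap P B) ≤ IsLocalRing.maximalIdeal B := by
    rw [hs']
    exact Ideal.map_comap_le
  change s.map (algebraMap P B) = IsLocalRing.maximalIdeal B
  -- the map to `B / s B`
  let Bs := B ⧸ s.map (algebraMap P B)
  let f : P →+* Bs := (Ideal.Quotient.mk _).comp (algebraMap P B)
  have hf1 : s ≤ RingHom.ker f := fun x hx => Ideal.Quotient.eq_zero_iff_mem.mpr (Ideal.mem_map_of_mem _ hx)
  have hf2 : s.primeCompl ≤ (IsUnit.submonoid Bs).comap f := by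
    intro x hx
    have h1 : IsUnit (algebraMap P B x) := by
      by_contra hne
      apply hx
      change x ∈ s
      rw [hs']
      exact (IsLocalRing.mem_maximalIdeal _).mpr hne
    exact h1.map (Ideal.Quotient.mk _)
  let g : s.ResidueField →+* Bs := Ideal.ResidueField.lift s f hf1 hf2
  obtain ⟨c, hc1, hc2⟩ := Flat2E.SplitIntegral.exists_ringHom_tensorProduct (R := P) (A := B) (B := s.ResidueField)
    (Ideal.Quotient.mk (s.map (algebraMap P B))) g (by
      ext x
      change f x = g (algebraMap P s.ResidueField x)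
      exact (Ideal.ResidueField.lift_algebraMap s f hf1 hf2 x).symm)
  have hrad : (s.map (algebraMap P B)).IsRadical := by
    intro x hx
    obtain ⟨n, hn⟩ := hx
    have h1 : (x ⊗ₜ[P] (1 : s.ResidueField)) = 0 := by
      have h2 : IsNilpotent (x ⊗ₜ[P] (1 : s.ResidueField)) := by
        refine ⟨n, ?_⟩
        rw [Algebra.TensorProduct.tmul_pow, one_pow]
        have h3 : s.map (algebraMap P B) ≤ RingHom.ker (algebraMap B (B ⊗[P] s.ResidueField)) := by
          rw [Ideal.map_le_iff_le_comap]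
          intro r hr
          change (algebraMap P B r) ⊗ₜ[P] (1 : s.ResidueField) = 0
          rw [Algebra.TensorProduct.tmul_one_eq_one_tmul (A := B) (B := s.ResidueField) r,
            Ideal.algebraMap_residueField_eq_zero.mpr hr, TensorProduct.tmul_zero]
        exact h3 hn
      exact h2.eq_zero
    have h2 := hc1 x
    rw [h1, map_zero] at h2
    exact Ideal.Quotient.eq_zero_iff_mem.mp h2.symm
  refine le_antisymm hle ?_
  rw [← hrad.radical, Ideal.radical_eq_sInf]
  refine le_sInf fun p hp => ?_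
  obtain ⟨hp1, hp2⟩ := hp
  let z : Spec B := ⟨p, hp2⟩
  have h1 : Y.fromSpecStalk ξ z ⤳ ξ := by
    have : Y.fromSpecStalk ξ z ∈ Set.range (Y.fromSpecStalk ξ) := ⟨z, rfl⟩
    rwa [Scheme.range_fromSpecStalk] at this
  have h2 : h (Y.fromSpecStalk ξ z) = h ξ := by
    apply PrimeSpectrum.ext
    apply le_antisymm
    · exact (PrimeSpectrum.le_iff_specializes _ _).mpr (h1.map h.continuous)
    · rw [apply_fromSpecStalk]
      exact Ideal.map_le_iff_le_comap.mp hp1
  have h3 := hξ _ h1 h2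
  have h4 : z = IsLocalRing.closedPoint B := by
    apply (Y.fromSpecStalk ξ).isEmbedding.injective
    rw [h3, hclosed]
  exact (congrArg PrimeSpectrum.asIdeal h4).ge

omit [GeometricallyReduced h] in
theorem flat_toStalk [Flat h] (ξ : Y) : (toStalk h ξ).Flat := by
  obtain ⟨_, ⟨U, hU', rfl⟩, hξU, -⟩ :=
    Y.isBasis_affineOpens.exists_subset_of_mem_open (Set.mem_univ ξ) isOpen_univ
  have hU : IsAffineOpen U := hU'
  let a3 : Algebra Γ(Y, U) (Y.presheaf.stalk ξ) := Y.presheaf.algebra_section_stalk ⟨ξ, hξU⟩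
  have hloc : IsLocalization.AtPrime (Y.presheaf.stalk ξ) (hU.primeIdealOf ⟨ξ, hξU⟩).asIdeal :=
    hU.isLocalization_stalk ⟨ξ, hξU⟩
  rw [toStalk_eq h hU ξ hξU]
  refine (flat_str h hU).comp ?_
  have : Module.Flat Γ(Y, U) (Y.presheaf.stalk ξ) :=
    IsLocalization.flat (Y.presheaf.stalk ξ) (hU.primeIdealOf ⟨ξ, hξU⟩).asIdeal.primeCompl
  exact RingHom.flat_algebraMap_iff.mpr this

/-- The local ring at a maximal point of a closed fibre is a discrete valuation ring. -/
theorem isDVR_stalk [IsLocallyNoetherian Y] [Flat h] [IsDedekindDomain P] [Finite (MaximalSpectrum P)] {ξ : Y}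
    (hξ : IsMaxFib h ξ) [IsDomain (Y.presheaf.stalk ξ)] (h0 : (h ξ).asIdeal ≠ ⊥) :
    IsDiscreteValuationRing (Y.presheaf.stalk ξ) := by
  obtain ⟨ϖ, hϖ⟩ := exists_span (h ξ).asIdeal
  have h1 := map_eq_maximalIdeal h hξ
  rw [hϖ, Ideal.map_span, Set.image_singleton] at h1
  have hϖ0 : ϖ ≠ 0 := fun h2 => h0 (by rw [hϖ, h2]; exact Ideal.span_singleton_eq_bot.mpr rfl)
  have hne0 : toStalk h ξ ϖ ≠ 0 :=
    nonZeroDivisors.ne_zero (Groth.Agent.Divis.EffCartier.map_mem_nonZeroDivisors_of_flat _ (flat_toStalk h ξ)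
      (mem_nonZeroDivisors_of_ne_zero hϖ0))
  have hne : ¬ IsField (Y.presheaf.stalk ξ) := by
    intro hf
    have h2 := hf
    rw [IsLocalRing.isField_iff_maximalIdeal_eq] at h2
    rw [h2, Ideal.span_singleton_eq_bot] at h1
    exact hne0 h1
  have h3 : (IsLocalRing.maximalIdeal (Y.presheaf.stalk ξ)).IsPrincipal := ⟨⟨_, h1.symm⟩⟩
  exact ((IsDiscreteValuationRing.TFAE (Y.presheaf.stalk ξ) hne).out 0 4).mpr h3

end unram

/-- An integral Noetherian extension of a semi-local ring is semi-local. -/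
theorem finite_maximalSpectrum (R : Type u) {R₁ : Type u} [CommRing R] [CommRing R₁] [Algebra R R₁]
    [Algebra.IsIntegral R R₁] [Finite (MaximalSpectrum R)] [IsNoetherianRing R₁] : Finite (MaximalSpectrum R₁) := by
  have h1 : {M : Ideal R₁ | M.IsMaximal}.Finite := by
    refine (Set.finite_iUnion (fun m : MaximalSpectrum R =>
      Ideal.finite_minimalPrimes_of_isNoetherianRing R₁ (m.asIdeal.map (algebraMap R R₁)))).subset ?_
    intro M hM
    have hM' : M.IsMaximal := hM
    refine Set.mem_iUnion.mpr ⟨⟨M.under R, Ideal.isMaximal_comap_of_isIntegral_of_isMaximal M⟩, ?_⟩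
    exact Ideal.IsIntegral.mem_minimalPrimes_map_under M
  have h2 : Finite {M : Ideal R₁ | M.IsMaximal} := h1
  exact Finite.of_injective (β := {M : Ideal R₁ | M.IsMaximal}) (fun M => ⟨M.asIdeal, M.isMaximal⟩)
    fun M N h => MaximalSpectrum.ext (congrArg Subtype.val h)

section main

variable {R K : Type u} [CommRing R] [IsDedekindDomain R] [Finite (MaximalSpectrum R)] [Field K] [Algebra R K]
  [IsFractionRing R K] {X : Scheme.{u}} {g : X ⟶ Spec (.of R)} [Flat g] [LocallyOfFiniteType g] [QuasiCompact g]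

/-- The reduced fibre theorem, with geometrically integral components of the fibres. -/
theorem exists_good_geomInt (hg : GN g) :
    Large K (fun K₂ => ∀ (R₂ : Type u) [CommRing R₂] [IsDedekindDomain R₂] [Finite (MaximalSpectrum R₂)]
      [Algebra R R₂] [Algebra.IsIntegral R R₂] [Algebra R₂ K₂] [IsFractionRing R₂ K₂] [Algebra R K₂]
      [IsScalarTower R K K₂] [IsScalarTower R R₂ K₂] (X₂ : Scheme.{u}) (g₂ : X₂ ⟶ Spec (.of R₂)) (ι₂ : X₂ ⟶ X)
      (_ : IsPullback ι₂ g₂ g (Spec.map (CommRingCat.ofHom (algebraMap R R₂)))),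
      ∃ (Y : Scheme.{u}) (ν : Y ⟶ X₂), IsGood g₂ ν ∧ ∀ ξ : Y, IsMaxFib (ν ≫ g₂) ξ → GeomInt (ν ≫ g₂) ξ) := by
  obtain ⟨K₁, _, _, _, h1⟩ := exists_good (K := K) hg
  let _ : Algebra R K₁ := ((algebraMap K K₁).comp (algebraMap R K)).toAlgebra
  have t1 : IsScalarTower R K K₁ := IsScalarTower.of_algebraMap_eq' rfl
  obtain ⟨R₁, _, _, _, _, _, hD, hfr, hfin⟩ : ∃ (R₁ : Type u) (_ : CommRing R₁) (_ : Algebra R R₁) (_ : Algebra R₁ K₁)
      (_ : IsScalarTower R R₁ K₁) (_ : Algebra.IsIntegral R R₁), IsDedekindDomain R₁ ∧ IsFractionRing R₁ K₁ ∧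
        Finite (MaximalSpectrum R₁) := by
    have hD : IsDedekindDomain (integralClosure R K₁) := K553.DedExt.isDedekindDomain R K K₁
    exact ⟨integralClosure R K₁, inferInstance, inferInstance, inferInstance, inferInstance, inferInstance, hD,
      K553.DedExt.isFractionRing R K K₁, finite_maximalSpectrum R⟩
  obtain ⟨Y₁, ν₁, hgood⟩ := h1 K₁ R₁ (pullback g (Spec.map (CommRingCat.ofHom (algebraMap R R₁))))
    (pullback.snd g (Spec.map (CommRingCat.ofHom (algebraMap R R₁)))) (pullback.fst g _)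
    (IsPullback.of_hasPullback _ _)
  let g₁ := pullback.snd g (Spec.map (CommRingCat.ofHom (algebraMap R R₁)))
  have hfν := hgood.finite
  have hred := hgood.reduced
  obtain ⟨K₃, _, _, _, h3⟩ := large_geomInt (P := R₁) (F := K₁) (ν₁ ≫ g₁)
  let _ : Algebra K K₃ := ((algebraMap K₁ K₃).comp (algebraMap K K₁)).toAlgebra
  have t3 : IsScalarTower K K₁ K₃ := IsScalarTower.of_algebraMap_eq' rfl
  have hfd : FiniteDimensional K K₃ := FiniteDimensional.trans K K₁ K₃
  refine ⟨K₃, inferInstance, inferInstance, hfd, fun K₂ _ _ _ _ _ => ?_⟩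
  intro R₂ _ _ _ _ _ _ _ _ _ _ X₂ g₂ ι₂ hp
  let _ : Algebra K₁ K₂ := ((algebraMap K₃ K₂).comp (algebraMap K₁ K₃)).toAlgebra
  have t4 : IsScalarTower K₁ K₃ K₂ := IsScalarTower.of_algebraMap_eq' rfl
  have t5 : IsScalarTower K K₁ K₂ := IsScalarTower.of_algebraMap_eq fun x => by
    rw [IsScalarTower.algebraMap_apply K K₃ K₂, IsScalarTower.algebraMap_apply K K₁ K₃,
      ← IsScalarTower.algebraMap_apply K₁ K₃ K₂]
  have t6 : IsScalarTower R K₁ K₂ := IsScalarTower.of_algebraMap_eq fun x => by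
    rw [IsScalarTower.algebraMap_apply R K K₂, IsScalarTower.algebraMap_apply K K₁ K₂,
      ← IsScalarTower.algebraMap_apply R K K₁]
  let _ : Algebra R₁ K₂ := ((algebraMap K₁ K₂).comp (algebraMap R₁ K₁)).toAlgebra
  have t7 : IsScalarTower R₁ K₁ K₂ := IsScalarTower.of_algebraMap_eq' rfl
  have t8 : IsScalarTower R R₁ K₂ := IsScalarTower.of_algebraMap_eq fun x => by
    rw [IsScalarTower.algebraMap_apply R₁ K₁ K₂, ← IsScalarTower.algebraMap_apply R R₁ K₁,
      ← IsScalarTower.algebraMap_apply R K₁ K₂]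
  have hic : IsIntegralClosure R₂ R K₂ := IsIntegralClosure.of_isIntegrallyClosed R₂ R K₂
  let j : R₁ →ₐ[R] R₂ := IsIntegralClosure.lift R R₂ K₂
  let _ : Algebra R₁ R₂ := j.toRingHom.toAlgebra
  have t9 : IsScalarTower R R₁ R₂ := IsScalarTower.of_algebraMap_eq' j.comp_algebraMap.symm
  have t10 : IsScalarTower R₁ R₂ K₂ := IsScalarTower.of_algebraMap_eq fun x =>
    (IsIntegralClosure.algebraMap_lift R R₂ K₂ x).symm
  have hint : Algebra.IsIntegral R₁ R₂ := Algebra.IsIntegral.tower_top R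
  have hfd2 : FiniteDimensional K₁ K₂ := FiniteDimensional.right K K₁ K₂
  have hinj : Function.Injective (algebraMap R₁ R₂) := by
    have h5 : Function.Injective (algebraMap R₁ K₂) :=
      (algebraMap K₁ K₂).injective.comp (IsFractionRing.injective R₁ K₁)
    rw [IsScalarTower.algebraMap_eq R₁ R₂ K₂, RingHom.coe_comp] at h5
    exact Function.Injective.of_comp h5
  rw [← SpecMap_comp (P := R) (P' := R₁) (K' := R₂)] at hp
  have hp₁ := IsPullback.of_hasPullback g (Spec.map (CommRingCat.ofHom (algebraMap R R₁)))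
  have hq := hp.of_right' hp₁
  let ι := hp₁.lift ι₂ (g₂ ≫ Spec.map (CommRingCat.ofHom (algebraMap R₁ R₂))) (by rw [hp.w, Category.assoc])
  have hY := IsPullback.of_hasPullback ν₁ ι
  refine ⟨pullback ν₁ ι, pullback.snd ν₁ ι, hgood.baseChange hq hinj hY, fun ξ hξ => ?_⟩
  exact h3 K₂ R₂ (pullback ν₁ ι) (pullback.snd ν₁ ι ≫ g₂) (pullback.fst ν₁ ι)
    (hY.flip.paste_horiz hq.flip).flip ξ hξ

end main

end K93.RedFib
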