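import Groth.Agent.AlgSp.K93.RFNorm
import Mathlib.AlgebraicGeometry.Morphisms.Smooth

/-!
# The generic fibre of the normalization
-/

set_option autoImplicit false
universe u

open CategoryTheory CategoryTheory.Limits AlgebraicGeometry TensorProduct nonZeroDivisors

noncomputable section

namespace K93.RedFib

open Groth.Agent

/-- In a semi-local Dedekind domain there is a nonzero element contained in all nonzero primes. -/
theorem exists_mem_all (P : Type u) [CommRing P] [IsDedekindDomain P] [Finite (MaximalSpectrum P)] :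
    ∃ a : P, a ≠ 0 ∧ ∀ p : Ideal P, p.IsPrime → p ≠ ⊥ → a ∈ p := by
  classical
  cases nonempty_fintype (MaximalSpectrum P)
  have h : ∀ m : MaximalSpectrum P, ∃ c : P, c ≠ 0 ∧ (m.asIdeal ≠ ⊥ → c ∈ m.asIdeal) := by
    intro m
    by_cases hm : m.asIdeal = ⊥
    · exact ⟨1, one_ne_zero, fun h => absurd hm h⟩
    · obtain ⟨c, hc, hc0⟩ := Submodule.exists_mem_ne_zero_of_ne_bot hm
      exact ⟨c, hc0, fun _ => hc⟩
  choose c hc0 hc using h
  refine ⟨∏ m, c m, Finset.prod_ne_zero_iff.mpr fun m _ => hc0 m, fun p hp hp0 => ?_⟩
  let m : MaximalSpectrum P := ⟨p, hp.isMaximal hp0⟩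
  exact p.mem_of_dvd (Finset.dvd_prod_of_mem c (Finset.mem_univ m)) (hc m hp0)

theorem exists_away (P F : Type u) [CommRing P] [IsDedekindDomain P] [Finite (MaximalSpectrum P)] [Field F]
    [Algebra P F] [IsFractionRing P F] :
    ∃ a : P, a ≠ 0 ∧ (∀ p : Ideal P, p.IsPrime → p ≠ ⊥ → a ∈ p) ∧ IsLocalization.Away a F := by
  obtain ⟨a, ha, h⟩ := exists_mem_all P
  refine ⟨a, ha, h, ?_⟩
  refine (IsLocalization.iff_of_le_of_exists_dvd (M := Submonoid.powers a) (S := F) P⁰
    (powers_le_nonZeroDivisors_of_noZeroDivisors ha) ?_).mpr ‹_›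
  intro n hn
  have h1 : a ∈ (Ideal.span {n}).radical := by
    rw [Ideal.radical_eq_sInf, Submodule.mem_sInf]
    rintro J ⟨hJ, hJp⟩
    refine h J hJp ?_
    rintro rfl
    exact nonZeroDivisors.ne_zero hn (hJ (Ideal.mem_span_singleton_self n))
  obtain ⟨k, hk⟩ := h1
  exact ⟨a ^ k, ⟨k, rfl⟩, Ideal.mem_span_singleton.mp hk⟩

variable {P : Type u} [CommRing P] {X Y : Scheme.{u}} (g : X ⟶ Spec (.of P)) (ν : Y ⟶ X)

/-- `ν` is an isomorphism over the generic point of the base. -/
def GIso : Prop :=
  ∀ (K' : Type u) [Field K'] [Algebra P K'], Function.Injective (algebraMap P K') →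
    IsIso (pullback.snd ν (genι g K'))

variable {g ν}

/-- Pullbacks of isomorphic restrictions. -/
theorem isIso_snd_comp {X Y Z W : Scheme.{u}} (ν : Y ⟶ X) (a : W ⟶ Z) (b : Z ⟶ X) [IsIso (pullback.snd ν b)]
    (c : W ⟶ X) (hc : c = a ≫ b) : IsIso (pullback.snd ν c) := by
  subst hc
  have h1 : IsPullback (pullback.fst ν b) (pullback.snd ν b) ν b := IsPullback.of_hasPullback ν b
  have h2 : IsPullback (pullback.fst (pullback.snd ν b) a) (pullback.snd (pullback.snd ν b) a)
    (pullback.snd ν b) a := IsPullback.of_hasPullback _ _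
  have h3 := h2.paste_horiz h1
  have h4 : IsIso (pullback.snd (pullback.snd ν b) a) := inferInstance
  rw [← h3.isoPullback_inv_snd]
  infer_instance

/-- A morphism is an isomorphism over every open subscheme over which it is a relative normalization. -/
theorem isIso_snd_fromNormalization {Z X : Scheme.{u}} (j : Z ⟶ X) [QuasiCompact j] [IsOpenImmersion j] :
    IsIso (pullback.snd j.fromNormalization j) := by
  have h1 : IsIso (pullback.snd j j) := inferInstance
  have h2 : IsIso (pullback.snd j j).toNormalization := inferInstance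
  have h3 : IsIso (pullback.snd j j).fromNormalization := by
    have h4 : IsIso ((pullback.snd j j).toNormalization ≫ (pullback.snd j j).fromNormalization) := by
      rw [Scheme.Hom.toNormalization_fromNormalization]
      exact h1
    exact IsIso.of_isIso_comp_left (pullback.snd j j).toNormalization _
  have h5 : IsIso (j.normalizationPullback j) := inferInstance
  have h6 : IsIso (j.normalizationPullback j ≫ pullback.snd j.fromNormalization j) := by
    rw [Scheme.Hom.normalizationPullback_snd]
    exact h3
  exact IsIso.of_isIso_comp_left (j.normalizationPullback j) _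

section

variable {F : Type u} [Field F] [Algebra P F]

theorem isIso_of_away (a : P) [IsLocalization.Away a F] : IsIso (pullback.snd (modelMap g F) (genι g F)) := by
  have h1 : IsOpenImmersion (Spec.map (CommRingCat.ofHom (algebraMap P F))) :=
    IsOpenImmersion.of_isLocalization a
  have h2 : IsOpenImmersion (genι g F) := inferInstance
  exact isIso_snd_fromNormalization (genι g F)

variable [IsDedekindDomain P] [Finite (MaximalSpectrum P)] [IsFractionRing P F]

/-- The map from the normalization is an isomorphism over the generic fibre. -/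
theorem gIso_modelMap : GIso g (modelMap g F) := by
  intro K' _ _ hinj
  obtain ⟨a, -, -, ha⟩ := exists_away P F
  have h1 := isIso_of_away (g := g) (F := F) a
  let φ : F →+* K' := IsFractionRing.lift hinj
  have hφ : φ.comp (algebraMap P F) = algebraMap P K' := by
    ext x
    exact IsFractionRing.lift_algebraMap hinj x
  have h2 : Spec.map (CommRingCat.ofHom (algebraMap P K')) =
      Spec.map (CommRingCat.ofHom φ) ≫ Spec.map (CommRingCat.ofHom (algebraMap P F)) := by
    rw [← Spec.map_comp, ← CommRingCat.ofHom_comp, hφ]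
  let b : pullback g (Spec.map (CommRingCat.ofHom (algebraMap P K'))) ⟶
      pullback g (Spec.map (CommRingCat.ofHom (algebraMap P F))) :=
    pullback.lift (pullback.fst _ _) (pullback.snd _ _ ≫ Spec.map (CommRingCat.ofHom φ)) (by
      rw [pullback.condition, Category.assoc, ← h2])
  have hb : genι g K' = b ≫ genι g F := (pullback.lift_fst _ _ _).symm
  exact isIso_snd_comp _ b (genι g F) _ hb

end

end K93.RedFib
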