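import Groth.Agent.AlgSp.K93.RFGood
import Groth.Agent.AlgSp.K93.RFEx
import Groth.Agent.NonAbH1.K553.DedExt
import Groth.Agent.S6370

/-!
# The reduced fibre theorem
-/

set_option autoImplicit false
universe u

open CategoryTheory CategoryTheory.Limits AlgebraicGeometry TensorProduct nonZeroDivisors

noncomputable section

namespace K93.RedFib

open Groth.Agent

/-- A normal scheme of finite type over a Noetherian affine base has a finite cover by spectra of normal domains. -/
theorem exists_cover {R : Type u} [CommRing R] [IsNoetherianRing R] {X : Scheme.{u}} (g : X ⟶ Spec (.of R))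
    [LocallyOfFiniteType g] [QuasiCompact g] (hX : Pi1.IsNormalScheme X) :
    ∃ (ι : Type u) (_ : Finite ι) (W : ι → X.Opens), (∀ i, IsAffineOpen (W i)) ∧ (∀ x, ∃ i, x ∈ W i) ∧
      ∀ i, IsDomain Γ(X, W i) ∧ IsIntegrallyClosed Γ(X, W i) := by
  have hN : IsLocallyNoetherian X := LocallyOfFiniteType.isLocallyNoetherian g
  have hc : CompactSpace X := QuasiCompact.compactSpace_of_compactSpace g
  have h1 : ∀ x : X, ∃ W : X.Opens, x ∈ W ∧ IsAffineOpen W ∧ IsDomain Γ(X, W) := by
    intro x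
    have := (hX x).1
    obtain ⟨U, hx, hU, -, hinj⟩ := X.exists_le_and_germ_injective x ⊤ trivial
    exact ⟨U, hx, hU, hinj.isDomain (X.presheaf.germ U x hx).hom⟩
  choose W hxW hW hd using h1
  obtain ⟨s, hs⟩ := isCompact_univ.elim_finite_subcover (fun x => (W x : Set X)) (fun x => (W x).2)
    (fun x _ => Set.mem_iUnion.mpr ⟨x, hxW x⟩)
  refine ⟨s, inferInstance, fun i => W i, fun i => hW i, fun x => ?_, fun i => ⟨hd i, ?_⟩⟩
  · obtain ⟨i, hi⟩ := Set.mem_iUnion.mp (hs (Set.mem_univ x))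
    obtain ⟨hi, hx⟩ := Set.mem_iUnion.mp hi
    exact ⟨⟨i, hi⟩, hx⟩
  · have := hd i
    exact K378.NormGeom.isIntegrallyClosed_of_isNormalRing
      (An.H526.T3.isNormalRing_of_isAffineOpen hX _ (hW i))

section main

variable {R K : Type u} [CommRing R] [IsDedekindDomain R] [Field K] [Algebra R K] [IsFractionRing R K]
  {X : Scheme.{u}} {g : X ⟶ Spec (.of R)} [Flat g] [LocallyOfFiniteType g]

/-- The section ring of an affine open, over the base. -/
theorem allSol_geomRed (hg : GN g) {K₂ R₂ : Type u} [Field K₂] [Algebra K K₂] [FiniteDimensional K K₂]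
    [CommRing R₂] [IsDedekindDomain R₂] [Finite (MaximalSpectrum R₂)] [Algebra R R₂] [Algebra.IsIntegral R R₂]
    [Algebra R₂ K₂] [IsFractionRing R₂ K₂] [Algebra R K₂] [IsScalarTower R K K₂] [IsScalarTower R R₂ K₂]
    {X₂ : Scheme.{u}} {g₂ : X₂ ⟶ Spec (.of R₂)} {ι₂ : X₂ ⟶ X}
    (hp : IsPullback ι₂ g₂ g (Spec.map (CommRingCat.ofHom (algebraMap R R₂))))
    {ι : Type*} (W : ι → X.Opens) (hW : ∀ i, IsAffineOpen (W i)) (hcov : ∀ x, ∃ i, x ∈ W i)
    (hdom : ∀ i, IsDomain Γ(X, W i) ∧ IsIntegrallyClosed Γ(X, W i))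
    (hsol : ∀ i, @AllSol R Γ(X, W i) K K₂ _ _ (str g (W i)).toAlgebra _ _ _ _) :
    GeometricallyReduced (modelMap g₂ K₂ ≫ g₂) := by
  have hinjRK₂ : Function.Injective (algebraMap R K₂) := by
    rw [IsScalarTower.algebraMap_eq R K K₂, RingHom.coe_comp]
    exact (algebraMap K K₂).injective.comp (IsFractionRing.injective R K)
  have hinj : Function.Injective (algebraMap R R₂) := by
    rw [IsScalarTower.algebraMap_eq R R₂ K₂, RingHom.coe_comp] at hinjRK₂
    exact Function.Injective.of_comp hinjRK₂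
  have hflR : Module.Flat R R₂ := flat_of_injective hinj
  have hflS : Flat (Spec.map (CommRingCat.ofHom (algebraMap R R₂))) :=
    (HasRingHomProperty.Spec_iff (P := @Flat)).2 (RingHom.flat_algebraMap_iff.mpr hflR)
  have hι : Flat ι₂ := MorphismProperty.of_isPullback hp.flip hflS
  have hιa : IsAffineHom ι₂ := MorphismProperty.of_isPullback (P := @IsAffineHom) hp.flip inferInstance
  have hg₂ : Flat g₂ := MorphismProperty.of_isPullback hp ‹_›
  have hg₂' : LocallyOfFiniteType g₂ := MorphismProperty.of_isPullback hp ‹_›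
  have hGN : GN g₂ := hg.baseChange hp hinj
  refine geometricallyReduced_of_cover _ (fun i => modelMap g₂ K₂ ⁻¹ᵁ (ι₂ ⁻¹ᵁ W i))
    (fun i => ((hW i).preimage ι₂).preimage _) (fun z => hcov (ι₂ (modelMap g₂ K₂ z))) fun i => ?_
  let U := ι₂ ⁻¹ᵁ W i
  have hU : IsAffineOpen U := (hW i).preimage ι₂
  let A := Γ(X, W i)
  let D := Γ(X₂, U)
  let E := Γ(pullback g₂ (Spec.map (CommRingCat.ofHom (algebraMap R₂ K₂))), genι g₂ K₂ ⁻¹ᵁ U)
  let N := Γ(model g₂ K₂, modelMap g₂ K₂ ⁻¹ᵁ U)
  obtain ⟨a1, a2, a3, a4, a5, t1, t2, l1, l2, e1, e2, e3, e4, e5⟩ := local_data (g := g₂) (F := K₂) hU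
  let b1 : Algebra R A := (str g (W i)).toAlgebra
  let b2 : Algebra A D := (ι₂.app (W i)).hom.toAlgebra
  let b3 : Algebra R D := ((algebraMap A D).comp (algebraMap R A)).toAlgebra
  have s1 : IsScalarTower R A D := IsScalarTower.of_algebraMap_eq' rfl
  have s2 : IsScalarTower R R₂ D := by
    apply IsScalarTower.of_algebraMap_eq'
    have h5 := (isPushout_str hp (hW i)).w
    rw [e1]
    exact congrArg CommRingCat.Hom.hom h5
  have hpo : Algebra.IsPushout R A R₂ D := algebra_isPushout hp (hW i) rfl e1 rfl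
  have hdi := hdom i
  have hAd : IsDomain A := hdi.1
  have hAc : IsIntegrallyClosed A := hdi.2
  have hAD : Module.Flat A D := by
    have h := ι₂.flat_appLE (hW i) hU le_rfl
    rw [← Scheme.Hom.app_eq_appLE] at h
    exact h
  have hRD : Module.Flat R₂ D := by
    have := flat_str g₂ hU
    rw [← e1] at this
    exact RingHom.flat_algebraMap_iff.mp this
  have hft : Algebra.FiniteType R₂ D := by
    have := finiteType_str g₂ hU
    rw [← e1] at this
    exact RingHom.finiteType_algebraMap.mp this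
  have hadj : Algebra.adjoin A (Set.range (algebraMap R₂ D)) = ⊤ := by
    rw [eq_top_iff]
    intro x _
    obtain ⟨t, rfl⟩ := (Algebra.IsPushout.equiv R A R₂ D).surjective x
    induction t using TensorProduct.induction_on with
    | zero => rw [map_zero]; exact zero_mem _
    | add x y hx hy => rw [map_add]; exact add_mem (hx trivial) (hy trivial)
    | tmul a r =>
      rw [Algebra.IsPushout.equiv_tmul]
      exact mul_mem (Subalgebra.algebraMap_mem _ a) (Algebra.subset_adjoin ⟨r, rfl⟩)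
  have hred : GenRed R₂ D := genRed_of_GN hU hGN e1
  have hredN : GenRed R₂ N := genRed_integralClosure (D := D) (E := E) hred
  obtain ⟨L, c1, c2, c3, c4, c5, c6, c7, hs⟩ := hsol i
  have h9 : GeomRed R₂ N := geomRed_main (R := R) (K := K) (A := A) (L := L) (K₂ := K₂) (D := D) (E := E)
    hadj (isNormalRing_gen hGN hU) hred hredN hs
  have h10 : a5 = (str (modelMap g₂ K₂ ≫ g₂) (modelMap g₂ K₂ ⁻¹ᵁ U)).toAlgebra :=
    Algebra.algebra_ext _ _ fun r => congr($e5 r)
  rw [← h10]
  exact h9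

end main

end K93.RedFib
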