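import Groth.Agent.AlgSp.K93.RFGeo
import Groth.Agent.Models.K378.NormGeom

/-!
# The normalization of a scheme over a semi-local Dedekind domain in its generic fibre
-/

set_option autoImplicit false
universe u

open CategoryTheory CategoryTheory.Limits AlgebraicGeometry TensorProduct nonZeroDivisors

noncomputable section

namespace K93.RedFib

open Groth.Agent

variable {P : Type u} [CommRing P] {X : Scheme.{u}} (g : X ⟶ Spec (.of P))

/-- The generic fibre is geometrically normal. -/
def GN : Prop :=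
  ∀ (K' : Type u) [Field K'] [Algebra P K'], Function.Injective (algebraMap P K') →
    Pi1.IsNormalScheme (pullback g (Spec.map (CommRingCat.ofHom (algebraMap P K'))))

variable (F : Type u) [Field F] [Algebra P F]

/-- The inclusion of the generic fibre. -/
abbrev genι : pullback g (Spec.map (CommRingCat.ofHom (algebraMap P F))) ⟶ X :=
  pullback.fst g (Spec.map (CommRingCat.ofHom (algebraMap P F)))

instance isAffineHom_genι : IsAffineHom (genι g F) :=
  MorphismProperty.pullback_fst (P := @IsAffineHom) _ _ inferInstance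

/-- The normalization in the generic fibre. -/
abbrev model : Scheme.{u} := (genι g F).normalization

/-- The map from the normalization. -/
abbrev modelMap : model g F ⟶ X := (genι g F).fromNormalization

instance : IsIntegralHom (modelMap g F) := inferInstanceAs (IsIntegralHom (genι g F).fromNormalization)

section

variable {g F} {U : X.Opens} (hU : IsAffineOpen U)

include hU in
theorem genRed_of_GN (hg : GN g) [i1 : Algebra P Γ(X, U)] (h1 : algebraMap P Γ(X, U) = str g U) :
    GenRed P Γ(X, U) := by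
  intro K' _ _ hinj
  let j := genι g K'
  let g' := pullback.snd g (Spec.map (CommRingCat.ofHom (algebraMap P K')))
  have hp : IsPullback j g' g (Spec.map (CommRingCat.ofHom (algebraMap P K'))) := IsPullback.of_hasPullback _ _
  let C := Γ(pullback g (Spec.map (CommRingCat.ofHom (algebraMap P K'))), j ⁻¹ᵁ U)
  let a2 : Algebra K' C := (str g' (j ⁻¹ᵁ U)).toAlgebra
  let a3 : Algebra Γ(X, U) C := (j.app U).hom.toAlgebra
  let a4 : Algebra P C := ((algebraMap Γ(X, U) C).comp (algebraMap P Γ(X, U))).toAlgebra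
  have t1 : IsScalarTower P Γ(X, U) C := IsScalarTower.of_algebraMap_eq' rfl
  have t2 : IsScalarTower P K' C := by
    apply IsScalarTower.of_algebraMap_eq'
    have h5 := (isPushout_str hp hU).w
    have h6 := congrArg CommRingCat.Hom.hom h5
    change (algebraMap Γ(X, U) C).comp (algebraMap P Γ(X, U)) = _
    rw [h1]
    exact h6
  have hpo : Algebra.IsPushout P Γ(X, U) K' C := algebra_isPushout hp hU h1 rfl rfl
  have hN : EGA4.IsNormalRing C := An.H526.T3.isNormalRing_of_isAffineOpen (hg K' hinj) _ (hU.preimage (genι g K'))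
  have hR : IsReduced C := Ega4C.NormalRing.isReduced_of_isNormalRing _ hN
  exact isReduced_of_injective (Algebra.IsPushout.equiv P Γ(X, U) K' C).toRingHom
    (Algebra.IsPushout.equiv P Γ(X, U) K' C).injective

variable [IsFractionRing P F]

include hU in
theorem local_data : ∃ (_ : Algebra P Γ(X, U))
    (_ : Algebra Γ(X, U) Γ(pullback g (Spec.map (CommRingCat.ofHom (algebraMap P F))), genι g F ⁻¹ᵁ U))
    (_ : Algebra Γ(X, U) Γ(model g F, modelMap g F ⁻¹ᵁ U))
    (_ : Algebra Γ(model g F, modelMap g F ⁻¹ᵁ U)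
      Γ(pullback g (Spec.map (CommRingCat.ofHom (algebraMap P F))), genι g F ⁻¹ᵁ U))
    (_ : Algebra P Γ(model g F, modelMap g F ⁻¹ᵁ U)),
    IsScalarTower P Γ(X, U) Γ(model g F, modelMap g F ⁻¹ᵁ U) ∧
    IsScalarTower Γ(X, U) Γ(model g F, modelMap g F ⁻¹ᵁ U)
      Γ(pullback g (Spec.map (CommRingCat.ofHom (algebraMap P F))), genι g F ⁻¹ᵁ U) ∧
    IsLocalization (Algebra.algebraMapSubmonoid Γ(X, U) P⁰)
      Γ(pullback g (Spec.map (CommRingCat.ofHom (algebraMap P F))), genι g F ⁻¹ᵁ U) ∧
    IsIntegralClosure Γ(model g F, modelMap g F ⁻¹ᵁ U) Γ(X, U)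
      Γ(pullback g (Spec.map (CommRingCat.ofHom (algebraMap P F))), genι g F ⁻¹ᵁ U) ∧
    algebraMap P Γ(X, U) = str g U ∧
    algebraMap Γ(X, U) Γ(pullback g (Spec.map (CommRingCat.ofHom (algebraMap P F))), genι g F ⁻¹ᵁ U) =
      ((genι g F).app U).hom ∧
    algebraMap Γ(X, U) Γ(model g F, modelMap g F ⁻¹ᵁ U) = ((modelMap g F).app U).hom ∧
    algebraMap Γ(model g F, modelMap g F ⁻¹ᵁ U)
      Γ(pullback g (Spec.map (CommRingCat.ofHom (algebraMap P F))), genι g F ⁻¹ᵁ U) =
      ((genι g F).toNormalization.appLE (modelMap g F ⁻¹ᵁ U) (genι g F ⁻¹ᵁ U) (le_preimage (genι g F))).hom ∧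
    algebraMap P Γ(model g F, modelMap g F ⁻¹ᵁ U) = str (modelMap g F ≫ g) (modelMap g F ⁻¹ᵁ U) := by
  let j := genι g F
  let g' := pullback.snd g (Spec.map (CommRingCat.ofHom (algebraMap P F)))
  have hp : IsPullback j g' g (Spec.map (CommRingCat.ofHom (algebraMap P F))) := IsPullback.of_hasPullback _ _
  let D := Γ(X, U)
  let E := Γ(pullback g (Spec.map (CommRingCat.ofHom (algebraMap P F))), genι g F ⁻¹ᵁ U)
  let N := Γ(model g F, modelMap g F ⁻¹ᵁ U)
  let a1 : Algebra P D := (str g U).toAlgebra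
  let a2 : Algebra D E := ((genι g F).app U).hom.toAlgebra
  let a3 : Algebra D N := ((modelMap g F).app U).hom.toAlgebra
  let a4 : Algebra N E :=
    ((genι g F).toNormalization.appLE (modelMap g F ⁻¹ᵁ U) (genι g F ⁻¹ᵁ U) (le_preimage (genι g F))).hom.toAlgebra
  let a5 : Algebra P N := (str (modelMap g F ≫ g) (modelMap g F ⁻¹ᵁ U)).toAlgebra
  let a6 : Algebra F E := (str g' (j ⁻¹ᵁ U)).toAlgebra
  let a7 : Algebra P E := ((algebraMap D E).comp (algebraMap P D)).toAlgebra
  have t1 : IsScalarTower P D E := IsScalarTower.of_algebraMap_eq' rfl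
  have t2 : IsScalarTower P F E := by
    apply IsScalarTower.of_algebraMap_eq'
    have h5 := (isPushout_str hp hU).w
    exact congrArg CommRingCat.Hom.hom h5
  have hpo : Algebra.IsPushout P D F E := algebra_isPushout hp hU rfl rfl rfl
  have t3 : IsScalarTower P D N := IsScalarTower.of_algebraMap_eq' (str_comp_app g U (modelMap g F))
  have t4 : IsScalarTower D N E := IsScalarTower.of_algebraMap_eq'
    (congrArg CommRingCat.Hom.hom (app_eq (genι g F) (U := U)))
  refine ⟨a1, a2, a3, a4, a5, t3, t4, ?_, ?_, rfl, rfl, rfl, rfl, rfl⟩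
  · exact (Algebra.isLocalization_iff_isPushout P⁰ F).mpr hpo
  · exact isIntegralClosure (genι g F) hU rfl rfl

end

theorem flat_of_str {ι : Type*} (W : ι → X.Opens) (hW : ∀ i, IsAffineOpen (W i)) (hcov : ⨆ i, W i = ⊤)
    (h : ∀ i, (str g (W i)).Flat) : Flat g := by
  refine HasRingHomProperty.of_iSup_eq_top (P := @Flat) (fun i => (⟨W i, hW i⟩ : X.affineOpens)) hcov fun i => ?_
  have h1 : g.appLE ⊤ (W i) le_top = (Scheme.ΓSpecIso (.of P)).hom ≫ CommRingCat.ofHom (str g (W i)) := by
    rw [ofHom_str, Iso.hom_inv_id_assoc]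
  rw [h1, CommRingCat.hom_comp]
  exact (RingHom.Flat.of_bijective
    (ConcreteCategory.bijective_of_isIso (Scheme.ΓSpecIso (.of P)).hom)).comp (h i)

theorem iSup_preimage {Y : Scheme.{u}} (f : Y ⟶ X) : ⨆ U : X.affineOpens, f ⁻¹ᵁ U.1 = ⊤ := by
  rw [← Scheme.Hom.preimage_iSup, iSup_affineOpens_eq_top, Scheme.Hom.preimage_top]

section dedekind

variable {g} {F} [IsDedekindDomain P] [IsFractionRing P F]

theorem flat_model : Flat (modelMap g F ≫ g) := by
  refine flat_of_str _ (fun U : X.affineOpens => modelMap g F ⁻¹ᵁ U.1) (fun U => U.2.preimage _)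
    (iSup_preimage _) fun U => ?_
  obtain ⟨a1, a2, a3, a4, a5, t1, t2, l1, l2, e1, e2, e3, e4, e5⟩ := local_data (g := g) (F := F) U.2
  have := flat_integralClosure (P := P) (D := Γ(X, U.1))
    (E := Γ(pullback g (Spec.map (CommRingCat.ofHom (algebraMap P F))), genι g F ⁻¹ᵁ U.1))
    (N := Γ(model g F, modelMap g F ⁻¹ᵁ U.1))
  rw [← e5]
  exact RingHom.flat_algebraMap_iff.mpr this

theorem isNormalRing_gen (hg : GN g) {U : X.Opens} (hU : IsAffineOpen U) :
    EGA4.IsNormalRing Γ(pullback g (Spec.map (CommRingCat.ofHom (algebraMap P F))), genι g F ⁻¹ᵁ U) :=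
  An.H526.T3.isNormalRing_of_isAffineOpen (hg F (IsFractionRing.injective P F)) _ (hU.preimage (genι g F))

variable [LocallyOfFiniteType g]

theorem isNormalScheme_model (hg : GN g) : Pi1.IsNormalScheme (model g F) := by
  intro y
  obtain ⟨_, ⟨U, hU', rfl⟩, hxU, -⟩ :=
    X.isBasis_affineOpens.exists_subset_of_mem_open (Set.mem_univ (modelMap g F y)) isOpen_univ
  have hU : IsAffineOpen U := hU'
  obtain ⟨a1, a2, a3, a4, a5, t1, t2, l1, l2, e1, e2, e3, e4, e5⟩ := local_data (g := g) (F := F) hU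
  have hft : Algebra.FiniteType P Γ(X, U) := by
    have := finiteType_str g hU
    rw [← e1] at this
    exact RingHom.finiteType_algebraMap.mp this
  refine An.H526.T3.stalk_of_isNormalRing (modelMap g F ⁻¹ᵁ U) (hU.preimage _) ?_ y hxU
  exact isNormalRing_integralClosure (P := P) (D := Γ(X, U)) (isNormalRing_gen (F := F) hg hU)

variable [Flat g]

theorem isFinite_modelMap [Finite (MaximalSpectrum P)] (hg : GN g) : IsFinite (modelMap g F) := by
  refine (isFinite_iff _).mpr ⟨inferInstance, fun U hU => ?_⟩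
  obtain ⟨a1, a2, a3, a4, a5, t1, t2, l1, l2, e1, e2, e3, e4, e5⟩ := local_data (g := g) (F := F) hU
  have hfl : Module.Flat P Γ(X, U) := by
    have := flat_str g hU
    rw [← e1] at this
    exact RingHom.flat_algebraMap_iff.mp this
  have hft : Algebra.FiniteType P Γ(X, U) := by
    have := finiteType_str g hU
    rw [← e1] at this
    exact RingHom.finiteType_algebraMap.mp this
  rw [← e3]
  exact RingHom.finite_algebraMap.mpr (module_finite (P := P)
    (E := Γ(pullback g (Spec.map (CommRingCat.ofHom (algebraMap P F))), genι g F ⁻¹ᵁ U)) (genRed_of_GN hU hg e1))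

omit [LocallyOfFiniteType g] [IsDedekindDomain P] in
theorem surjective_modelMap : Surjective (modelMap g F) := by
  refine ⟨fun x => ?_⟩
  obtain ⟨_, ⟨U, hU', rfl⟩, hxU, -⟩ :=
    X.isBasis_affineOpens.exists_subset_of_mem_open (Set.mem_univ x) isOpen_univ
  have hU : IsAffineOpen U := hU'
  obtain ⟨a1, a2, a3, a4, a5, t1, t2, l1, l2, e1, e2, e3, e4, e5⟩ := local_data (g := g) (F := F) hU
  have hfl : Module.Flat P Γ(X, U) := by
    have := flat_str g hU
    rw [← e1] at this
    exact RingHom.flat_algebraMap_iff.mp this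
  have hinj : Function.Injective (algebraMap Γ(X, U) Γ(model g F, modelMap g F ⁻¹ᵁ U)) := by
    have h2 : Function.Injective (algebraMap Γ(X, U)
        Γ(pullback g (Spec.map (CommRingCat.ofHom (algebraMap P F))), genι g F ⁻¹ᵁ U)) := by
      refine IsLocalization.injective _ (M := Algebra.algebraMapSubmonoid Γ(X, U) P⁰) ?_
      rintro _ ⟨r, hr, rfl⟩
      have h1 : IsSMulRegular Γ(X, U) r := Module.Flat.isSMulRegular_of_nonZeroDivisors hr
      refine mem_nonZeroDivisors_iff_right.mpr fun x hx => h1 ?_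
      change r • x = r • (0 : Γ(X, U))
      rw [smul_zero, Algebra.smul_def, mul_comm]
      exact hx
    rw [IsScalarTower.algebraMap_eq Γ(X, U) Γ(model g F, modelMap g F ⁻¹ᵁ U), RingHom.coe_comp] at h2
    exact Function.Injective.of_comp h2
  have hint : (algebraMap Γ(X, U) Γ(model g F, modelMap g F ⁻¹ᵁ U)).IsIntegral := by
    rw [e3]; exact IsIntegralHom.isIntegral_app _ _ hU
  obtain ⟨y, rfl⟩ : ∃ y : Spec Γ(X, U), hU.fromSpec y = x := by
    have : x ∈ hU.fromSpec.opensRange := by rw [hU.opensRange_fromSpec]; exact hxU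
    exact this
  obtain ⟨z, hz⟩ := hint.comap_surjective hinj y
  refine ⟨(hU.preimage (modelMap g F)).fromSpec z, ?_⟩
  have h3 : Spec.map ((modelMap g F).app U) ≫ hU.fromSpec =
      (hU.preimage (modelMap g F)).fromSpec ≫ modelMap g F := by
    rw [Scheme.Hom.app_eq_appLE, IsAffineOpen.SpecMap_appLE_fromSpec]
  rw [← Scheme.Hom.comp_apply, ← h3, Scheme.Hom.comp_apply]
  congr 1
  rw [← hz, e3]
  rfl

end dedekind

end K93.RedFib
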