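import Groth.Agent.S10957
import Groth.Agent.Ega4B.Zariski
import Groth.Prelude.Def_EGA4b
import Mathlib.RingTheory.Nilpotent.GeometricallyReduced
import Mathlib.RingTheory.TensorProduct.Pi
import Mathlib.RingTheory.Ideal.AssociatedPrime.Finiteness

/-!
# Geometric reducedness of principal quotients of normal rings
-/

set_option autoImplicit false
universe u v w

open IsLocalRing

namespace K93.RedFib

theorem geomRed_pi {k : Type u} [Field k] {ι : Type v} [Finite ι] (B : ι → Type w)
    [∀ i, CommRing (B i)] [∀ i, Algebra k (B i)] [∀ i, Algebra.IsGeometricallyReduced k (B i)] :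
    Algebra.IsGeometricallyReduced k (∀ i, B i) := by
  classical
  have := Fintype.ofFinite ι
  rw [Algebra.isGeometricallyReduced_field_iff]
  exact isReduced_of_injective (Algebra.TensorProduct.piRight k k (AlgebraicClosure k) B)
    (AlgEquiv.injective _)

/-- A noetherian algebra is geometrically reduced when it is so at its associated primes. -/
theorem geomRed_of_ass {k C : Type u} [Field k] [CommRing C] [IsNoetherianRing C] [Algebra k C]
    (h : ∀ q ∈ associatedPrimes C C, ∃ (F : Type u) (_ : CommRing F) (_ : Algebra k F)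
      (_ : Algebra.IsGeometricallyReduced k F) (f : C →ₐ[k] F), ∀ x, f x = 0 → ∃ s ∉ q, s * x = 0) :
    Algebra.IsGeometricallyReduced k C := by
  choose F i1 i2 i3 f hf using h
  have hfin : Finite (associatedPrimes C C) := (associatedPrimes.finite C C).to_subtype
  let G : associatedPrimes C C → Type u := fun q => F q.1 q.2
  let g : C →ₐ[k] (∀ q, G q) := AlgHom.pi fun q => f q.1 q.2
  have := geomRed_pi (k := k) G
  refine Algebra.IsGeometricallyReduced.of_injective g ?_
  rw [injective_iff_map_eq_zero]
  intro x hx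
  by_contra hx0
  obtain ⟨q, hq, hle⟩ := exists_le_isAssociatedPrime_of_isNoetherianRing C x hx0
  obtain ⟨s, hs, hsx⟩ := hf q hq x (congrFun hx ⟨q, hq⟩)
  apply hs
  apply hle
  rw [Submodule.mem_colon_singleton]
  exact (Submodule.mem_bot C).mpr hsx

/-- `N` normal noetherian, `π` a nonzerodivisor; if at all primes `q` containing `π` with `N_q` a discrete
valuation ring, `π` is a uniformizer and the residue field is geometrically reduced, then `N / π` is
geometrically reduced. -/
theorem geomRed_quotient {k N : Type u} [Field k] [CommRing N] [IsNoetherianRing N]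
    (hN : EGA4.IsNormalRing N) (π : N) (hπ : π ∈ nonZeroDivisors N) [Algebra k (N ⧸ Ideal.span {π})]
    (h : ∀ (q : Ideal N) [q.IsPrime], π ∈ q → (∀ (_ : IsDomain (Localization.AtPrime q)),
      IsDiscreteValuationRing (Localization.AtPrime q) →
      maximalIdeal (Localization.AtPrime q) ≤ Ideal.span {algebraMap N (Localization.AtPrime q) π} ∧
      ∃ (F : Type u) (_ : Field F) (_ : Algebra k F) (_ : Algebra.IsGeometricallyReduced k F)
        (f : N →+* F), RingHom.ker f = q ∧
        ∀ (c : k) (y : N), Ideal.Quotient.mk (Ideal.span {π}) y = algebraMap k (N ⧸ Ideal.span {π}) c →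
          f y = algebraMap k F c)) :
    Algebra.IsGeometricallyReduced k (N ⧸ Ideal.span {π}) := by
  apply geomRed_of_ass
  intro q' hq'
  have hq'p : q'.IsPrime := hq'.isPrime
  let q : Ideal N := q'.comap (Ideal.Quotient.mk (Ideal.span {π}))
  have hqp : q.IsPrime := hq'p.comap _
  have hπq : π ∈ q := by
    change Ideal.Quotient.mk (Ideal.span {π}) π ∈ q'
    rw [Ideal.Quotient.eq_zero_iff_mem.mpr (Ideal.mem_span_singleton_self π)]
    exact zero_mem _
  obtain ⟨hdom, hic⟩ := hN q
  -- the associated prime property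
  obtain ⟨y', hy'⟩ := (isAssociatedPrime_iff.mp hq').2
  obtain ⟨y, rfl⟩ := Ideal.Quotient.mk_surjective y'
  have hy : ∀ d : N, d ∈ q ↔ d * y ∈ Ideal.span {π} := by
    intro d
    rw [← Ideal.Quotient.eq_zero_iff_mem (I := Ideal.span {π}), map_mul]
    change Ideal.Quotient.mk (Ideal.span {π}) d ∈ q' ↔ _
    rw [hy', Submodule.mem_colon_singleton, Submodule.mem_bot, smul_eq_mul]
  have hπ0 : algebraMap N (Localization.AtPrime q) π ≠ 0 := by
    intro h0
    obtain ⟨s, hs⟩ := (IsLocalization.map_eq_zero_iff q.primeCompl _ π).mp h0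
    have : (s : N) = 0 := (mem_nonZeroDivisors_iff_right.mp hπ) _ hs
    exact s.2 (this ▸ zero_mem q)
  have hspan : ∀ d : N, algebraMap N (Localization.AtPrime q) d ∈
      Ideal.span {algebraMap N (Localization.AtPrime q) π} → ∃ s ∉ q, s * d ∈ Ideal.span {π} := by
    intro d hd
    obtain ⟨z, hz⟩ := Ideal.mem_span_singleton'.mp hd
    obtain ⟨a, s, rfl⟩ := IsLocalization.exists_mk'_eq q.primeCompl z
    have h1 : algebraMap N (Localization.AtPrime q) (a * π) = algebraMap N (Localization.AtPrime q) (s * d) := by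
      rw [map_mul, map_mul, ← hz, ← mul_assoc, IsLocalization.mk'_spec']
    obtain ⟨t, ht⟩ := (IsLocalization.eq_iff_exists q.primeCompl _).mp h1
    refine ⟨t * s, fun h2 => ?_, ?_⟩
    · rcases hqp.mem_or_mem h2 with h3 | h3
      · exact t.2 h3
      · exact s.2 h3
    · rw [mul_assoc, ← ht]
      exact Ideal.mul_mem_left _ _ (Ideal.mul_mem_left _ _ (Ideal.mem_span_singleton_self π))
  have hdvr : IsDiscreteValuationRing (Localization.AtPrime q) := by
    refine Groth.Agent.S10957.result _ (algebraMap N (Localization.AtPrime q) π) hπ0 ?_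
    rw [Groth.Agent.Ega4B.Zariski.mem_associatedPrimes_quotient_iff]
    refine ⟨inferInstance, algebraMap N _ y, ?_⟩
    intro d
    obtain ⟨d₀, s, rfl⟩ := IsLocalization.exists_mk'_eq q.primeCompl d
    rw [IsLocalization.AtPrime.mk'_mem_maximal_iff (Localization.AtPrime q) q]
    constructor
    · intro hd
      obtain ⟨c, hc⟩ := Ideal.mem_span_singleton'.mp ((hy d₀).mp hd)
      rw [Ideal.mem_span_singleton']
      refine ⟨IsLocalization.mk' _ c s, ?_⟩
      have h1 : IsUnit (algebraMap N (Localization.AtPrime q) s) := IsLocalization.map_units _ s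
      apply h1.mul_left_cancel
      rw [← mul_assoc, ← mul_assoc, IsLocalization.mk'_spec', IsLocalization.mk'_spec', ← map_mul, ← map_mul, hc]
    · intro hd
      have h2 : algebraMap N (Localization.AtPrime q) (d₀ * y) ∈
          Ideal.span {algebraMap N (Localization.AtPrime q) π} := by
        rw [map_mul, ← IsLocalization.mk'_spec' (Localization.AtPrime q) d₀ s, mul_assoc]
        exact Ideal.mul_mem_left _ _ hd
      obtain ⟨t, ht, ht'⟩ := hspan _ h2
      have h3 : t * d₀ ∈ q := by
        rw [hy, mul_assoc]; exact ht'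
      exact (hqp.mem_or_mem h3).resolve_left ht
  obtain ⟨hmax, F, i1, i2, i3, f, hfq, hf⟩ := h q hπq hdom hdvr
  have hfπ : ∀ a ∈ Ideal.span {π}, f a = 0 := by
    intro a ha
    have h1 : a ∈ q := (Ideal.span_singleton_le_iff_mem q).mpr hπq ha
    rw [← hfq] at h1
    exact h1
  let f' : (N ⧸ Ideal.span {π}) →ₐ[k] F :=
    { Ideal.Quotient.lift (Ideal.span {π}) f hfπ with
      commutes' := fun c => by
        obtain ⟨y, hy⟩ := Ideal.Quotient.mk_surjective (algebraMap k (N ⧸ Ideal.span {π}) c)
        change Ideal.Quotient.lift (Ideal.span {π}) f hfπ (algebraMap k (N ⧸ Ideal.span {π}) c) = _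
        rw [← hy, Ideal.Quotient.lift_mk]
        exact hf c y hy }
  refine ⟨F, inferInstance, i2, i3, f', ?_⟩
  intro x hx
  obtain ⟨d, rfl⟩ := Ideal.Quotient.mk_surjective x
  have h1 : f d = 0 := by
    have : f' (Ideal.Quotient.mk (Ideal.span {π}) d) = f d := Ideal.Quotient.lift_mk _ _ _
    rw [← this, hx]
  have h2 : d ∈ q := by rw [← hfq]; exact h1
  have h3 : algebraMap N (Localization.AtPrime q) d ∈ maximalIdeal (Localization.AtPrime q) := by
    rw [← Localization.AtPrime.map_eq_maximalIdeal]; exact Ideal.mem_map_of_mem _ h2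
  obtain ⟨s, hs, hs'⟩ := hspan d (hmax h3)
  refine ⟨Ideal.Quotient.mk _ s, hs, ?_⟩
  rw [← map_mul]
  exact Ideal.Quotient.eq_zero_iff_mem.mpr hs'

end K93.RedFib
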