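import Groth.Agent.AlgSp.K93.RFSol
import Groth.Agent.AlgSp.K93.RFFin
import Groth.Agent.AlgSp.K93.RFAlg
import Groth.Agent.S9634
import Mathlib.RingTheory.DedekindDomain.PID

/-!
# The reduced fibre theorem for rings
-/

set_option autoImplicit false
universe u v

open IsLocalRing TensorProduct nonZeroDivisors

namespace K93.RedFib

open Groth.Agent

/-- All fibres of `N` over `P` are geometrically reduced. -/
def GeomRed (P N : Type u) [CommRing P] [CommRing N] [Algebra P N] : Prop :=
  ∀ (K' : Type u) [Field K'] [Algebra P K'], IsReduced (N ⊗[P] K')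

/-- The generic fibre of `N` over `P` is geometrically reduced. -/
def GenRed (P N : Type u) [CommRing P] [CommRing N] [Algebra P N] : Prop :=
  ∀ (K' : Type u) [Field K'] [Algebra P K'], Function.Injective (algebraMap P K') → IsReduced (N ⊗[P] K')

section closure

variable {P D E N : Type u} [CommRing P] [IsDedekindDomain P] [CommRing D] [Algebra P D] [Module.Flat P D]
  [CommRing E] [Algebra D E] [IsLocalization (Algebra.algebraMapSubmonoid D P⁰) E]
  [CommRing N] [Algebra D N] [Algebra N E] [IsScalarTower D N E] [IsIntegralClosure N D E]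
  [Algebra P N] [IsScalarTower P D N]

include D E in
omit [IsDedekindDomain P] [Module.Flat P D] in
theorem smul_injective {r : P} (hr : r ∈ P⁰) : Function.Injective fun n : N => algebraMap P N r * n := by
  intro x y h
  have hu : IsUnit (algebraMap D E (algebraMap P D r)) :=
    IsLocalization.map_units E (⟨algebraMap P D r, r, hr, rfl⟩ : Algebra.algebraMapSubmonoid D P⁰)
  apply IsIntegralClosure.algebraMap_injective N D E
  apply hu.mul_left_cancel
  have h1 := congrArg (algebraMap N E) h
  simp only [map_mul] at h1
  rw [IsScalarTower.algebraMap_apply P D N, ← IsScalarTower.algebraMap_apply D N E] at h1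
  exact h1

include D E in
omit [Module.Flat P D] in
/-- Flatness of the integral closure in the generic fibre over a Dedekind domain. -/
theorem flat_integralClosure : Module.Flat P N := by
  rw [IsDedekindDomain.flat_iff_torsion_eq_bot, eq_bot_iff]
  intro x hx
  obtain ⟨⟨r, hr⟩, hrx⟩ := hx
  have hrx' : r • x = 0 := hrx
  rw [Algebra.smul_def] at hrx'
  have := smul_injective (D := D) (E := E) hr (a₁ := x) (a₂ := 0) (by simpa using hrx')
  rw [this]
  exact zero_mem _

include E in
omit [IsDedekindDomain P] [Module.Flat P D] in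
/-- The generic fibre of the integral closure. -/
theorem exists_mul_eq (n : N) : ∃ r ∈ P⁰, ∃ d : D, algebraMap P N r * n = algebraMap D N d := by
  obtain ⟨⟨d, ⟨_, r, hr, rfl⟩⟩, h⟩ := IsLocalization.surj (Algebra.algebraMapSubmonoid D P⁰) (algebraMap N E n)
  refine ⟨r, hr, d, ?_⟩
  apply IsIntegralClosure.algebraMap_injective N D E
  rw [map_mul, IsScalarTower.algebraMap_apply P D N, ← IsScalarTower.algebraMap_apply D N E,
    ← IsScalarTower.algebraMap_apply D N E, mul_comm]
  exact h

include D in
omit [IsDedekindDomain P] [Module.Flat P D] in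
/-- `E` is also the generic fibre of the integral closure. -/
theorem isLocalization_integralClosure : IsLocalization (Algebra.algebraMapSubmonoid N P⁰) E := by
  refine ⟨?_, ?_, ?_⟩
  · rintro ⟨_, r, hr, rfl⟩
    change IsUnit (algebraMap N E (algebraMap P N r))
    rw [IsScalarTower.algebraMap_apply P D N, ← IsScalarTower.algebraMap_apply D N E]
    exact IsLocalization.map_units E (⟨algebraMap P D r, r, hr, rfl⟩ : Algebra.algebraMapSubmonoid D P⁰)
  · intro z
    obtain ⟨⟨d, ⟨_, r, hr, rfl⟩⟩, h⟩ := IsLocalization.surj (Algebra.algebraMapSubmonoid D P⁰) z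
    refine ⟨⟨algebraMap D N d, ⟨algebraMap P N r, r, hr, rfl⟩⟩, ?_⟩
    change z * algebraMap N E (algebraMap P N r) = algebraMap N E (algebraMap D N d)
    rw [IsScalarTower.algebraMap_apply P D N, ← IsScalarTower.algebraMap_apply D N E,
      ← IsScalarTower.algebraMap_apply D N E]
    exact h
  · intro x y h
    exact ⟨1, by rw [IsIntegralClosure.algebraMap_injective N D E h]⟩

end closure

/-- A domain containing a Dedekind domain is flat over it. -/
theorem flat_of_injective {P A : Type u} [CommRing P] [IsDedekindDomain P] [CommRing A] [IsDomain A] [Algebra P A]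
    (h : Function.Injective (algebraMap P A)) : Module.Flat P A := by
  rw [IsDedekindDomain.flat_iff_torsion_eq_bot, eq_bot_iff]
  intro x hx
  obtain ⟨⟨r, hr⟩, hrx⟩ := hx
  have hrx' : r • x = 0 := hrx
  rw [Algebra.smul_def, mul_eq_zero] at hrx'
  rcases hrx' with h1 | h1
  · exact absurd ((injective_iff_map_eq_zero _).1 h r h1) (nonZeroDivisors.ne_zero hr)
  · rw [h1]; exact Submodule.zero_mem _

section closure

variable {P D E N : Type u} [CommRing P] [IsDedekindDomain P] [CommRing D] [Algebra P D] [Module.Flat P D]
  [CommRing E] [Algebra D E] [IsLocalization (Algebra.algebraMapSubmonoid D P⁰) E]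
  [CommRing N] [Algebra D N] [Algebra N E] [IsScalarTower D N E] [IsIntegralClosure N D E]
  [Algebra P N] [IsScalarTower P D N]

include D E in
omit [Module.Flat P D] in
/-- The generic fibre of the integral closure is geometrically reduced. -/
theorem genRed_integralClosure (hred : GenRed P D) : GenRed P N := by
  intro K' _ _ hinj
  have := hred K' hinj
  have hfl : Module.Flat P K' := flat_of_injective hinj
  let iPE : Algebra P E := ((algebraMap D E).comp (algebraMap P D)).toAlgebra
  have t1 : IsScalarTower P D E := IsScalarTower.of_algebraMap_eq' rfl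
  have t2 : IsScalarTower P N E := IsScalarTower.of_algebraMap_eq fun x => by
    rw [IsScalarTower.algebraMap_apply P D N, ← IsScalarTower.algebraMap_apply D N E]
    rfl
  -- `D ⊗ K' → E ⊗ K'` is surjective
  let f : D ⊗[P] K' →ₐ[P] E ⊗[P] K' := Algebra.TensorProduct.map (IsScalarTower.toAlgHom P D E) (AlgHom.id P K')
  have hf : Function.Bijective f := by
    constructor
    · -- both are localizations
      rw [injective_iff_map_eq_zero]
      intro x hx
      have hu : ∀ r ∈ P⁰, IsUnit (algebraMap P K' r) := fun r hr =>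
        ((map_ne_zero_iff _ hinj).mpr (nonZeroDivisors.ne_zero hr)).isUnit
      -- left inverse
      have hu' : ∀ y : Algebra.algebraMapSubmonoid D P⁰,
          IsUnit ((Algebra.TensorProduct.includeLeft : D →ₐ[P] D ⊗[P] K').toRingHom y) := by
        rintro ⟨_, r, hr, rfl⟩
        change IsUnit ((algebraMap P D r) ⊗ₜ[P] (1 : K'))
        have h1 : (algebraMap P D r) ⊗ₜ[P] (1 : K') = (1 : D) ⊗ₜ[P] (algebraMap P K' r) := by
          rw [← mul_one (algebraMap P D r), ← Algebra.smul_def, TensorProduct.smul_tmul, Algebra.smul_def, mul_one]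
        rw [h1]
        exact (hu r hr).map (Algebra.TensorProduct.includeRight : K' →ₐ[P] D ⊗[P] K')
      let l : E →+* D ⊗[P] K' := IsLocalization.lift hu'
      have hl : ∀ d, l (algebraMap D E d) = d ⊗ₜ 1 := fun d => IsLocalization.lift_eq hu' d
      let l' : E →ₐ[P] D ⊗[P] K' :=
        { l with
          commutes' := fun r => by
            change l (algebraMap D E (algebraMap P D r)) = _
            rw [hl]
            rfl }
      let gg : E ⊗[P] K' →ₐ[P] D ⊗[P] K' :=
        Algebra.TensorProduct.lift l' Algebra.TensorProduct.includeRight (fun _ _ => Commute.all _ _)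
      have hgf : ∀ x, gg (f x) = x := by
        intro x
        induction x using TensorProduct.induction_on with
        | zero => rw [map_zero, map_zero]
        | add x y hx hy => rw [map_add, map_add, hx, hy]
        | tmul d c =>
          change gg ((algebraMap D E d) ⊗ₜ c) = _
          rw [Algebra.TensorProduct.lift_tmul]
          change l (algebraMap D E d) * (1 ⊗ₜ c) = _
          rw [hl, Algebra.TensorProduct.tmul_mul_tmul, mul_one, one_mul]
      rw [← hgf x, hx, map_zero]
    · intro y
      induction y using TensorProduct.induction_on with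
      | zero => exact ⟨0, map_zero _⟩
      | add x y hx hy =>
        obtain ⟨a, rfl⟩ := hx
        obtain ⟨b, rfl⟩ := hy
        exact ⟨a + b, map_add _ _ _⟩
      | tmul e c =>
        obtain ⟨⟨d, ⟨_, r, hr, rfl⟩⟩, h⟩ := IsLocalization.surj (Algebra.algebraMapSubmonoid D P⁰) e
        have hr0 : algebraMap P K' r ≠ 0 := (map_ne_zero_iff _ hinj).mpr (nonZeroDivisors.ne_zero hr)
        refine ⟨d ⊗ₜ ((algebraMap P K' r)⁻¹ * c), ?_⟩
        change (algebraMap D E d) ⊗ₜ[P] ((algebraMap P K' r)⁻¹ * c) = e ⊗ₜ c
        have h2 : algebraMap D E d = r • e := by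
          rw [Algebra.smul_def, mul_comm]; exact h.symm
        rw [h2, TensorProduct.smul_tmul, Algebra.smul_def, mul_inv_cancel_left₀ hr0]
  have hE : IsReduced (E ⊗[P] K') := by
    let e : D ⊗[P] K' ≃+* E ⊗[P] K' := RingEquiv.ofBijective f hf
    exact isReduced_of_injective e.symm.toRingHom e.symm.injective
  let i : N ⊗[P] K' →+* E ⊗[P] K' :=
    (Algebra.TensorProduct.map (IsScalarTower.toAlgHom P N E) (AlgHom.id P K')).toRingHom
  refine isReduced_of_injective i ?_
  exact Module.Flat.rTensor_preserves_injective_linearMap (M := K')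
    (IsScalarTower.toAlgHom P N E).toLinearMap (IsIntegralClosure.algebraMap_injective N D E)

variable [Algebra.FiniteType P D]

include E in
omit [Algebra P N] [IsScalarTower P D N] in
/-- Finiteness of the integral closure. -/
theorem module_finite [Finite (MaximalSpectrum P)] (hred : GenRed P D) : Module.Finite D N := by
  have := finite_integralClosure (P := P) (D := D) (E := E) hred
  exact Module.Finite.equiv (IsIntegralClosure.equiv D (integralClosure D E) E N).toLinearEquiv

include E in
omit [Algebra P N] [IsScalarTower P D N] in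
theorem isNoetherianRing [Finite (MaximalSpectrum P)] (hred : GenRed P D) : IsNoetherianRing N := by
  have := module_finite (N := N) (E := E) hred
  have : IsNoetherianRing D := Algebra.FiniteType.isNoetherianRing P D
  exact IsNoetherianRing.of_finite D N

include P D in
omit [Module.Flat P D] [Algebra P N] [IsScalarTower P D N] in
/-- Normality of the integral closure. -/
theorem isNormalRing_integralClosure (hE : EGA4.IsNormalRing E) : EGA4.IsNormalRing N := by
  have : IsNoetherianRing D := Algebra.FiniteType.isNoetherianRing P D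
  have : IsNoetherianRing E := IsLocalization.isNoetherianRing (Algebra.algebraMapSubmonoid D P⁰) E inferInstance
  have : IsIntegrallyClosedIn N E := by
    refine ⟨IsIntegralClosure.algebraMap_injective N D E, @fun x => ⟨fun hx => ?_, ?_⟩⟩
    · have hN : Algebra.IsIntegral D N := IsIntegralClosure.isIntegral_algebra D E
      have h1 : IsIntegral D x := isIntegral_trans (A := N) x hx
      exact (IsIntegralClosure.isIntegral_iff (A := N)).mp h1
    · rintro ⟨d, rfl⟩
      exact isIntegral_algebraMap
  exact Ega4C.NormIntIn.isNormalRing_of_isIntegrallyClosedIn_noetherian N E hE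

end closure

/-- Geometric reducedness of all fibres, fibre by fibre. -/
theorem geomRed_of_special {P N : Type u} [CommRing P] [IsDomain P] [IsPrincipalIdealRing P] [CommRing N]
    [Algebra P N] (hgen : GenRed P N)
    (hsp : ∀ (π : P), Prime π → ∀ (k : Type u) [Field k] [Algebra P k]
      [Algebra k (N ⧸ Ideal.span {algebraMap P N π})], Function.Surjective (algebraMap P k) →
      RingHom.ker (algebraMap P k) = Ideal.span {π} →
      (∀ r, algebraMap k (N ⧸ Ideal.span {algebraMap P N π}) (algebraMap P k r) =
        Ideal.Quotient.mk _ (algebraMap P N r)) →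
      Algebra.IsGeometricallyReduced k (N ⧸ Ideal.span {algebraMap P N π})) : GeomRed P N := by
  intro K' _ _
  by_cases hinj : Function.Injective (algebraMap P K')
  · exact hgen K' hinj
  let I : Ideal P := RingHom.ker (algebraMap P K')
  have hI : I.IsPrime := RingHom.ker_isPrime _
  have hI0 : I ≠ ⊥ := fun h => hinj ((RingHom.injective_iff_ker_eq_bot _).mpr h)
  obtain ⟨π, hπI⟩ := (IsPrincipalIdealRing.principal I).principal
  have hIπ : I = Ideal.span {π} := hπI
  have hπ0 : π ≠ 0 := by
    rintro rfl
    exact hI0 (by rw [hIπ]; exact Ideal.span_singleton_eq_bot.mpr rfl)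
  have hπ : Prime π := (Ideal.span_singleton_prime hπ0).mp (hIπ ▸ hI)
  have hmax : (Ideal.span {π}).IsMaximal := by
    rw [← hIπ]; exact hI.isMaximal hI0
  let k := P ⧸ Ideal.span {π}
  let _ : Field k := Ideal.Quotient.field _
  have hle : Ideal.span {π} ≤ (Ideal.span {algebraMap P N π}).comap (algebraMap P N) := by
    rw [Ideal.span_singleton_le_iff_mem]
    exact Ideal.subset_span rfl
  let i1 : Algebra k (N ⧸ Ideal.span {algebraMap P N π}) := (Ideal.quotientMap _ (algebraMap P N) hle).toAlgebra
  have h1 : Algebra.IsGeometricallyReduced k (N ⧸ Ideal.span {algebraMap P N π}) :=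
    hsp π hπ k Ideal.Quotient.mk_surjective Ideal.mk_ker fun r => rfl
  have hker : ∀ a ∈ Ideal.span {π}, algebraMap P K' a = 0 := fun a ha => by
    rw [← hIπ] at ha; exact ha
  let i2 : Algebra k K' := (Ideal.Quotient.lift (Ideal.span {π}) (algebraMap P K') hker).toAlgebra
  have t2 : IsScalarTower P k K' := IsScalarTower.of_algebraMap_eq fun x => rfl
  have h2 : IsReduced (K' ⊗[k] (N ⧸ Ideal.span {algebraMap P N π})) :=
    ((S9634.result (k := k) (S := N ⧸ Ideal.span {algebraMap P N π})).out 1 2 rfl rfl).mp h1 K'
  have t3 : IsScalarTower P k (N ⧸ Ideal.span {algebraMap P N π}) := IsScalarTower.of_algebraMap_eq fun x => rfl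
  -- `N ⊗ K'` embeds in `K' ⊗ N/π`
  let f : N ⊗[P] K' →ₐ[P] K' ⊗[k] (N ⧸ Ideal.span {algebraMap P N π}) :=
    Algebra.TensorProduct.lift
      (((Algebra.TensorProduct.includeRight : _ →ₐ[k] K' ⊗[k] (N ⧸ Ideal.span {algebraMap P N π})).restrictScalars P).comp
        (IsScalarTower.toAlgHom P N (N ⧸ Ideal.span {algebraMap P N π})))
      (IsScalarTower.toAlgHom P K' (K' ⊗[k] (N ⧸ Ideal.span {algebraMap P N π})))
      (fun _ _ => Commute.all _ _)
  -- inverse
  have hz : ∀ a ∈ Ideal.span {algebraMap P N π},
      (Algebra.TensorProduct.includeLeft : N →ₐ[P] N ⊗[P] K') a = 0 := by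
    intro a ha
    obtain ⟨b, rfl⟩ := Ideal.mem_span_singleton'.mp ha
    change (b * algebraMap P N π) ⊗ₜ[P] (1 : K') = 0
    rw [mul_comm, ← Algebra.smul_def, TensorProduct.smul_tmul, Algebra.smul_def,
      hker π (Ideal.mem_span_singleton_self π), zero_mul, tmul_zero]
  let g1 : (N ⧸ Ideal.span {algebraMap P N π}) →+* N ⊗[P] K' :=
    Ideal.Quotient.lift _ (Algebra.TensorProduct.includeLeft : N →ₐ[P] N ⊗[P] K').toRingHom hz
  let _ : Algebra K' (N ⊗[P] K') := Algebra.TensorProduct.rightAlgebra
  let i4 : Algebra k (N ⊗[P] K') := ((algebraMap K' (N ⊗[P] K')).comp (algebraMap k K')).toAlgebra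
  have t4 : IsScalarTower k K' (N ⊗[P] K') := IsScalarTower.of_algebraMap_eq' rfl
  let g1' : (N ⧸ Ideal.span {algebraMap P N π}) →ₐ[k] N ⊗[P] K' :=
    { g1 with
      commutes' := fun c => by
        obtain ⟨c, rfl⟩ := Ideal.Quotient.mk_surjective c
        change (algebraMap P N c) ⊗ₜ[P] (1 : K') = (1 : N) ⊗ₜ[P] (algebraMap P K' c)
        rw [← mul_one (algebraMap P N c), ← Algebra.smul_def, TensorProduct.smul_tmul, Algebra.smul_def, mul_one] }
  let g : K' ⊗[k] (N ⧸ Ideal.span {algebraMap P N π}) →ₐ[k] N ⊗[P] K' :=
    Algebra.TensorProduct.lift (IsScalarTower.toAlgHom k K' (N ⊗[P] K')) g1' (fun _ _ => Commute.all _ _)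
  have hgf : ∀ x, g (f x) = x := by
    intro x
    induction x using TensorProduct.induction_on with
    | zero => rw [map_zero, map_zero]
    | add x y hx hy => rw [map_add, map_add, hx, hy]
    | tmul n c =>
      have h3 : f (n ⊗ₜ c) = (1 ⊗ₜ (Ideal.Quotient.mk _ n)) * (c ⊗ₜ 1) := by
        rw [Algebra.TensorProduct.lift_tmul]
        rfl
      rw [h3, map_mul, Algebra.TensorProduct.lift_tmul, Algebra.TensorProduct.lift_tmul, map_one, map_one,
        one_mul, mul_one]
      change (n ⊗ₜ[P] (1 : K')) * ((1 : N) ⊗ₜ[P] c) = n ⊗ₜ[P] c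
      rw [Algebra.TensorProduct.tmul_mul_tmul, mul_one, one_mul]
  exact isReduced_of_injective f.toRingHom (Function.LeftInverse.injective hgf)

section main

variable {R K A L K₂ R₂ D E N : Type u} [CommRing R] [IsDomain R] [Field K] [Algebra R K] [IsFractionRing R K]
  [CommRing A] [IsDomain A] [IsIntegrallyClosed A] [Algebra R A]
  [Field L] [Algebra A L] [IsFractionRing A L] [Algebra K L] [Algebra R L] [IsScalarTower R A L]
  [IsScalarTower R K L]
  [Field K₂] [Algebra K K₂] [FiniteDimensional K K₂] [Algebra R K₂] [IsScalarTower R K K₂]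
  [CommRing R₂] [IsDedekindDomain R₂] [Finite (MaximalSpectrum R₂)] [Algebra R R₂] [Algebra.IsIntegral R R₂]
  [Algebra R₂ K₂] [IsFractionRing R₂ K₂] [IsScalarTower R R₂ K₂]
  [CommRing D] [Algebra A D] [Algebra R₂ D] [Algebra R D] [IsScalarTower R A D] [IsScalarTower R R₂ D]
  [Module.Flat A D] [Module.Flat R₂ D] [Algebra.FiniteType R₂ D]
  [CommRing E] [Algebra D E] [IsLocalization (Algebra.algebraMapSubmonoid D R₂⁰) E]
  [CommRing N] [Algebra D N] [Algebra N E] [IsScalarTower D N E] [IsIntegralClosure N D E]
  [Algebra R₂ N] [IsScalarTower R₂ D N]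

include K A L K₂ D E in
/-- The reduced fibre theorem for rings. -/
theorem geomRed_main (hadj : Algebra.adjoin A (Set.range (algebraMap R₂ D)) = ⊤)
    (hE : EGA4.IsNormalRing E) (hred : GenRed R₂ D) (hredN : GenRed R₂ N)
    (hsol : ∀ (p : Ideal A) [p.IsPrime], p.height = 1 → p.comap (algebraMap R A) ≠ ⊥ → SolAt A K L K₂ p) :
    GeomRed R₂ N := by
  have : IsPrincipalIdealRing R₂ := IsPrincipalIdealRing.of_finite_maximals (by
    rw [← MaximalSpectrum.range_asIdeal]
    exact Set.finite_range MaximalSpectrum.asIdeal)
  let iAN : Algebra A N := ((algebraMap D N).comp (algebraMap A D)).toAlgebra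
  have tAN : IsScalarTower A D N := IsScalarTower.of_algebraMap_eq' rfl
  let iRN : Algebra R N := ((algebraMap D N).comp (algebraMap R D)).toAlgebra
  have tRN : IsScalarTower R D N := IsScalarTower.of_algebraMap_eq' rfl
  have t1 : IsScalarTower R A N := IsScalarTower.of_algebraMap_eq fun x => by
    rw [IsScalarTower.algebraMap_apply A D N, ← IsScalarTower.algebraMap_apply R A D,
      ← IsScalarTower.algebraMap_apply R D N]
  have t2 : IsScalarTower R R₂ N := IsScalarTower.of_algebraMap_eq fun x => by
    rw [IsScalarTower.algebraMap_apply R₂ D N, ← IsScalarTower.algebraMap_apply R R₂ D,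
      ← IsScalarTower.algebraMap_apply R D N]
  have hND : Algebra.IsIntegral D N := IsIntegralClosure.isIntegral_algebra D E
  have hDA : Algebra.IsIntegral A D := by
    have h1 : ∀ x ∈ Set.range (algebraMap R₂ D), IsIntegral A x := by
      rintro _ ⟨y, rfl⟩
      have h2 : IsIntegral R (algebraMap R₂ D y) := (Algebra.IsIntegral.isIntegral (R := R) y).algebraMap
      exact h2.tower_top
    constructor
    intro x
    have hx : x ∈ Algebra.adjoin A (Set.range (algebraMap R₂ D)) := by rw [hadj]; trivial
    have h3 : Algebra.adjoin A (Set.range (algebraMap R₂ D)) ≤ integralClosure A D :=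
      Algebra.adjoin_le h1
    exact h3 hx
  have hNA : Algebra.IsIntegral A N := Algebra.IsIntegral.trans D
  have hfl : Module.Flat R₂ N := flat_integralClosure (D := D) (E := E)
  have hNoe : IsNoetherianRing N := isNoetherianRing (P := R₂) (D := D) (E := E) hred
  have hNorm : EGA4.IsNormalRing N := isNormalRing_integralClosure (P := R₂) (D := D) (E := E) hE
  have hreg : ∀ a : A, a ≠ 0 → algebraMap A N a ∈ nonZeroDivisors N := by
    intro a ha
    have h1 : IsSMulRegular D a := Module.Flat.isSMulRegular_of_nonZeroDivisors (mem_nonZeroDivisors_of_ne_zero ha)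
    refine mem_nonZeroDivisors_iff_right.mpr fun x hx => ?_
    obtain ⟨r, hr, d, hd⟩ := exists_mul_eq (P := R₂) (D := D) (E := E) x
    have hinj : Function.Injective (algebraMap D N) := by
      have h2 : Function.Injective (algebraMap D E) := by
        refine IsLocalization.injective E (M := Algebra.algebraMapSubmonoid D R₂⁰) ?_
        rintro _ ⟨r, hr, rfl⟩
        have h1 : IsSMulRegular D r := Module.Flat.isSMulRegular_of_nonZeroDivisors hr
        refine mem_nonZeroDivisors_iff_right.mpr fun x hx => h1 ?_
        change r • x = r • (0 : D)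
        rw [smul_zero, Algebra.smul_def, mul_comm]
        exact hx
      rw [IsScalarTower.algebraMap_eq D N E, RingHom.coe_comp] at h2
      exact Function.Injective.of_comp h2
    have h3 : d = 0 := by
      apply h1
      change a • d = a • (0 : D)
      rw [smul_zero, Algebra.smul_def]
      apply hinj
      rw [map_mul, map_zero, ← hd, ← IsScalarTower.algebraMap_apply A D N, mul_left_comm,
        mul_comm (algebraMap A N a) x, hx, mul_zero]
    rw [h3, map_zero] at hd
    exact smul_injective (D := D) (E := E) hr (a₁ := x) (a₂ := 0) (by simpa using hd)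
  have hgen : ∀ n : N, ∃ r : R₂, r ≠ 0 ∧
      algebraMap R₂ N r * n ∈ Algebra.adjoin A (Set.range (algebraMap R₂ N)) := by
    intro n
    obtain ⟨r, hr, d, hd⟩ := exists_mul_eq (P := R₂) (D := D) (E := E) n
    refine ⟨r, nonZeroDivisors.ne_zero hr, ?_⟩
    rw [hd]
    have hx : d ∈ Algebra.adjoin A (Set.range (algebraMap R₂ D)) := by rw [hadj]; trivial
    have h1 : (IsScalarTower.toAlgHom A D N) d ∈
        (Algebra.adjoin A (Set.range (algebraMap R₂ D))).map (IsScalarTower.toAlgHom A D N) :=
      Subalgebra.mem_map.mpr ⟨d, hx, rfl⟩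
    rw [AlgHom.map_adjoin, ← Set.range_comp] at h1
    have h2 : (IsScalarTower.toAlgHom A D N) ∘ (algebraMap R₂ D) = algebraMap R₂ N := by
      ext x
      exact (IsScalarTower.algebraMap_apply R₂ D N x).symm
    rw [h2] at h1
    exact h1
  refine geomRed_of_special hredN fun π hπ k _ _ _ hk hker htower => ?_
  exact geomRed_special (K := K) (L := L) (K₁ := K₂) hNorm hreg hgen hsol π hπ k hk hker htower

end main

end K93.RedFib
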