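import Groth.Agent.AlgSp.K93.RFSplit

/-!
# Splitting polynomials over residue fields by large extensions of the fraction field
-/

set_option autoImplicit false
universe u

open TensorProduct nonZeroDivisors Polynomial

namespace K93.RedFib

open Groth.Agent

/-- A polynomial splits after a large extension. -/
theorem large_splits_poly {F : Type u} [Field F] (f : F[X]) :
    Large F (fun F₂ => (f.map (algebraMap F F₂)).Splits) := by
  refine ⟨f.SplittingField, inferInstance, inferInstance, inferInstance, fun F₂ _ _ _ _ _ => ?_⟩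
  have h1 := (SplittingField.splits f).map (algebraMap f.SplittingField F₂)
  rwa [Polynomial.map_map, ← IsScalarTower.algebraMap_eq] at h1

/-- A polynomial of positive degree has a root after a large extension. -/
theorem large_exists_root {F : Type u} [Field F] (f : F[X]) (hf : f.natDegree ≠ 0) :
    Large F (fun F₂ => ∃ x : F₂, aeval x f = 0) := by
  refine (large_splits_poly f).mono fun F₂ _ _ _ h => ?_
  have h1 : (f.map (algebraMap F F₂)).degree ≠ 0 := by
    rw [degree_map]
    intro h0
    exact hf (natDegree_eq_of_degree_eq_some h0)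
  obtain ⟨x, hx⟩ := h.exists_eval_eq_zero h1
  exact ⟨x, by rwa [← eval_map_algebraMap]⟩

section

variable {P k : Type u} [CommRing P] [Field k] [Algebra P k]

theorem exists_mul_sub_mem [Ring.DimensionLEOne P] (h : RingHom.ker (algebraMap P k) ≠ ⊥) {b : P}
    (hb : algebraMap P k b ≠ 0) : ∃ c : P, algebraMap P k (b * c) = 1 := by
  have hp : (RingHom.ker (algebraMap P k)).IsPrime := RingHom.ker_isPrime _
  have hm : (RingHom.ker (algebraMap P k)).IsMaximal := Ring.DimensionLEOne.maximalOfPrime h hp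
  obtain ⟨c, hc⟩ := hm.exists_inv (x := b) hb
  obtain ⟨i, hi, hci⟩ := hc
  refine ⟨c, ?_⟩
  have h1 : algebraMap P k i = 0 := hi
  rw [← map_one (algebraMap P k), ← hci, map_add, h1, add_zero, mul_comm]

theorem IsFrac.surjective [Ring.DimensionLEOne P] (hk : IsFrac P k) (h : RingHom.ker (algebraMap P k) ≠ ⊥) :
    Function.Surjective (algebraMap P k) := by
  intro z
  obtain ⟨a, b, hb, hab⟩ := hk z
  obtain ⟨c, hc⟩ := exists_mul_sub_mem h hb
  refine ⟨a * c, ?_⟩
  rw [map_mul, ← hab, mul_assoc, ← map_mul, hc, mul_one]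

theorem IsFrac.isFractionRing [IsDomain P] (hk : IsFrac P k) (h : RingHom.ker (algebraMap P k) = ⊥) :
    IsFractionRing P k := by
  have : FaithfulSMul P k := (faithfulSMul_iff_algebraMap_injective _ _).mpr
    ((RingHom.injective_iff_ker_eq_bot _).mpr h)
  refine IsFractionRing.of_field P k fun z => ?_
  obtain ⟨a, b, hb, hab⟩ := hk z
  exact ⟨a, b, by rw [← hab, mul_div_cancel_right₀ _ hb]⟩

end

/-- A monic polynomial over a residue field of `P` has a root in the residue fields of `P₂`. -/
theorem large_root {P F : Type u} [CommRing P] [IsDedekindDomain P] [Field F] [Algebra P F] [IsFractionRing P F]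
    (k : Type u) [Field k] [Algebra P k] (hk : IsFrac P k) (f : k[X]) (hf : f.Monic) (hd : f.natDegree ≠ 0) :
    Large F (fun F₂ => ∀ (P₂ : Type u) [CommRing P₂] [IsDomain P₂] [IsIntegrallyClosed P₂] [Algebra P P₂]
      [Algebra.IsIntegral P P₂] [Algebra P₂ F₂] [IsFractionRing P₂ F₂] [Algebra P F₂] [IsScalarTower P F F₂]
      [IsScalarTower P P₂ F₂] (κ : Type u) [Field κ] [Algebra P₂ κ] [Algebra P κ] [IsScalarTower P P₂ κ]
      [Algebra k κ] [IsScalarTower P k κ], ∃ x : κ, aeval x f = 0) := by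
  by_cases h : RingHom.ker (algebraMap P k) = ⊥
  · have hfr : IsFractionRing P k := hk.isFractionRing h
    let e : F ≃ₐ[P] k := IsLocalization.algEquiv P⁰ F k
    refine (large_exists_root (f.map e.symm.toRingHom) (by rw [natDegree_map]; exact hd)).mono
      fun F₂ _ _ _ h1 => ?_
    intro P₂ _ _ _ _ _ _ _ _ _ _ κ _ _ _ _ _ _
    obtain ⟨x, hx⟩ := h1
    have hinj : Function.Injective (algebraMap P₂ κ) := by
      rw [RingHom.injective_iff_ker_eq_bot]
      by_contra hne
      refine Ideal.IsIntegral.comap_ne_bot P hne ?_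
      rw [RingHom.comap_ker, ← IsScalarTower.algebraMap_eq, IsScalarTower.algebraMap_eq P k κ,
        ← RingHom.comap_ker, (RingHom.injective_iff_ker_eq_bot _).mp (algebraMap k κ).injective]
      exact h
    let j : F₂ →+* κ := IsFractionRing.lift hinj
    have hj : ∀ r, j (algebraMap P₂ F₂ r) = algebraMap P₂ κ r := fun r => IsFractionRing.lift_algebraMap hinj r
    refine ⟨j x, ?_⟩
    have h2 : (j.comp (algebraMap F F₂)).comp e.symm.toRingHom = algebraMap k κ := by
      apply IsLocalization.ringHom_ext P⁰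
      ext r
      change j (algebraMap F F₂ (e.symm (algebraMap P k r))) = algebraMap k κ (algebraMap P k r)
      rw [e.symm.commutes, ← IsScalarTower.algebraMap_apply P F F₂, IsScalarTower.algebraMap_apply P P₂ F₂, hj,
        ← IsScalarTower.algebraMap_apply, ← IsScalarTower.algebraMap_apply]
    rw [aeval_def, ← h2, RingHom.comp_assoc, ← Polynomial.hom_eval₂, ← Polynomial.eval₂_map]
    rw [aeval_def] at hx
    rw [hx, map_zero]
  · have hsurj := hk.surjective h
    obtain ⟨M, hM, hMd, hMm⟩ := lifts_and_natDegree_eq_and_monic (f := algebraMap P k) (p := f)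
      ((lifts_iff_coeff_lifts f).mpr fun n => hsurj _) hf
    refine (large_exists_root (M.map (algebraMap P F)) (by rw [hMm.natDegree_map, hMd]; exact hd)).mono
      fun F₂ _ _ _ h1 => ?_
    intro P₂ _ _ _ _ _ _ _ _ _ _ κ _ _ _ _ _ _
    obtain ⟨x, hx⟩ := h1
    rw [aeval_map_algebraMap] at hx
    have hx1 : IsIntegral P₂ x := by
      refine ⟨M.map (algebraMap P P₂), hMm.map _, ?_⟩
      rw [← aeval_def, aeval_map_algebraMap]
      exact hx
    obtain ⟨y, rfl⟩ := IsIntegrallyClosed.isIntegral_iff.mp hx1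
    rw [aeval_algebraMap_apply, FaithfulSMul.algebraMap_eq_zero_iff] at hx
    refine ⟨algebraMap P₂ κ y, ?_⟩
    rw [← hM, aeval_map_algebraMap, aeval_algebraMap_apply, hx, map_zero]

/-- All elements of `Ω` separable over `k` split in the residue fields of `P₂`. -/
theorem large_split_field {P F : Type u} [CommRing P] [IsDedekindDomain P] [Field F] [Algebra P F]
    [IsFractionRing P F] (k : Type u) [Field k] [Algebra P k] (hk : IsFrac P k) (Ω : Type u) [Field Ω] [Algebra k Ω]
    [Algebra.EssFiniteType k Ω] :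
    Large F (fun F₂ => ∀ (P₂ : Type u) [CommRing P₂] [IsDomain P₂] [IsIntegrallyClosed P₂] [Algebra P P₂]
      [Algebra.IsIntegral P P₂] [Algebra P₂ F₂] [IsFractionRing P₂ F₂] [Algebra P F₂] [IsScalarTower P F F₂]
      [IsScalarTower P P₂ F₂] (κ : Type u) [Field κ] [Algebra P₂ κ] [Algebra P κ] [IsScalarTower P P₂ κ]
      [Algebra k κ] [IsScalarTower P k κ], ∀ y : Ω, IsSeparable k y →
        ((minpoly k y).map (algebraMap k κ)).Splits) := by
  have hfd := Flat2E.FinSepClosure.finiteDimensional_separableClosure (k := k) (F := Ω)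
  obtain ⟨L, hL1, hL2, hL3⟩ := Flat2E.SplitIntegral.exists_finite_separable_splits k (ι := Unit) (fun _ => Ω)
  let pb := Field.powerBasisOfFiniteOfSeparable k L
  refine (large_root (F := F) k hk (minpoly k pb.gen) (minpoly.monic pb.isIntegral_gen)
    (minpoly.natDegree_pos pb.isIntegral_gen).ne').mono fun F₂ _ _ _ h => ?_
  intro P₂ _ _ _ _ _ _ _ _ _ _ κ _ _ _ _ _ _ y hy
  obtain ⟨x, hx⟩ := h P₂ κ
  let j : L →ₐ[k] κ := pb.lift x hx
  have h1 := (hL3 () y hy).map j.toRingHom
  rw [Polynomial.map_map] at h1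
  have h2 : j.toRingHom.comp (algebraMap k L) = algebraMap k κ := j.comp_algebraMap
  rwa [h2] at h1

theorem isFrac_residueField {A : Type u} [CommRing A] (I : Ideal A) [I.IsPrime] : IsFrac A I.ResidueField := by
  intro z
  obtain ⟨a, b, hb, rfl⟩ := IsFractionRing.div_surjective (A := A ⧸ I) z
  obtain ⟨a, rfl⟩ := Ideal.Quotient.mk_surjective a
  obtain ⟨b, rfl⟩ := Ideal.Quotient.mk_surjective b
  have h1 : algebraMap (A ⧸ I) I.ResidueField (Ideal.Quotient.mk I b) ≠ 0 :=
    IsFractionRing.to_map_ne_zero_of_mem_nonZeroDivisors hb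
  exact ⟨a, b, h1, div_mul_cancel₀ _ h1⟩

/-- Tensor products over a ring and over one of its residue fields. -/
theorem compatibleSMul {P k M N : Type u} [CommRing P] [Field k] [Algebra P k] [AddCommGroup M] [AddCommGroup N]
    [Module P M] [Module P N] [Module k M] [Module k N] [IsScalarTower P k M] [IsScalarTower P k N]
    (hk : IsFrac P k) : CompatibleSMul P k M N where
  smul_tmul := by
    intro z m n
    obtain ⟨a, b, hb, hab⟩ := hk z
    have h1 : z = algebraMap P k a * (algebraMap P k b)⁻¹ := by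
      rw [← hab, mul_assoc, mul_inv_cancel₀ hb, mul_one]
    let w := (algebraMap P k b)⁻¹
    have h2 : ∀ x : N, x = b • (w • x) := fun x => by
      rw [← algebraMap_smul k b (w • x), smul_smul, mul_inv_cancel₀ hb, one_smul]
    have h3 : z • m = a • (w • m) := by rw [h1, mul_smul, algebraMap_smul]
    have h4 : b • (w • m) = m := by
      rw [← algebraMap_smul k b (w • m), smul_smul, mul_inv_cancel₀ hb, one_smul]
    have h5 : z • n = w • (a • n) := by
      rw [h1, mul_comm, mul_smul, algebraMap_smul]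
    rw [h3, h5, TensorProduct.smul_tmul]
    calc (w • m) ⊗ₜ[P] (a • n) = (w • m) ⊗ₜ[P] (b • (w • (a • n))) := by rw [← h2]
      _ = (b • (w • m)) ⊗ₜ[P] (w • (a • n)) := (TensorProduct.smul_tmul _ _ _).symm
      _ = m ⊗ₜ[P] (w • (a • n)) := by rw [h4]

section main

variable {P F : Type u} [CommRing P] [IsDedekindDomain P] [Field F] [Algebra P F] [IsFractionRing P F]

/-- Incomparability for an integral extension. -/
theorem eq_of_le_of_under_eq {P P₂ : Type u} [CommRing P] [CommRing P₂] [Algebra P P₂] [Algebra.IsIntegral P P₂]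
    {I J : Ideal P₂} [I.IsPrime] (hle : I ≤ J) (h : I.comap (algebraMap P P₂) = J.comap (algebraMap P P₂)) :
    I = J := by
  by_contra hne
  exact absurd h (Ideal.IsIntegral.comap_lt_comap (R := P) (lt_of_le_of_ne hle hne)).ne

omit [IsDedekindDomain P] in
theorem finite_primeSpectrum [Ring.DimensionLEOne P] [Finite (MaximalSpectrum P)] : Finite (PrimeSpectrum P) := by
  let f : Option (MaximalSpectrum P) → Ideal P := fun m => m.elim ⊥ MaximalSpectrum.asIdeal
  have h1 : (Set.range f).Finite := Set.finite_range f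
  have h2 : Finite (Set.range f) := h1
  refine Finite.of_injective (β := Set.range f) (fun s => ⟨s.asIdeal, ?_⟩) fun s t h => ?_
  · by_cases h : s.asIdeal = ⊥
    · exact ⟨none, h.symm⟩
    · exact ⟨some ⟨s.asIdeal, Ring.DimensionLEOne.maximalOfPrime h s.isPrime⟩, rfl⟩
  · exact PrimeSpectrum.ext (congrArg Subtype.val h)

/-- Primes which are maximal points of their fibre. -/
def MaxPt (P A : Type u) [CommRing P] [CommRing A] [Algebra P A] (Q : Ideal A) : Prop :=
  ∀ 𝔮 : Ideal A, 𝔮.IsPrime → 𝔮 ≤ Q → (∀ r : P, algebraMap P A r ∈ Q → algebraMap P A r ∈ 𝔮) → Q ≤ 𝔮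

theorem finite_maxPt (P A : Type u) [CommRing P] [CommRing A] [Algebra P A] [Finite (PrimeSpectrum P)]
    [IsNoetherianRing A] : {Q : Ideal A | Q.IsPrime ∧ MaxPt P A Q}.Finite := by
  refine (Set.finite_iUnion (fun s : PrimeSpectrum P =>
    Ideal.finite_minimalPrimes_of_isNoetherianRing A (s.asIdeal.map (algebraMap P A)))).subset ?_
  rintro Q ⟨hQ, hmax⟩
  exact Set.mem_iUnion.mpr ⟨⟨Q.comap (algebraMap P A), inferInstance⟩, ⟨⟨hQ, Ideal.map_comap_le⟩,
    fun 𝔮 h𝔮 hle => hmax 𝔮 h𝔮.1 hle fun r hr => h𝔮.2 (Ideal.mem_map_of_mem _ hr)⟩⟩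

/-- Maximal points of the fibres go to maximal points under flat integral base change. -/
theorem MaxPt.comap {P P₂ A A₂ : Type u} [CommRing P] [CommRing P₂] [CommRing A] [CommRing A₂] [Algebra P P₂]
    [Algebra P A] [Algebra P₂ A₂] [Algebra A A₂] [Algebra P A₂] [IsScalarTower P P₂ A₂] [IsScalarTower P A A₂]
    [Algebra.IsPushout P A P₂ A₂] [Algebra.IsIntegral P P₂] [Module.Flat P P₂] {Q₂ : Ideal A₂} [hQ₂ : Q₂.IsPrime]
    (h : MaxPt P₂ A₂ Q₂) : MaxPt P A (Q₂.comap (algebraMap A A₂)) := by
  intro 𝔮 h𝔮 hle hr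
  have hfl : Module.Flat A A₂ := Module.Flat.isBaseChange P A P₂ A₂ (Algebra.IsPushout.out (self := ‹_›))
  obtain ⟨𝔮₂, h1, h2, h3⟩ := Ideal.exists_ideal_le_liesOver_of_le (p := 𝔮) (q := Q₂.comap (algebraMap A A₂)) Q₂ hle
  have h4 : 𝔮₂.comap (algebraMap P₂ A₂) = Q₂.comap (algebraMap P₂ A₂) := by
    refine eq_of_le_of_under_eq (P := P) (Ideal.comap_mono h1) ?_
    rw [Ideal.comap_comap, Ideal.comap_comap, ← IsScalarTower.algebraMap_eq, IsScalarTower.algebraMap_eq P A A₂,
      ← Ideal.comap_comap, ← Ideal.comap_comap]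
    apply le_antisymm
    · exact Ideal.comap_mono (Ideal.comap_mono h1)
    · intro r hr'
      have h5 := hr r hr'
      rw [h3.over] at h5
      exact h5
  have h5 := h 𝔮₂ h2 h1 fun r hr' => by
    have : r ∈ 𝔮₂.comap (algebraMap P₂ A₂) := by rw [h4]; exact hr'
    exact this
  intro x hx
  rw [h3.over]
  exact h5 hx

/-- The algebra structure on the residue field at `Q` over the residue field at its image. -/
noncomputable def resAlg (P A : Type u) [CommRing P] [CommRing A] [Algebra P A] (Q : Ideal A) [Q.IsPrime] :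
    Algebra (Q.comap (algebraMap P A)).ResidueField Q.ResidueField :=
  (Ideal.ResidueField.map (Q.comap (algebraMap P A)) Q (algebraMap P A) rfl).toAlgebra

theorem resAlg_tower (P A : Type u) [CommRing P] [CommRing A] [Algebra P A] (Q : Ideal A) [Q.IsPrime] :
    @IsScalarTower P (Q.comap (algebraMap P A)).ResidueField Q.ResidueField _ (resAlg P A Q).toSMul _ := by
  let _ := resAlg P A Q
  refine IsScalarTower.of_algebraMap_eq fun x => ?_
  change _ = Ideal.ResidueField.map _ Q (algebraMap P A) rfl (algebraMap P _ x)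
  rw [Ideal.ResidueField.map_algebraMap]
  rfl

/-- After a large extension, the residue fields at the maximal points of the fibres are geometrically integral. -/
theorem large_domain [Finite (MaximalSpectrum P)] (A : Type u) [CommRing A] [Algebra P A] [Algebra.FiniteType P A]
    (hA : GeomRed P A) :
    Large F (fun F₂ => ∀ (P₂ : Type u) [CommRing P₂] [IsDomain P₂] [IsIntegrallyClosed P₂] [Algebra P P₂]
      [Algebra.IsIntegral P P₂] [Algebra P₂ F₂] [IsFractionRing P₂ F₂] [Algebra P F₂] [IsScalarTower P F F₂]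
      [IsScalarTower P P₂ F₂] (A₂ : Type u) [CommRing A₂] [Algebra A A₂] [Algebra P₂ A₂] [Algebra P A₂]
      [IsScalarTower P P₂ A₂] [IsScalarTower P A A₂] [Algebra.IsPushout P A P₂ A₂] (Ω' : Type u) [Field Ω']
      [Algebra A₂ Ω'] [Algebra P₂ Ω'] [IsScalarTower P₂ A₂ Ω'] (_ : IsFrac A₂ Ω')
      (_ : MaxPt P₂ A₂ (RingHom.ker (algebraMap A₂ Ω'))) (κ : Type u) [Field κ] [Algebra P₂ κ]
      (_ : RingHom.ker (algebraMap P₂ κ) = RingHom.ker (algebraMap P₂ Ω')), IsDomain (Ω' ⊗[P₂] κ)) := by
  have hN : IsNoetherianRing A := Algebra.FiniteType.isNoetherianRing P A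
  have hfs : Finite (PrimeSpectrum P) := finite_primeSpectrum
  let T := {Q : Ideal A // Q.IsPrime ∧ MaxPt P A Q}
  have hT : Finite T := (finite_maxPt P A).to_subtype
  have hQp : ∀ Q : T, Q.1.IsPrime := fun Q => Q.2.1
  have hres : ∀ Q : T, let _ := resAlg P A Q.1
      (∀ (K : Type u) [Field K] [Algebra (Q.1.comap (algebraMap P A)).ResidueField K],
        IsReduced (K ⊗[(Q.1.comap (algebraMap P A)).ResidueField] Q.1.ResidueField)) ∧
      Algebra.EssFiniteType (Q.1.comap (algebraMap P A)).ResidueField Q.1.ResidueField := by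
    intro Q _
    have t := resAlg_tower P A Q.1
    have h1 := geomRed_residue (P := P) (A := A) (k := (Q.1.comap (algebraMap P A)).ResidueField)
      (Ω := Q.1.ResidueField) hA (isFrac_residueField _) (isFrac_residueField _) (fun 𝔮 h𝔮 hle hr => by
        rw [Ideal.ker_algebraMap_residueField] at hle ⊢
        exact Q.2.2 𝔮 h𝔮 hle fun r hr' => hr r (Ideal.algebraMap_residueField_eq_zero.mpr hr'))
    exact ⟨h1.1, h1.2 inferInstance⟩
  have h1 : ∀ Q : T, Large F (fun F₂ _ _ => let _ := resAlg P A Q.1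
      ∀ (P₂ : Type u) [CommRing P₂] [IsDomain P₂] [IsIntegrallyClosed P₂] [Algebra P P₂]
      [Algebra.IsIntegral P P₂] [Algebra P₂ F₂] [IsFractionRing P₂ F₂] [Algebra P F₂] [IsScalarTower P F F₂]
      [IsScalarTower P P₂ F₂] (κ : Type u) [Field κ] [Algebra P₂ κ] [Algebra P κ] [IsScalarTower P P₂ κ]
      [Algebra (Q.1.comap (algebraMap P A)).ResidueField κ]
      [IsScalarTower P (Q.1.comap (algebraMap P A)).ResidueField κ], ∀ y : Q.1.ResidueField,
        IsSeparable (Q.1.comap (algebraMap P A)).ResidueField y →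
        ((minpoly (Q.1.comap (algebraMap P A)).ResidueField y).map
          (algebraMap (Q.1.comap (algebraMap P A)).ResidueField κ)).Splits) := by
    intro Q
    let _ := resAlg P A Q.1
    have := (hres Q).2
    exact large_split_field (F := F) _ (isFrac_residueField _) Q.1.ResidueField
  refine (Large.forall_finite _ h1).mono fun F₂ _ _ _ h2 => ?_
  intro P₂ _ _ _ _ _ _ _ _ _ _ A₂ _ _ _ _ _ _ _ Ω' _ _ _ _ hfr hmax κ _ _ hκ
  have hinjPF₂ : Function.Injective (algebraMap P F₂) := by
    rw [IsScalarTower.algebraMap_eq P F F₂, RingHom.coe_comp]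
    exact (algebraMap F F₂).injective.comp (IsFractionRing.injective P F)
  have hinj : Function.Injective (algebraMap P P₂) := by
    rw [IsScalarTower.algebraMap_eq P P₂ F₂, RingHom.coe_comp] at hinjPF₂
    exact Function.Injective.of_comp hinjPF₂
  have hfl : Module.Flat P P₂ := flat_of_injective hinj
  let Q₂ := RingHom.ker (algebraMap A₂ Ω')
  have hQ₂ : Q₂.IsPrime := RingHom.ker_isPrime _
  let Q := Q₂.comap (algebraMap A A₂)
  have hQ : Q.IsPrime := inferInstance
  have hQm : MaxPt P A Q := hmax.comap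
  let s₂ := RingHom.ker (algebraMap P₂ Ω')
  have hs₂ : s₂.IsPrime := RingHom.ker_isPrime _
  have hs₂' : s₂ = Q₂.comap (algebraMap P₂ A₂) := by
    rw [RingHom.comap_ker, ← IsScalarTower.algebraMap_eq]
  let s := Q.comap (algebraMap P A)
  have hs : s.IsPrime := inferInstance
  have hss : s = s₂.comap (algebraMap P P₂) := by
    change (Q₂.comap (algebraMap A A₂)).comap (algebraMap P A) = _
    rw [hs₂', Ideal.comap_comap, Ideal.comap_comap, ← IsScalarTower.algebraMap_eq, ← IsScalarTower.algebraMap_eq]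
  let k := s.ResidueField
  let k' := s₂.ResidueField
  let Ω := Q.ResidueField
  let i1 : Algebra k Ω := resAlg P A Q
  have t1 : IsScalarTower P k Ω := resAlg_tower P A Q
  let i2 : Algebra k k' := (Ideal.ResidueField.map s s₂ (algebraMap P P₂) hss).toAlgebra
  have t2 : IsScalarTower P k k' := IsScalarTower.of_algebraMap_eq fun x => by
    change _ = Ideal.ResidueField.map s s₂ (algebraMap P P₂) hss (algebraMap P _ x)
    rw [Ideal.ResidueField.map_algebraMap]
    rfl
  let i3 : Algebra A Ω' := ((algebraMap A₂ Ω').comp (algebraMap A A₂)).toAlgebra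
  have t3 : IsScalarTower A A₂ Ω' := IsScalarTower.of_algebraMap_eq' rfl
  let i4 : Algebra Ω Ω' := (Ideal.ResidueField.lift Q (algebraMap A Ω') (fun x hx => hx)
    (fun x hx => Ne.isUnit hx)).toAlgebra
  have t4 : IsScalarTower A Ω Ω' := IsScalarTower.of_algebraMap_eq fun x =>
    (Ideal.ResidueField.lift_algebraMap Q _ _ _ x).symm
  let i5 : Algebra k' Ω' := (Ideal.ResidueField.lift s₂ (algebraMap P₂ Ω') (fun x hx => hx)
    (fun x hx => Ne.isUnit hx)).toAlgebra
  have t5 : IsScalarTower P₂ k' Ω' := IsScalarTower.of_algebraMap_eq fun x =>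
    (Ideal.ResidueField.lift_algebraMap s₂ _ _ _ x).symm
  let i6 : Algebra k Ω' := ((algebraMap k' Ω').comp (algebraMap k k')).toAlgebra
  have t6 : IsScalarTower k k' Ω' := IsScalarTower.of_algebraMap_eq' rfl
  have t7 : IsScalarTower k Ω Ω' := by
    apply IsScalarTower.of_algebraMap_eq'
    apply Ideal.ResidueField.ringHom_ext
    ext x
    change algebraMap k' Ω' (algebraMap k k' (algebraMap P k x)) = algebraMap Ω Ω' (algebraMap k Ω (algebraMap P k x))
    rw [← IsScalarTower.algebraMap_apply P k k', ← IsScalarTower.algebraMap_apply P k Ω,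
      IsScalarTower.algebraMap_apply P P₂ k', ← IsScalarTower.algebraMap_apply P₂ k' Ω',
      IsScalarTower.algebraMap_apply P A Ω, ← IsScalarTower.algebraMap_apply A Ω Ω',
      IsScalarTower.algebraMap_apply P₂ A₂ Ω', IsScalarTower.algebraMap_apply A A₂ Ω',
      ← IsScalarTower.algebraMap_apply P P₂ A₂, ← IsScalarTower.algebraMap_apply P A A₂]
  let i8 : Algebra k' κ := (Ideal.ResidueField.lift s₂ (algebraMap P₂ κ) (fun x hx => by rw [hκ]; exact hx)
    (fun x hx => Ne.isUnit fun h0 => hx (by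
      have : x ∈ RingHom.ker (algebraMap P₂ κ) := h0
      rwa [hκ] at this))).toAlgebra
  have t8 : IsScalarTower P₂ k' κ := IsScalarTower.of_algebraMap_eq fun x =>
    (Ideal.ResidueField.lift_algebraMap s₂ _ _ _ x).symm
  have h3 := h2 ⟨Q, hQ, hQm⟩ P₂ k'
  have h4 : IsDomain (Ω' ⊗[k'] κ) := isDomain_of_split (P := P) (P₂ := P₂) (A := A) (A₂ := A₂) (k := k) (k' := k')
    (Ω := Ω) (Ω' := Ω') (isFrac_residueField _) (isFrac_residueField _) hfr (fun 𝔮 h𝔮 hle hr =>
      hmax 𝔮 h𝔮 hle fun r hr' => hr r (Ideal.algebraMap_residueField_eq_zero.mpr (by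
        change algebraMap P₂ Ω' r = 0
        rw [IsScalarTower.algebraMap_apply P₂ A₂ Ω']
        exact hr'))) (hres ⟨Q, hQ, hQm⟩).1 h3 κ
  have h5 : CompatibleSMul P₂ k' Ω' κ := compatibleSMul (isFrac_residueField _)
  exact (Algebra.TensorProduct.equivOfCompatibleSMul P₂ k' P₂ Ω' κ).symm.toMulEquiv.isDomain _

end main

end K93.RedFib
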