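import Groth.Agent.AlgSp.K93.RFCore
import Groth.Agent.AlgSp.K93.RFRed
import Groth.Agent.CalgC.DimFT
import Mathlib.RingTheory.IntegralClosure.GoingDown
import Mathlib.RingTheory.Ideal.MinimalPrime.Localization
import Mathlib.RingTheory.DiscreteValuationRing.TFAE
import Mathlib.RingTheory.DedekindDomain.Dvr
import Mathlib.RingTheory.Flat.TorsionFree

/-!
# Special fibres after a solution
-/

set_option autoImplicit false
universe u

open IsLocalRing EtRam

namespace K93.RedFib

/-- Going down for an integral algebra over a normal domain in which nonzero elements are regular. -/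
theorem hasGoingDown {A N : Type u} [CommRing A] [IsDomain A] [IsIntegrallyClosed A] [CommRing N]
    [Algebra A N] [Algebra.IsIntegral A N]
    (hreg : ∀ a : A, a ≠ 0 → algebraMap A N a ∈ nonZeroDivisors N) : Algebra.HasGoingDown A N := by
  constructor
  intro p hp Q hQ hlt
  obtain ⟨n, hn, hnQ⟩ := Ideal.exists_minimalPrimes_le (bot_le : (⊥ : Ideal N) ≤ Q)
  have hnp : n.IsPrime := hn.1.1
  have hinj : Function.Injective (algebraMap A (N ⧸ n)) := by
    rw [injective_iff_map_eq_zero]
    intro a ha
    by_contra ha0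
    have h1 : algebraMap A N a ∈ n := Ideal.Quotient.eq_zero_iff_mem.mp ha
    exact Set.disjoint_left.mp (Ideal.disjoint_nonZeroDivisors_of_mem_minimalPrimes hn) h1 (hreg a ha0)
  have : FaithfulSMul A (N ⧸ n) := (faithfulSMul_iff_algebraMap_injective _ _).mpr hinj
  have hint : Algebra.IsIntegral A (N ⧸ n) :=
    Algebra.IsIntegral.of_surjective (Ideal.Quotient.mkₐ A n) Ideal.Quotient.mk_surjective
  let Q' : Ideal (N ⧸ n) := Q.map (Ideal.Quotient.mk n)
  have hker : RingHom.ker (Ideal.Quotient.mk n) ≤ Q := by rw [Ideal.mk_ker]; exact hnQ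
  have hQ' : Q'.IsPrime := Ideal.map_isPrime_of_surjective Ideal.Quotient.mk_surjective hker
  have hQ'c : Q'.comap (Ideal.Quotient.mk n) = Q := by
    rw [Ideal.comap_map_of_surjective' _ Ideal.Quotient.mk_surjective, sup_eq_left.mpr hker]
  have hund : Q'.under A = Q.under A := by
    change Q'.comap (algebraMap A (N ⧸ n)) = _
    rw [IsScalarTower.algebraMap_eq A N (N ⧸ n), ← Ideal.comap_comap]
    exact congrArg (Ideal.comap (algebraMap A N)) hQ'c
  obtain ⟨P, hPQ, hP, hPl⟩ := Algebra.HasGoingDown.exists_ideal_le_liesOver_of_lt (p := p) Q'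
    (by rw [hund]; exact hlt)
  refine ⟨P.comap (Ideal.Quotient.mk n), (Ideal.comap_mono hPQ).trans hQ'c.le, hP.comap _, ⟨?_⟩⟩
  rw [hPl.over]
  change P.comap (algebraMap A (N ⧸ n)) = _
  rw [IsScalarTower.algebraMap_eq A N (N ⧸ n), ← Ideal.comap_comap]
  rfl

/-- `K₁` is a solution at the prime `p` of `A`. -/
def SolAt (A K L K₁ : Type u) [CommRing A] [Field K] [Field L] [Field K₁] [Algebra A L] [Algebra K L]
    [Algebra K K₁] (p : Ideal A) [p.IsPrime] : Prop :=
  ∃ (B : Type u) (_ : CommRing B) (_ : IsLocalRing B) (_ : Algebra A B) (_ : IsLocalization.AtPrime B p)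
    (_ : Algebra B L) (_ : IsScalarTower A B L), IsSolution B K L K₁

section

variable {R K A L K₁ R₁ N : Type u} [CommRing R] [IsDomain R] [Field K] [Algebra R K] [IsFractionRing R K]
  [CommRing A] [IsDomain A] [IsIntegrallyClosed A] [Algebra R A]
  [Field L] [Algebra A L] [IsFractionRing A L] [Algebra K L] [Algebra R L] [IsScalarTower R A L]
  [IsScalarTower R K L]
  [Field K₁] [Algebra K K₁] [FiniteDimensional K K₁]
  [CommRing R₁] [IsDomain R₁] [Algebra R R₁] [Algebra.IsIntegral R R₁] [Algebra R₁ K₁] [IsFractionRing R₁ K₁]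
  [Algebra R K₁] [IsScalarTower R K K₁] [IsScalarTower R R₁ K₁]
  [CommRing N] [Algebra A N] [Algebra R₁ N] [Algebra R N] [IsScalarTower R A N] [IsScalarTower R R₁ N]
  [Algebra.IsIntegral A N] [Module.Flat R₁ N]

include K L K₁ in
theorem solved (hreg : ∀ a : A, a ≠ 0 → algebraMap A N a ∈ nonZeroDivisors N)
    (hgen : ∀ n : N, ∃ r : R₁, r ≠ 0 ∧
      algebraMap R₁ N r * n ∈ Algebra.adjoin A (Set.range (algebraMap R₁ N)))
    (hsol : ∀ (p : Ideal A) [p.IsPrime], p.height = 1 → p.comap (algebraMap R A) ≠ ⊥ → SolAt A K L K₁ p)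
    (q : Ideal N) [q.IsPrime] (m₁ : Ideal R₁) (hq : q.comap (algebraMap R₁ N) = m₁) (hm₁ : m₁ ≠ ⊥)
    [m₁.IsPrime] (V₁ W' : Type u) [CommRing V₁] [IsDomain V₁] [IsDiscreteValuationRing V₁] [Algebra R₁ V₁]
    [IsLocalization.AtPrime V₁ m₁] [CommRing W'] [IsDomain W'] [IsDiscreteValuationRing W'] [Algebra N W']
    [IsLocalization.AtPrime W' q] (φ : V₁ →+* W')
    (hφ : ∀ x, φ (algebraMap R₁ V₁ x) = algebraMap N W' (algebraMap R₁ N x)) :
    ∃ _ : IsLocalHom φ, (maximalIdeal V₁).map φ = maximalIdeal W' ∧
      @Algebra.IsGeometricallyReduced (ResidueField V₁) (ResidueField W') _ _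
        (ResidueField.map φ).toAlgebra := by
  classical
  let M := FractionRing W'
  -- injectivity of the maps to `M`
  have hregN : ∀ n : N, n ∈ nonZeroDivisors N → algebraMap W' M (algebraMap N W' n) ≠ 0 := by
    intro n hn h0
    have h1 : algebraMap N W' n = 0 := (FaithfulSMul.algebraMap_eq_zero_iff W' M).mp h0
    obtain ⟨s, hs⟩ := (IsLocalization.map_eq_zero_iff q.primeCompl W' n).mp h1
    have : (s : N) = 0 := (mem_nonZeroDivisors_iff_right.mp hn) _ hs
    exact s.2 (this ▸ zero_mem q)
  have hregR : ∀ r : R₁, r ≠ 0 → algebraMap R₁ N r ∈ nonZeroDivisors N := by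
    intro r hr
    have h1 : IsSMulRegular N r :=
      Module.Flat.isSMulRegular_of_nonZeroDivisors (mem_nonZeroDivisors_of_ne_zero hr)
    refine mem_nonZeroDivisors_iff_right.mpr fun x hx => h1 ?_
    change r • x = r • (0 : N)
    rw [smul_zero, Algebra.smul_def, mul_comm]
    exact hx
  let iA : A →+* M := (algebraMap W' M).comp ((algebraMap N W').comp (algebraMap A N))
  have hiA : Function.Injective iA := by
    rw [injective_iff_map_eq_zero]
    intro a ha
    by_contra ha0
    exact hregN _ (hreg a ha0) ha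
  let iR : R₁ →+* M := (algebraMap W' M).comp ((algebraMap N W').comp (algebraMap R₁ N))
  have hiR : Function.Injective iR := by
    rw [injective_iff_map_eq_zero]
    intro a ha
    by_contra ha0
    exact hregN _ (hregR a ha0) ha
  let iLM : Algebra L M := (IsFractionRing.lift hiA).toAlgebra
  let iK₁M : Algebra K₁ M := (IsFractionRing.lift hiR).toAlgebra
  have hLM : ∀ a, algebraMap L M (algebraMap A L a) = iA a := fun a => IsFractionRing.lift_algebraMap hiA a
  have hKM : ∀ a, algebraMap K₁ M (algebraMap R₁ K₁ a) = iR a := fun a => IsFractionRing.lift_algebraMap hiR a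
  let iKM : Algebra K M := ((algebraMap L M).comp (algebraMap K L)).toAlgebra
  have t1 : IsScalarTower K L M := IsScalarTower.of_algebraMap_eq' rfl
  have t2 : IsScalarTower K K₁ M := by
    apply IsScalarTower.of_algebraMap_eq'
    apply IsLocalization.ringHom_ext (nonZeroDivisors R)
    ext r
    change algebraMap L M (algebraMap K L (algebraMap R K r)) = algebraMap K₁ M (algebraMap K K₁ (algebraMap R K r))
    rw [← IsScalarTower.algebraMap_apply R K L, ← IsScalarTower.algebraMap_apply R K K₁,
      IsScalarTower.algebraMap_apply R A L, IsScalarTower.algebraMap_apply R R₁ K₁, hLM, hKM]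
    change algebraMap W' M (algebraMap N W' (algebraMap A N (algebraMap R A r))) =
      algebraMap W' M (algebraMap N W' (algebraMap R₁ N (algebraMap R R₁ r)))
    rw [← IsScalarTower.algebraMap_apply R A N, ← IsScalarTower.algebraMap_apply R R₁ N]
  -- the prime of `A`
  have hgd : Algebra.HasGoingDown A N := hasGoingDown hreg
  let p : Ideal A := q.under A
  have hp : p.height = 1 := by
    have h1 : p.height = q.height := Groth.Agent.CalgC.DimFT.height_under_eq q
    have h2 : ringKrullDim W' = q.height := IsLocalization.AtPrime.ringKrullDim_eq_height q W'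
    rw [IsDiscreteValuationRing.ringKrullDim_eq_one] at h2
    rw [h1]
    exact_mod_cast h2.symm
  have hp0 : p.comap (algebraMap R A) ≠ ⊥ := by
    have h1 : p.comap (algebraMap R A) = m₁.comap (algebraMap R R₁) := by
      change (q.comap (algebraMap A N)).comap (algebraMap R A) = _
      rw [Ideal.comap_comap, ← IsScalarTower.algebraMap_eq R A N, ← hq, Ideal.comap_comap,
        ← IsScalarTower.algebraMap_eq R R₁ N]
    rw [h1]
    exact Ideal.IsIntegral.comap_ne_bot R hm₁
  obtain ⟨B, _, _, _, _, _, _, hB⟩ := hsol p hp hp0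
  -- `M` is generated by `L` and `K₁`
  have hadj : Algebra.adjoin L (Set.range (algebraMap K₁ M)) = ⊤ := by
    have halg : ∀ x ∈ Set.range (algebraMap K₁ M), IsAlgebraic L x := by
      rintro _ ⟨x, rfl⟩
      have h1 : IsAlgebraic K x := Algebra.IsAlgebraic.isAlgebraic x
      exact (h1.algebraMap (A := M)).tower_top L
    have h2 := IntermediateField.adjoin_toSubalgebra_of_isAlgebraic halg
    let S : IntermediateField L M := IntermediateField.adjoin L (Set.range (algebraMap K₁ M))
    have hiAS : ∀ a, iA a ∈ S := fun a => by rw [← hLM]; exact S.algebraMap_mem _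
    have hiRS : ∀ r, iR r ∈ S := fun r => by
      rw [← hKM]; exact IntermediateField.subset_adjoin _ _ ⟨_, rfl⟩
    have hN : ∀ n : N, algebraMap W' M (algebraMap N W' n) ∈ S := by
      intro n
      obtain ⟨r, hr, hn⟩ := hgen n
      have h3 : ∀ y ∈ Algebra.adjoin A (Set.range (algebraMap R₁ N)),
          algebraMap W' M (algebraMap N W' y) ∈ S := by
        intro y hy
        induction hy using Algebra.adjoin_induction with
        | mem y hy => obtain ⟨r, rfl⟩ := hy; exact hiRS r
        | algebraMap a => exact hiAS a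
        | add x y _ _ hx hy => rw [map_add, map_add]; exact add_mem hx hy
        | mul x y _ _ hx hy => rw [map_mul, map_mul]; exact mul_mem hx hy
      have h4 := h3 _ hn
      rw [map_mul, map_mul] at h4
      have h5 : iR r ≠ 0 := fun h => hr (hiR (h.trans (map_zero iR).symm))
      have h6 : algebraMap W' M (algebraMap N W' n) = (iR r)⁻¹ *
          (algebraMap W' M (algebraMap N W' (algebraMap R₁ N r)) * algebraMap W' M (algebraMap N W' n)) := by
        change _ = (iR r)⁻¹ * (iR r * _)
        rw [← mul_assoc, inv_mul_cancel₀ h5, one_mul]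
      rw [h6]
      exact mul_mem (S.inv_mem (hiRS r)) h4
    have hW : ∀ w : W', algebraMap W' M w ∈ S := by
      intro w
      obtain ⟨n, s, rfl⟩ := IsLocalization.exists_mk'_eq q.primeCompl w
      have h3 : algebraMap W' M (algebraMap N W' s) * algebraMap W' M (IsLocalization.mk' W' n s) =
          algebraMap W' M (algebraMap N W' n) := by
        rw [← map_mul, IsLocalization.mk'_spec']
      have h4 : algebraMap W' M (algebraMap N W' s) ≠ 0 := by
        intro h
        have := (IsLocalization.map_units W' s)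
        rw [(FaithfulSMul.algebraMap_eq_zero_iff W' M).mp h] at this
        exact not_isUnit_zero this
      have h5 : algebraMap W' M (IsLocalization.mk' W' n s) =
          (algebraMap W' M (algebraMap N W' s))⁻¹ * algebraMap W' M (algebraMap N W' n) := by
        rw [← h3, ← mul_assoc, inv_mul_cancel₀ h4, one_mul]
      rw [h5]
      exact mul_mem (S.inv_mem (hN _)) (hN _)
    have hM : S = ⊤ := by
      rw [eq_top_iff]
      intro x _
      obtain ⟨a, b, -, rfl⟩ := IsFractionRing.div_surjective (A := W') x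
      exact div_mem (hW a) (hW b)
    rw [← h2]
    change S.toSubalgebra = ⊤
    rw [hM]
    rfl
  -- the local maps
  have hφloc : IsLocalHom φ := by
    constructor
    intro v hv
    obtain ⟨x, s, rfl⟩ := IsLocalization.exists_mk'_eq m₁.primeCompl v
    have h1 : φ (algebraMap R₁ V₁ s) * φ (IsLocalization.mk' V₁ x s) = φ (algebraMap R₁ V₁ x) := by
      rw [← map_mul, IsLocalization.mk'_spec']
    have h2 : IsUnit (φ (algebraMap R₁ V₁ x)) := by
      rw [← h1]; exact ((IsLocalization.map_units V₁ s).map φ).mul hv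
    rw [hφ, IsLocalization.AtPrime.isUnit_to_map_iff W' q] at h2
    have h3 : x ∈ m₁.primeCompl := fun h => h2 (by rw [← hq] at h; exact h)
    exact (IsLocalization.AtPrime.isUnit_mk'_iff V₁ m₁ x s).mpr h3
  have hqp : p.primeCompl ≤ q.primeCompl.comap (algebraMap A N) := fun a ha h => ha h
  let ψ : B →+* W' := IsLocalization.map W' (algebraMap A N) hqp
  have hψA : ∀ a, ψ (algebraMap A B a) = algebraMap N W' (algebraMap A N a) := fun a =>
    IsLocalization.map_eq hqp a
  have hψloc : IsLocalHom ψ := by
    constructor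
    intro v hv
    obtain ⟨x, s, rfl⟩ := IsLocalization.exists_mk'_eq p.primeCompl v
    have h1 : ψ (algebraMap A B s) * ψ (IsLocalization.mk' B x s) = ψ (algebraMap A B x) := by
      rw [← map_mul, IsLocalization.mk'_spec']
    have h2 : IsUnit (ψ (algebraMap A B x)) := by
      rw [← h1]; exact ((IsLocalization.map_units B s).map ψ).mul hv
    rw [hψA, IsLocalization.AtPrime.isUnit_to_map_iff W' q] at h2
    exact (IsLocalization.AtPrime.isUnit_mk'_iff B p x s).mpr h2
  have hu : ∀ y : m₁.primeCompl, IsUnit (algebraMap R₁ K₁ y) := fun y => by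
    have hy0 : (y : R₁) ≠ 0 := fun h => y.2 (by
      change (y : R₁) ∈ m₁
      rw [h]; exact zero_mem m₁)
    exact ((map_ne_zero_iff _ (IsFractionRing.injective R₁ K₁)).mpr hy0).isUnit
  let j : Algebra V₁ K₁ := (IsLocalization.lift hu).toAlgebra
  have t3 : IsScalarTower R₁ V₁ K₁ := IsScalarTower.of_algebraMap_eq fun x => (IsLocalization.lift_eq hu x).symm
  have t4 : IsFractionRing V₁ K₁ :=
    IsFractionRing.isFractionRing_of_isDomain_of_isLocalization m₁.primeCompl V₁ K₁
  refine ⟨hφloc, core hadj hB φ ?_ ψ ?_⟩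
  · have h1 : (algebraMap W' M).comp φ = (algebraMap K₁ M).comp (algebraMap V₁ K₁) := by
      apply IsLocalization.ringHom_ext m₁.primeCompl
      ext r
      change algebraMap W' M (φ (algebraMap R₁ V₁ r)) = algebraMap K₁ M (algebraMap V₁ K₁ (algebraMap R₁ V₁ r))
      rw [hφ, ← IsScalarTower.algebraMap_apply R₁ V₁ K₁, hKM]
      rfl
    exact fun x => congr($h1 x)
  · have h1 : (algebraMap W' M).comp ψ = (algebraMap L M).comp (algebraMap B L) := by
      apply IsLocalization.ringHom_ext p.primeCompl
      ext r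
      change algebraMap W' M (ψ (algebraMap A B r)) = algebraMap L M (algebraMap B L (algebraMap A B r))
      rw [hψA, ← IsScalarTower.algebraMap_apply A B L, hLM]
      rfl
    exact fun x => congr($h1 x)

include K L K₁ in
/-- The special fibre `N / π` is geometrically reduced over `k = R₁ / π`. -/
theorem geomRed_special [IsDedekindDomain R₁] [IsNoetherianRing N] (hN : EGA4.IsNormalRing N)
    (hreg : ∀ a : A, a ≠ 0 → algebraMap A N a ∈ nonZeroDivisors N)
    (hgen : ∀ n : N, ∃ r : R₁, r ≠ 0 ∧
      algebraMap R₁ N r * n ∈ Algebra.adjoin A (Set.range (algebraMap R₁ N)))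
    (hsol : ∀ (p : Ideal A) [p.IsPrime], p.height = 1 → p.comap (algebraMap R A) ≠ ⊥ → SolAt A K L K₁ p)
    (π : R₁) (hπ : Prime π) (k : Type u) [Field k] [Algebra R₁ k]
    (hk : Function.Surjective (algebraMap R₁ k)) (hker : RingHom.ker (algebraMap R₁ k) = Ideal.span {π})
    [Algebra k (N ⧸ Ideal.span {algebraMap R₁ N π})]
    (htower : ∀ r, algebraMap k (N ⧸ Ideal.span {algebraMap R₁ N π}) (algebraMap R₁ k r) =
      Ideal.Quotient.mk _ (algebraMap R₁ N r)) :
    Algebra.IsGeometricallyReduced k (N ⧸ Ideal.span {algebraMap R₁ N π}) := by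
  have hregπ : algebraMap R₁ N π ∈ nonZeroDivisors N := by
    have h1 : IsSMulRegular N π :=
      Module.Flat.isSMulRegular_of_nonZeroDivisors (mem_nonZeroDivisors_of_ne_zero hπ.ne_zero)
    refine mem_nonZeroDivisors_iff_right.mpr fun x hx => h1 ?_
    change π • x = π • (0 : N)
    rw [smul_zero, Algebra.smul_def, mul_comm]
    exact hx
  refine geomRed_quotient hN _ hregπ ?_
  intro q hqp hπq hdom hdvr
  let m₁ : Ideal R₁ := Ideal.span {π}
  have hm₁p : m₁.IsPrime := (Ideal.span_singleton_prime hπ.ne_zero).mpr hπ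
  have hm₁0 : m₁ ≠ ⊥ := by
    intro h
    exact hπ.ne_zero (Ideal.span_singleton_eq_bot.mp h)
  have hm₁m : m₁.IsMaximal := hm₁p.isMaximal hm₁0
  have hq : q.comap (algebraMap R₁ N) = m₁ := by
    refine (hm₁m.eq_of_le ?_ ?_).symm
    · exact (hqp.comap _).ne_top
    · rw [Ideal.span_singleton_le_iff_mem]; exact hπq
  let V₁ := Localization.AtPrime m₁
  have hV₁ : IsDiscreteValuationRing V₁ :=
    IsLocalization.AtPrime.isDiscreteValuationRing_of_dedekind_domain R₁ hm₁0 V₁
  let φ : V₁ →+* Localization.AtPrime q := Localization.localRingHom m₁ q (algebraMap R₁ N) hq.symm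
  have hφ : ∀ x, φ (algebraMap R₁ V₁ x) = algebraMap N (Localization.AtPrime q) (algebraMap R₁ N x) :=
    fun x => Localization.localRingHom_to_map _ _ _ _ _
  obtain ⟨hloc, h1, h2⟩ := solved (K := K) (L := L) (K₁ := K₁) hreg hgen hsol q m₁ hq hm₁0 V₁
    (Localization.AtPrime q) φ hφ
  refine ⟨?_, ?_⟩
  · rw [← h1, ← Localization.AtPrime.map_eq_maximalIdeal, Ideal.map_map, Ideal.map_span,
      Set.image_singleton]
    change Ideal.span {φ (algebraMap R₁ V₁ π)} ≤ _
    rw [hφ]
  · let e : k ≃+* ResidueField V₁ := (RingHom.quotientKerEquivOfSurjective hk).symm.trans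
      ((Ideal.quotEquivOfEq hker).trans (IsLocalization.AtPrime.equivQuotMaximalIdeal m₁ V₁))
    have he : ∀ r, e (algebraMap R₁ k r) = residue V₁ (algebraMap R₁ V₁ r) := by
      intro r
      change IsLocalization.AtPrime.equivQuotMaximalIdeal m₁ V₁ (Ideal.quotEquivOfEq hker
        ((RingHom.quotientKerEquivOfSurjective hk).symm (algebraMap R₁ k r))) = _
      rw [RingHom.quotientKerEquivOfSurjective_symm_apply, Ideal.quotEquivOfEq_mk,
        IsLocalization.AtPrime.equivQuotMaximalIdeal_apply_mk]
      rfl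
    let F := ResidueField (Localization.AtPrime q)
    let i1 : Algebra (ResidueField V₁) F := (ResidueField.map φ).toAlgebra
    let i2 : Algebra k F := ((ResidueField.map φ).comp e.toRingHom).toAlgebra
    refine ⟨F, inferInstance, i2, ?_, (residue _).comp (algebraMap N (Localization.AtPrime q)), ?_, ?_⟩
    · exact Groth.Agent.Etalg.SolNormal.geomReduced_of_hom e (RingHom.id F) (fun x => rfl) h2
    · ext x
      rw [RingHom.mem_ker, RingHom.comp_apply, residue_eq_zero_iff]
      exact IsLocalization.AtPrime.to_map_mem_maximal_iff (Localization.AtPrime q) q x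
    · intro c y hy
      obtain ⟨r, rfl⟩ := hk c
      rw [htower, Ideal.Quotient.eq] at hy
      have h3 : residue (Localization.AtPrime q) (algebraMap N _ (y - algebraMap R₁ N r)) = 0 := by
        rw [residue_eq_zero_iff, IsLocalization.AtPrime.to_map_mem_maximal_iff (Localization.AtPrime q) q]
        exact (Ideal.span_singleton_le_iff_mem q).mpr hπq hy
      rw [map_sub, map_sub, sub_eq_zero] at h3
      change residue (Localization.AtPrime q) (algebraMap N _ y) = ResidueField.map φ (e (algebraMap R₁ k r))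
      rw [h3, he, ResidueField.map_residue, hφ]

end

end K93.RedFib
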