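import Groth.Agent.AlgSp.K93.RFField
import Groth.Agent.AlgSp.K93.RFRing
import Groth.Agent.AlgSp.K93.RFEx
import Groth.Agent.Flat2E.FinSepClosure
import Groth.Agent.Flat2E.SplitIntegral

/-!
# Geometrically integral residue fields at the maximal points of the fibres: ring level
-/

set_option autoImplicit false
universe u

open TensorProduct nonZeroDivisors

namespace K93.RedFib

open Groth.Agent

/-- Every element of the field `Ω` is a fraction with numerator and denominator in `A`. -/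
def IsFrac (A Ω : Type u) [CommRing A] [Field Ω] [Algebra A Ω] : Prop :=
  ∀ z : Ω, ∃ a b : A, algebraMap A Ω b ≠ 0 ∧ z * algebraMap A Ω b = algebraMap A Ω a

section ring

variable {P P₂ A A₂ k k' Ω Ω' : Type u} [CommRing P] [CommRing P₂] [CommRing A] [CommRing A₂] [Algebra P P₂]
  [Algebra P A] [Algebra P₂ A₂] [Algebra A A₂] [Algebra P A₂] [IsScalarTower P P₂ A₂] [IsScalarTower P A A₂]
  [Algebra.IsPushout P A P₂ A₂] [Field k] [Field k'] [Field Ω] [Field Ω'] [Algebra P k] [Algebra P₂ k']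
  [Algebra k k'] [Algebra P k'] [IsScalarTower P k k'] [IsScalarTower P P₂ k'] [Algebra A Ω] [Algebra k Ω]
  [Algebra P Ω] [IsScalarTower P A Ω] [IsScalarTower P k Ω] [Algebra A₂ Ω'] [Algebra k' Ω'] [Algebra P₂ Ω']
  [IsScalarTower P₂ A₂ Ω'] [IsScalarTower P₂ k' Ω'] [Algebra Ω Ω'] [Algebra A Ω'] [IsScalarTower A Ω Ω']
  [IsScalarTower A A₂ Ω'] [Algebra k Ω'] [IsScalarTower k k' Ω'] [IsScalarTower k Ω Ω']

include P in
/-- Transfer of the splitting criterion to a base change. -/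
theorem isDomain_of_split (hk' : IsFrac P₂ k') (hΩ : IsFrac A Ω) (hΩ' : IsFrac A₂ Ω')
    (hmin : ∀ 𝔮 : Ideal A₂, 𝔮.IsPrime → 𝔮 ≤ RingHom.ker (algebraMap A₂ Ω') →
      (∀ r : P₂, algebraMap P₂ k' r = 0 → algebraMap P₂ A₂ r ∈ 𝔮) → RingHom.ker (algebraMap A₂ Ω') ≤ 𝔮)
    (hred : ∀ (K : Type u) [Field K] [Algebra k K], IsReduced (K ⊗[k] Ω))
    (hsplit : ∀ y : Ω, IsSeparable k y → ((minpoly k y).map (algebraMap k k')).Splits)
    (K : Type u) [Field K] [Algebra k' K] : IsDomain (Ω' ⊗[k'] K) := by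
  let φ : Ω ⊗[k] k' →ₐ[k] Ω' := Algebra.TensorProduct.lift (IsScalarTower.toAlgHom k Ω Ω')
    (IsScalarTower.toAlgHom k k' Ω') (fun _ _ => Commute.all _ _)
  have hφt : ∀ (a : Ω) (b : k'), φ (a ⊗ₜ b) = algebraMap Ω Ω' a * algebraMap k' Ω' b := fun a b =>
    Algebra.TensorProduct.lift_tmul _ _ _ _ _
  let ρ₁ : A →ₐ[P] Ω ⊗[k] k' :=
    { ((algebraMap Ω (Ω ⊗[k] k')).comp (algebraMap A Ω)) with
      commutes' := fun r => by
        change (algebraMap A Ω (algebraMap P A r)) ⊗ₜ[k] (1 : k') = (algebraMap P Ω r) ⊗ₜ 1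
        rw [← IsScalarTower.algebraMap_apply] }
  let ρ₂ : P₂ →ₐ[P] Ω ⊗[k] k' :=
    { ((Algebra.TensorProduct.includeRight : k' →ₐ[k] Ω ⊗[k] k').toRingHom.comp (algebraMap P₂ k')) with
      commutes' := fun r => by
        change (1 : Ω) ⊗ₜ[k] (algebraMap P₂ k' (algebraMap P P₂ r)) = (algebraMap P Ω r) ⊗ₜ 1
        rw [← IsScalarTower.algebraMap_apply, IsScalarTower.algebraMap_apply P k k',
          IsScalarTower.algebraMap_apply P k Ω]
        exact (Algebra.TensorProduct.tmul_one_eq_one_tmul (A := Ω) (B := k') (algebraMap P k r)).symm }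
  let ρ : A ⊗[P] P₂ →ₐ[P] Ω ⊗[k] k' := Algebra.TensorProduct.lift ρ₁ ρ₂ (fun _ _ => Commute.all _ _)
  have hρt : ∀ (a : A) (b : P₂), ρ (a ⊗ₜ b) = (algebraMap A Ω a) ⊗ₜ[k] (algebraMap P₂ k' b) := fun a b => by
    refine (Algebra.TensorProduct.lift_tmul _ _ _ _ _).trans ?_
    change ((algebraMap A Ω a) ⊗ₜ[k] (1 : k')) * ((1 : Ω) ⊗ₜ[k] (algebraMap P₂ k' b)) = _
    rw [Algebra.TensorProduct.tmul_mul_tmul, mul_one, one_mul]
  let e : A ⊗[P] P₂ ≃ₐ[A] A₂ := Algebra.IsPushout.equiv P A P₂ A₂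
  have he : ∀ t, φ (ρ t) = algebraMap A₂ Ω' (e t) := by
    intro t
    induction t using TensorProduct.induction_on with
    | zero => simp only [map_zero]
    | add x y hx hy => simp only [map_add, hx, hy]
    | tmul a b =>
      rw [hρt, hφt, Algebra.IsPushout.equiv_tmul, map_mul, ← IsScalarTower.algebraMap_apply A A₂ Ω',
        ← IsScalarTower.algebraMap_apply P₂ A₂ Ω', ← IsScalarTower.algebraMap_apply A Ω Ω',
        ← IsScalarTower.algebraMap_apply P₂ k' Ω']
  have hloc : ∀ x : Ω ⊗[k] k', ∃ t s : A ⊗[P] P₂, IsUnit (ρ s) ∧ x * ρ s = ρ t := by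
    intro x
    induction x using TensorProduct.induction_on with
    | zero => exact ⟨0, 1, by rw [map_one]; exact isUnit_one, by rw [zero_mul, map_zero]⟩
    | add x y hx hy =>
      obtain ⟨t, s, hs, h1⟩ := hx
      obtain ⟨t', s', hs', h2⟩ := hy
      refine ⟨t * s' + s * t', s * s', by rw [map_mul]; exact hs.mul hs', ?_⟩
      rw [map_mul, map_add, map_mul, map_mul, ← h1, ← h2]
      ring
    | tmul a b =>
      obtain ⟨a₁, a₂, ha, ha'⟩ := hΩ a
      obtain ⟨b₁, b₂, hb, hb'⟩ := hk' b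
      refine ⟨a₁ ⊗ₜ b₁, a₂ ⊗ₜ b₂, ?_, ?_⟩
      · rw [hρt]
        refine IsUnit.of_mul_eq_one ((algebraMap A Ω a₂)⁻¹ ⊗ₜ (algebraMap P₂ k' b₂)⁻¹) ?_
        rw [Algebra.TensorProduct.tmul_mul_tmul, mul_inv_cancel₀ ha, mul_inv_cancel₀ hb]
        rfl
      · rw [hρt, hρt, Algebra.TensorProduct.tmul_mul_tmul, ha', hb']
  refine isDomain_tensor_of_split hred hsplit φ.toRingHom (fun x => ?_) (fun y => ?_) (fun 𝔞 h𝔞 hle => ?_)
    (fun z => ?_) K
  · change φ (x ⊗ₜ 1) = _
    rw [hφt, map_one, mul_one]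
  · change φ (1 ⊗ₜ y) = _
    rw [hφt, map_one, one_mul]
  · have h1 := hmin ((𝔞.comap ρ.toRingHom).comap e.symm.toRingEquiv.toRingHom) inferInstance (fun x hx => ?_)
      (fun r hr => ?_)
    · intro x hx
      obtain ⟨t, s, hs, h2⟩ := hloc x
      have h3 : φ (ρ t) = 0 := by
        rw [← h2, map_mul]
        have : φ x = 0 := hx
        rw [this, zero_mul]
      rw [he] at h3
      have h4 : ρ (e.symm (e t)) ∈ 𝔞 := h1 h3
      rw [e.symm_apply_apply, ← h2] at h4
      exact (h𝔞.mem_or_mem h4).resolve_right fun h => h𝔞.ne_top (Ideal.eq_top_of_isUnit_mem _ h hs)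
    · have h2 : φ (ρ (e.symm x)) = 0 := hle hx
      rw [he, e.apply_symm_apply] at h2
      exact h2
    · change ρ (e.symm (algebraMap P₂ A₂ r)) ∈ 𝔞
      have h2 : e.symm (algebraMap P₂ A₂ r) = 1 ⊗ₜ r := by
        rw [AlgEquiv.symm_apply_eq, Algebra.IsPushout.equiv_tmul, map_one, one_mul]
      rw [h2, hρt, hr, TensorProduct.tmul_zero]
      exact zero_mem _
  · obtain ⟨a, b, hb, hab⟩ := hΩ' z
    refine ⟨ρ (e.symm a), ρ (e.symm b), ?_, ?_⟩
    · change φ (ρ (e.symm b)) ≠ 0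
      rw [he, e.apply_symm_apply]
      exact hb
    · change z * φ (ρ (e.symm b)) = φ (ρ (e.symm a))
      rw [he, he, e.apply_symm_apply, e.apply_symm_apply]
      exact hab

end ring

section red

/-- Reducedness of a base change passes to localizations. -/
theorem isReduced_tensor_loc {k C Ω K : Type u} [Field k] [CommRing C] [Algebra k C] [Field K] [Algebra k K]
    [CommRing Ω] [Algebra k Ω] [Algebra C Ω] [IsScalarTower k C Ω] (M : Submonoid C) [IsLocalization M Ω]
    (h : IsReduced (C ⊗[k] K)) : IsReduced (Ω ⊗[k] K) := by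
  let A := C ⊗[k] K
  have hloc : IsLocalization (Algebra.algebraMapSubmonoid A M) (A ⊗[C] Ω) := inferInstance
  have h6 : IsReduced (A ⊗[C] Ω) :=
    isReduced_localizationPreserves (Algebra.algebraMapSubmonoid A M) (A ⊗[C] Ω) h
  let e3 : Ω ⊗[C] (C ⊗[k] K) ≃ₐ[Ω] Ω ⊗[k] K := Algebra.TensorProduct.cancelBaseChange k C Ω Ω K
  let e4 : Ω ⊗[C] (C ⊗[k] K) ≃ₐ[C] A ⊗[C] Ω := Algebra.TensorProduct.comm C Ω A
  have h7 : IsReduced (Ω ⊗[C] (C ⊗[k] K)) := isReduced_of_injective e4.toRingEquiv.toRingHom e4.injective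
  exact isReduced_of_injective e3.symm.toRingEquiv.toRingHom e3.symm.injective

/-- A field generated by a reduced ring, with minimal kernel, is a localization. -/
theorem isLocalization_of_minimal {C Ω : Type u} [CommRing C] [IsReduced C] [Field Ω] [Algebra C Ω]
    (hΩ : IsFrac C Ω) (hmin : ∀ 𝔮 : Ideal C, 𝔮.IsPrime → 𝔮 ≤ RingHom.ker (algebraMap C Ω) →
      RingHom.ker (algebraMap C Ω) ≤ 𝔮) :
    ∃ M : Submonoid C, IsLocalization M Ω := by
  let n := RingHom.ker (algebraMap C Ω)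
  have hn : n.IsPrime := RingHom.ker_isPrime _
  refine ⟨n.primeCompl, ?_, ?_, ?_⟩
  · rintro ⟨x, hx⟩
    exact (Ne.isUnit fun h => hx h)
  · intro z
    obtain ⟨a, b, hb, hab⟩ := hΩ z
    exact ⟨(a, ⟨b, hb⟩), hab⟩
  · intro x y hxy
    have h1 : x - y ∈ n := by
      change algebraMap C Ω (x - y) = 0
      rw [map_sub, hxy, sub_self]
    have h2 : IsNilpotent (algebraMap C (Localization.AtPrime n) (x - y)) := by
      rw [nilpotent_iff_mem_prime]
      intro J hJ
      have h3 : (J.comap (algebraMap C (Localization.AtPrime n))) ≤ n := by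
        intro c hc
        by_contra hcn
        exact hJ.ne_top (Ideal.eq_top_of_isUnit_mem _ hc
          (IsLocalization.map_units (Localization.AtPrime n) (⟨c, hcn⟩ : n.primeCompl)))
      exact hmin _ (hJ.comap _) h3 h1
    have h3 := h2.eq_zero
    obtain ⟨c, hc⟩ := (IsLocalization.map_eq_zero_iff n.primeCompl (Localization.AtPrime n) (x - y)).mp h3
    exact ⟨c, by rw [mul_sub, sub_eq_zero] at hc; exact hc⟩

/-- The residue field at a maximal point of a geometrically reduced fibre is a localization of a finitely generated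
algebra, and geometrically reduced. -/
theorem geomRed_residue {P A k Ω : Type u} [CommRing P] [CommRing A] [Field k] [Field Ω] [Algebra P A] [Algebra P k]
    [Algebra A Ω] [Algebra k Ω] [Algebra P Ω] [IsScalarTower P A Ω] [IsScalarTower P k Ω] (hA : GeomRed P A)
    (hk : IsFrac P k) (hΩ : IsFrac A Ω)
    (hmin : ∀ 𝔮 : Ideal A, 𝔮.IsPrime → 𝔮 ≤ RingHom.ker (algebraMap A Ω) →
      (∀ r : P, algebraMap P k r = 0 → algebraMap P A r ∈ 𝔮) → RingHom.ker (algebraMap A Ω) ≤ 𝔮) :
    (∀ (K : Type u) [Field K] [Algebra k K], IsReduced (K ⊗[k] Ω)) ∧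
      (Algebra.FiniteType P A → Algebra.EssFiniteType k Ω) := by
  let C := k ⊗[P] A
  let iA : A →ₐ[P] Ω := IsScalarTower.toAlgHom P A Ω
  let iC : C →ₐ[k] Ω := Algebra.TensorProduct.lift (Algebra.ofId k Ω) iA (fun _ _ => Commute.all _ _)
  have hiC : ∀ (a : k) (b : A), iC (a ⊗ₜ b) = algebraMap k Ω a * algebraMap A Ω b := fun a b =>
    Algebra.TensorProduct.lift_tmul _ _ _ _ _
  let _ : Algebra C Ω := iC.toRingHom.toAlgebra
  have t : IsScalarTower k C Ω := IsScalarTower.of_algebraMap_eq' iC.comp_algebraMap.symm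
  have hC : IsReduced C := by
    have := hA k
    exact isReduced_of_injective (Algebra.TensorProduct.comm P k A).toRingEquiv.toRingHom
      (Algebra.TensorProduct.comm P k A).injective
  have hfr : IsFrac C Ω := by
    intro z
    obtain ⟨a, b, hb, hab⟩ := hΩ z
    refine ⟨1 ⊗ₜ a, 1 ⊗ₜ b, ?_, ?_⟩
    · change iC (1 ⊗ₜ b) ≠ 0
      rw [hiC, map_one, one_mul]
      exact hb
    · change z * iC (1 ⊗ₜ b) = iC (1 ⊗ₜ a)
      rw [hiC, hiC, map_one, one_mul, one_mul]
      exact hab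
  have hfrac : ∀ x : C, ∃ (c : P) (a : A), algebraMap P k c ≠ 0 ∧ x * ((algebraMap P k c) ⊗ₜ 1) = 1 ⊗ₜ a := by
    intro x
    induction x using TensorProduct.induction_on with
    | zero => exact ⟨1, 0, by rw [map_one]; exact one_ne_zero, by rw [zero_mul, TensorProduct.tmul_zero]⟩
    | tmul b a =>
      obtain ⟨p, q, hq, hpq⟩ := hk b
      refine ⟨q, algebraMap P A p * a, hq, ?_⟩
      rw [Algebra.TensorProduct.tmul_mul_tmul, hpq, mul_one, ← Algebra.smul_def, ← TensorProduct.smul_tmul,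
        Algebra.smul_def, mul_one]
    | add x y hx hy =>
      obtain ⟨c, a, hc, h1⟩ := hx
      obtain ⟨c', a', hc', h2⟩ := hy
      refine ⟨c * c', algebraMap P A c' * a + algebraMap P A c * a', by rw [map_mul]; exact mul_ne_zero hc hc', ?_⟩
      have h3 : ((algebraMap P k (c * c')) ⊗ₜ (1 : A) : C) =
          ((algebraMap P k c) ⊗ₜ 1) * ((algebraMap P k c') ⊗ₜ 1) := by
        rw [Algebra.TensorProduct.tmul_mul_tmul, mul_one, map_mul]
      have h4 : ∀ c : P, ((algebraMap P k c) ⊗ₜ (1 : A) : C) = 1 ⊗ₜ (algebraMap P A c) := fun c =>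
        Algebra.TensorProduct.tmul_one_eq_one_tmul (A := k) (B := A) c
      rw [h3, add_mul, ← mul_assoc, h1, mul_left_comm, h2, h4, h4, TensorProduct.tmul_add,
        Algebra.TensorProduct.tmul_mul_tmul, Algebra.TensorProduct.tmul_mul_tmul, mul_one, mul_comm a]
  have hminC : ∀ 𝔮 : Ideal C, 𝔮.IsPrime → 𝔮 ≤ RingHom.ker (algebraMap C Ω) →
      RingHom.ker (algebraMap C Ω) ≤ 𝔮 := by
    intro 𝔮 h𝔮 hle x hx
    have h1 := hmin (𝔮.comap (Algebra.TensorProduct.includeRight : A →ₐ[P] C).toRingHom) inferInstance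
      (fun a ha => ?_) (fun r hr => ?_)
    · obtain ⟨c, a, hc, h2⟩ := hfrac x
      have h3 : algebraMap A Ω a = 0 := by
        have h4 : iC (1 ⊗ₜ a) = 0 := by
          rw [← h2, map_mul]
          have : iC x = 0 := hx
          rw [this, zero_mul]
        rw [hiC, map_one, one_mul] at h4
        exact h4
      have h4 : (1 ⊗ₜ a : C) ∈ 𝔮 := h1 h3
      rw [← h2] at h4
      refine (h𝔮.mem_or_mem h4).resolve_right fun h => h𝔮.ne_top (Ideal.eq_top_of_isUnit_mem _ h ?_)
      refine IsUnit.of_mul_eq_one ((algebraMap P k c)⁻¹ ⊗ₜ 1) ?_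
      rw [Algebra.TensorProduct.tmul_mul_tmul, mul_inv_cancel₀ hc, mul_one]
      rfl
    · have h2 : iC (1 ⊗ₜ a) = 0 := hle ha
      rw [hiC, map_one, one_mul] at h2
      exact h2
    · change (1 ⊗ₜ (algebraMap P A r) : C) ∈ 𝔮
      rw [← Algebra.TensorProduct.tmul_one_eq_one_tmul (A := k) (B := A) r, hr, TensorProduct.zero_tmul]
      exact zero_mem _
  obtain ⟨M, hM⟩ := isLocalization_of_minimal hfr hminC
  refine ⟨fun K _ _ => ?_, fun hft => ?_⟩
  · let _ : Algebra P K := ((algebraMap k K).comp (algebraMap P k)).toAlgebra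
    have t' : IsScalarTower P k K := IsScalarTower.of_algebraMap_eq' rfl
    have h1 : IsReduced (A ⊗[P] K) := hA K
    have h2 : IsReduced (K ⊗[P] A) := isReduced_of_injective (Algebra.TensorProduct.comm P K A).toRingEquiv.toRingHom
      (Algebra.TensorProduct.comm P K A).injective
    let e1 : K ⊗[k] (k ⊗[P] A) ≃ₐ[K] K ⊗[P] A := Algebra.TensorProduct.cancelBaseChange P k K K A
    have h3 : IsReduced (K ⊗[k] C) := isReduced_of_injective e1.toRingEquiv.toRingHom e1.injective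
    have h4 : IsReduced (C ⊗[k] K) := isReduced_of_injective (Algebra.TensorProduct.comm k C K).toRingEquiv.toRingHom
      (Algebra.TensorProduct.comm k C K).injective
    have h5 : IsReduced (Ω ⊗[k] K) := isReduced_tensor_loc M h4
    exact isReduced_of_injective (Algebra.TensorProduct.comm k K Ω).toRingEquiv.toRingHom
      (Algebra.TensorProduct.comm k K Ω).injective
  · have h1 : Algebra.FiniteType k C := inferInstance
    have h2 : Algebra.EssFiniteType C Ω := Algebra.EssFiniteType.of_isLocalization Ω M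
    exact Algebra.EssFiniteType.comp k C Ω

end red

end K93.RedFib
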