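import Groth.Agent.AlgSp.K93.RFMain

/-!
# The reduced fibre theorem: existence of good models over large extensions
-/

set_option autoImplicit false
universe u

open CategoryTheory CategoryTheory.Limits AlgebraicGeometry TensorProduct nonZeroDivisors

noncomputable section

namespace K93.RedFib

open Groth.Agent

/-- Composition of modifications which are isomorphisms on the generic fibre. -/
theorem GIso.comp {P : Type u} [CommRing P] {X Y Z : Scheme.{u}} {g : X ⟶ Spec (.of P)} {ν : Y ⟶ X} {μ : Z ⟶ Y}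
    (hν : GIso g ν) (hμ : GIso (ν ≫ g) μ) : GIso g (μ ≫ ν) := by
  intro K' _ _ hinj
  have h1 := hν K' hinj
  have h2 := hμ K' hinj
  have h3 := ((IsPullback.of_hasPullback ν (genι g K')).flip.paste_horiz
    (IsPullback.of_hasPullback g (Spec.map (CommRingCat.ofHom (algebraMap P K')))).flip).flip
  have h4 : pullback.fst ν (genι g K') = h3.isoPullback.hom ≫ genι (ν ≫ g) K' := h3.isoPullback_hom_fst.symm
  have h5 : IsIso (pullback.snd μ (pullback.fst ν (genι g K'))) := isIso_snd_comp μ _ (genι (ν ≫ g) K') _ h4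
  have h6 := (IsPullback.of_hasPullback μ (pullback.fst ν (genι g K'))).flip.paste_horiz
    (IsPullback.of_hasPullback ν (genι g K')).flip
  rw [← h6.flip.isoPullback_inv_snd]
  infer_instance

/-- Composition of a good model with a modification. -/
theorem IsGood.comp {P : Type u} [CommRing P] {X Y Z : Scheme.{u}} {g : X ⟶ Spec (.of P)} {ν : Y ⟶ X} {μ : Z ⟶ Y}
    (h1 : IsFinite ν) (h2 : Surjective ν) (h3 : GIso g ν) (hμ : IsGood (ν ≫ g) μ) : IsGood g (μ ≫ ν) where
  finite := have := hμ.finite; inferInstance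
  surjective := have := hμ.surjective; inferInstance
  gIso := h3.comp hμ.gIso
  flat := by rw [Category.assoc]; exact hμ.flat
  reduced := by rw [Category.assoc]; exact hμ.reduced

section main

variable {R K : Type u} [CommRing R] [IsDedekindDomain R] [Finite (MaximalSpectrum R)] [Field K] [Algebra R K]
  [IsFractionRing R K] {X : Scheme.{u}} {g : X ⟶ Spec (.of R)} [Flat g] [LocallyOfFiniteType g] [QuasiCompact g]

theorem exists_good_normal (hX : Pi1.IsNormalScheme X) (hg : GN g) :
    Large K (fun K₂ => ∀ (R₂ : Type u) [CommRing R₂] [IsDedekindDomain R₂] [Finite (MaximalSpectrum R₂)]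
      [Algebra R R₂] [Algebra.IsIntegral R R₂] [Algebra R₂ K₂] [IsFractionRing R₂ K₂] [Algebra R K₂]
      [IsScalarTower R K K₂] [IsScalarTower R R₂ K₂] (X₂ : Scheme.{u}) (g₂ : X₂ ⟶ Spec (.of R₂)) (ι₂ : X₂ ⟶ X)
      (_ : IsPullback ι₂ g₂ g (Spec.map (CommRingCat.ofHom (algebraMap R R₂)))), IsGood g₂ (modelMap g₂ K₂)) := by
  obtain ⟨ι, hι, W, hW, hcov, hdom⟩ := exists_cover g hX
  obtain ⟨a, ha, hall⟩ := exists_mem_all R
  have h1 : ∀ i, Large K (fun K₂ [Field K₂] [Algebra K K₂] =>
      @AllSol R Γ(X, W i) K K₂ _ _ (str g (W i)).toAlgebra _ _ _ _) := by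
    intro i
    let _ : Algebra R Γ(X, W i) := (str g (W i)).toAlgebra
    have hd := (hdom i).1
    have hc := (hdom i).2
    have hfl : Module.Flat R Γ(X, W i) := flat_str g (hW i)
    have hft : Algebra.FiniteType R Γ(X, W i) := finiteType_str g (hW i)
    have hN : IsNoetherianRing Γ(X, W i) := Algebra.FiniteType.isNoetherianRing R _
    exact exists_allSol R Γ(X, W i) K (FaithfulSMul.algebraMap_injective R Γ(X, W i)) a ha hall
  refine (Large.forall_finite _ h1).mono fun K₂ _ _ _ h2 => ?_
  intro R₂ _ _ _ _ _ _ _ _ _ _ X₂ g₂ ι₂ hp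
  have hinjRK₂ : Function.Injective (algebraMap R K₂) := by
    rw [IsScalarTower.algebraMap_eq R K K₂, RingHom.coe_comp]
    exact (algebraMap K K₂).injective.comp (IsFractionRing.injective R K)
  have hinj : Function.Injective (algebraMap R R₂) := by
    rw [IsScalarTower.algebraMap_eq R R₂ K₂, RingHom.coe_comp] at hinjRK₂
    exact Function.Injective.of_comp hinjRK₂
  have hg₂ : Flat g₂ := MorphismProperty.of_isPullback hp ‹_›
  have hg₂' : LocallyOfFiniteType g₂ := MorphismProperty.of_isPullback hp ‹_›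
  have hGN : GN g₂ := hg.baseChange hp hinj
  exact ⟨isFinite_modelMap hGN, surjective_modelMap, gIso_modelMap, flat_model,
    allSol_geomRed (R := R) (K := K) hg hp W hW hcov hdom h2⟩

/-- The reduced fibre theorem. -/
theorem exists_good (hg : GN g) :
    Large K (fun K₂ => ∀ (R₂ : Type u) [CommRing R₂] [IsDedekindDomain R₂] [Finite (MaximalSpectrum R₂)]
      [Algebra R R₂] [Algebra.IsIntegral R R₂] [Algebra R₂ K₂] [IsFractionRing R₂ K₂] [Algebra R K₂]
      [IsScalarTower R K K₂] [IsScalarTower R R₂ K₂] (X₂ : Scheme.{u}) (g₂ : X₂ ⟶ Spec (.of R₂)) (ι₂ : X₂ ⟶ X)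
      (_ : IsPullback ι₂ g₂ g (Spec.map (CommRingCat.ofHom (algebraMap R R₂)))),
      ∃ (Y : Scheme.{u}) (ν : Y ⟶ X₂), IsGood g₂ ν) := by
  have hf : IsFinite (modelMap g K) := isFinite_modelMap hg
  have hfl : Flat (modelMap g K ≫ g) := flat_model
  have hsur : Surjective (modelMap g K) := surjective_modelMap
  have hgi : GIso g (modelMap g K) := gIso_modelMap
  have hlf : LocallyOfFiniteType (modelMap g K ≫ g) := inferInstance
  have hqc : QuasiCompact (modelMap g K ≫ g) := inferInstance
  refine (exists_good_normal (K := K) (isNormalScheme_model hg) (GN.of_gIso hg hgi)).mono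
    fun K₂ _ _ _ h2 => ?_
  intro R₂ _ _ _ _ _ _ _ _ _ _ X₂ g₂ ι₂ hp
  have hinjRK₂ : Function.Injective (algebraMap R K₂) := by
    rw [IsScalarTower.algebraMap_eq R K K₂, RingHom.coe_comp]
    exact (algebraMap K K₂).injective.comp (IsFractionRing.injective R K)
  have hinj : Function.Injective (algebraMap R R₂) := by
    rw [IsScalarTower.algebraMap_eq R R₂ K₂, RingHom.coe_comp] at hinjRK₂
    exact Function.Injective.of_comp hinjRK₂
  have hq := IsPullback.of_hasPullback (modelMap g K) ι₂
  have h3 := h2 R₂ (pullback (modelMap g K) ι₂) (pullback.snd (modelMap g K) ι₂ ≫ g₂)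
    (pullback.fst (modelMap g K) ι₂) (hq.flip.paste_horiz hp.flip).flip
  exact ⟨_, _, IsGood.comp (MorphismProperty.of_isPullback hq hf) (MorphismProperty.of_isPullback hq hsur)
    (hgi.baseChange hp hinj hq) h3⟩

end main

end K93.RedFib
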